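import Cfsg.Agent.Lib.MinDeg66.Moved

/-!
Commuting lifts of the double transpositions on four points.
-/

set_option autoImplicit false

namespace Cfsg.Agent.Lib.MinDeg66

open Equiv Equiv.Perm Module
open scoped commutatorElement

/-- A double transposition of four points. -/
def dblA : Perm (Fin 4) := swap 0 1 * swap 2 3

/-- A three-cycle of four points. -/
def triA : Perm (Fin 4) := swap 0 1 * swap 1 2

/-- Its conjugate by the three-cycle. -/
def dblB : Perm (Fin 4) := triA * dblA * triA⁻¹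

theorem dblA_mem : dblA ∈ alternatingGroup (Fin 4) := by rw [mem_alternatingGroup]; decide

theorem dblB_mem : dblB ∈ alternatingGroup (Fin 4) := by rw [mem_alternatingGroup]; decide

theorem triA_eq : triA = pv (Fin.castLEEmb (by omega : 3 ≤ 4)) (finRotate 3) := by
  refine eq_pv _ (fun x => ?_) fun y hy => ?_
  · fin_cases x <;> decide
  · fin_cases y
    · exact absurd ⟨0, rfl⟩ hy
    · exact absurd ⟨1, rfl⟩ hy
    · exact absurd ⟨2, rfl⟩ hy
    · decide

variable {k V Γ : Type*} [Field k] [AddCommGroup V] [Module k V] [Group Γ] {m r : ℕ}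
  {ρ : Representation k Γ V} {π : Γ →* Perm (Fin r)}

/-- Lifts of double transpositions on the range of `e` commute. -/
def BlockLin (π : Γ →* Perm (Fin r)) (e : Fin 4 ↪ Fin r) : Prop :=
  ∀ x y, π x = pv e dblA → π y = pv e dblB → Commute x y

/-- The two chosen lifts of double transpositions on the range of `e`. -/
structure Block (h : AltRep r ρ π) (hc3 : CycOK 3 r) (e : Fin 4 ↪ Fin r) (B a0 a1 : Γ) : Prop where
  mapB : π B = pv e dblA
  eq0 : a0 = ⁅h.can hc3 ((Fin.castLEEmb (by omega : 3 ≤ 4)).trans e), B⁆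
  eq1 : a1 = h.can hc3 ((Fin.castLEEmb (by omega : 3 ≤ 4)).trans e) * a0 *
    (h.can hc3 ((Fin.castLEEmb (by omega : 3 ≤ 4)).trans e))⁻¹
  next1 : h.can hc3 ((Fin.castLEEmb (by omega : 3 ≤ 4)).trans e) * a1 *
    (h.can hc3 ((Fin.castLEEmb (by omega : 3 ≤ 4)).trans e))⁻¹ = a0 * a1
  sq0 : a0 ^ 2 = 1
  sq1 : a1 ^ 2 = 1
  comm : Commute a0 a1
  ne : a0 ≠ 1
  map0 : π a0 = pv e (dblB * dblA⁻¹)
  map1 : π a1 = pv e (triA * (dblB * dblA⁻¹) * triA⁻¹)

theorem AltRep.map_three_of_four (h : AltRep r ρ π) (hc3 : CycOK 3 r) (e : Fin 4 ↪ Fin r) :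
    π (h.can hc3 ((Fin.castLEEmb (by omega : 3 ≤ 4)).trans e)) = pv e triA := by
  rw [h.map_can hc3, pv_trans, triA_eq]

theorem AltRep.exists_block (h : AltRep r ρ π) (hc3 : CycOK 3 r) {e : Fin 4 ↪ Fin r}
    (hlin : BlockLin π e) : ∃ B a0 a1, Block h hc3 e B a0 a1 := by
  obtain ⟨B, hB⟩ := h.exists_lift (pv_mem e dblA_mem)
  set t := h.can hc3 ((Fin.castLEEmb (by omega : 3 ≤ 4)).trans e) with ht
  have hπt : π t = pv e triA := h.map_three_of_four hc3 e
  set B1 := t * B * t⁻¹ with hB1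
  set B2 := t * B1 * t⁻¹ with hB2
  have h3 : t ^ 3 = 1 := h.can_pow hc3 _
  have hB3 : t * B2 * t⁻¹ = B := by
    have h3' : t * t * t = 1 := by rw [← h3, pow_succ, pow_two]
    rw [hB2, hB1, show t * (t * (t * B * t⁻¹) * t⁻¹) * t⁻¹ = t * t * t * B * (t * t * t)⁻¹ by group, h3']
    group
  have c01 : Commute B B1 := hlin B B1 hB (by rw [hB1]; simp [hB, hπt, dblB])
  have c12 : Commute B1 B2 := by
    have := c01.map (MulAut.conj t).toMonoidHom
    simpa [hB1, hB2] using this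
  have c20 : Commute B2 B := by
    have h' : Commute (t * B1 * t⁻¹) (t * B2 * t⁻¹) := by
      have := c12.map (MulAut.conj t).toMonoidHom
      simpa using this
    rwa [← hB2, hB3] at h'
  have hsq : π (B ^ 2) = 1 := by
    rw [map_pow, hB, ← map_pow, show dblA ^ 2 = 1 by decide, map_one]
  have hB1sq : B1 ^ 2 = B ^ 2 := by
    rw [hB1, conj_pow, ← (h.central hsq t).eq, mul_inv_cancel_right]
  have hB2sq : B2 ^ 2 = B ^ 2 := by
    rw [hB2, conj_pow, hB1sq, ← (h.central hsq t).eq, mul_inv_cancel_right]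
  set a0 := B1 * B⁻¹ with ha0
  set a1 := B2 * B1⁻¹ with ha1
  have e0 : a0 = ⁅t, B⁆ := by rw [ha0, hB1, commutatorElement_def]
  have e1 : a1 = t * a0 * t⁻¹ := by
    rw [ha1, ha0, show t * (B1 * B⁻¹) * t⁻¹ = t * B1 * t⁻¹ * (t * B * t⁻¹)⁻¹ by group, ← hB2, ← hB1]
  have s0 : a0 ^ 2 = 1 := by
    rw [ha0, (c01.symm.inv_right).mul_pow, inv_pow, hB1sq, mul_inv_cancel]
  have s1 : a1 ^ 2 = 1 := by
    rw [ha1, (c12.symm.inv_right).mul_pow, inv_pow, hB2sq, hB1sq, mul_inv_cancel]
  have hcomm : Commute a0 a1 :=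
    ((c12.mul_right (Commute.refl B1).inv_right).mul_left
      ((c20.symm.mul_right c01.inv_right).inv_left))
  have n1 : t * a1 * t⁻¹ = a0 * a1 := by
    have : t * a1 * t⁻¹ = B * B2⁻¹ := by
      rw [ha1, show t * (B2 * B1⁻¹) * t⁻¹ = t * B2 * t⁻¹ * (t * B1 * t⁻¹)⁻¹ by group, hB3, ← hB2]
    rw [this]
    have i0 : a0⁻¹ = a0 := inv_eq_of_mul_eq_one_right (by rw [← pow_two, s0])
    have i1 : a1⁻¹ = a1 := inv_eq_of_mul_eq_one_right (by rw [← pow_two, s1])
    conv_rhs => rw [← i0, ← i1]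
    rw [ha0, ha1]
    group
  have p0 : π a0 = pv e (dblB * dblA⁻¹) := by
    rw [ha0, hB1]; simp [hB, hπt, dblB]
  have p1 : π a1 = pv e (triA * (dblB * dblA⁻¹) * triA⁻¹) := by
    rw [e1, map_mul π, map_mul π, map_inv π, p0, hπt]
    simp [map_mul]
  refine ⟨B, a0, a1, hB, e0, e1, n1, s0, s1, hcomm, fun e' => ?_, p0, p1⟩
  rw [e', map_one, ← map_one (pv e)] at p0
  exact absurd (pv_injective e p0) (by decide)

/-- The joint decomposition for two commuting involutions permuted by an element of order three. -/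
theorem involution_triple [FiniteDimensional k V] {t a0 a1 : Γ} (h2 : (2 : k) ≠ 0)
    (e1 : a1 = t * a0 * t⁻¹) (n1 : t * a1 * t⁻¹ = a0 * a1) (s0 : a0 ^ 2 = 1) (s1 : a1 ^ 2 = 1)
    (hcomm : Commute a0 a1) :
    ∃ d : ℕ, finrank k (LinearMap.range (ρ a0 - 1)) = 2 * d ∧
      finrank k (LinearMap.ker (ρ a0 - 1) ⊓ LinearMap.ker (ρ a1 - 1) : Submodule k V) + 3 * d =
        finrank k V ∧
      finrank k (LinearMap.range (ρ a0 - 1) ⊔ LinearMap.range (ρ a1 - 1) : Submodule k V) ≤ 3 * d ∧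
      (finrank k (LinearMap.ker (ρ a0 + 1) ⊓ LinearMap.ker (ρ a1 - 1) : Submodule k V) = d ∧
        (LinearMap.ker (ρ a0 - 1) ⊓ LinearMap.ker (ρ a1 - 1)) ⊔
          (LinearMap.range (ρ a0 - 1) ⊔ LinearMap.range (ρ a1 - 1)) = (⊤ : Submodule k V) ∧
        ∀ g, Commute g t → (∀ v, ρ a0 v = -v → ρ a1 v = v → ρ g v = v) →
          LinearMap.range (ρ a0 - 1) ⊔ LinearMap.range (ρ a1 - 1) ≤ LinearMap.ker (ρ g - 1)) ∧
      (t ^ 3 = 1 → (∀ v, ρ a0 v = v → ρ a1 v = v → ρ t v = v) →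
        finrank k (LinearMap.range (ρ t - 1)) = 2 * d ∧
          LinearMap.range (ρ t - 1) ≤ LinearMap.range (ρ a0 - 1) ⊔ LinearMap.range (ρ a1 - 1)) := by
  have hm : ((2 : ℕ) : k) ≠ 0 := by simpa using h2
  have hζ : IsPrimitiveRoot (-1 : k) 2 := by
    refine IsPrimitiveRoot.mk_of_lt _ (by norm_num) (by norm_num) fun l hl hl2 hpow => ?_
    obtain rfl : l = 1 := by omega
    exact h2 (by linear_combination -hpow)
  have hev : ev (m := 2) (-1 : k) 1 = -1 := by rw [ev, show (1 : ZMod 2).val = 1 from rfl, pow_one]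
  let x : Fin 2 → Γ := ![a0, a1]
  have hmem : ∀ (c d : ZMod 2) (v : V), v ∈ wsp ρ (-1 : k) x ![c, d] ↔
      ρ a0 v = ev (-1 : k) c • v ∧ ρ a1 v = ev (-1 : k) d • v := by
    intro c d v
    rw [mem_wsp, Fin.forall_fin_two]
    rfl
  set W01 := wsp ρ (-1 : k) x ![(0 : ZMod 2), 1] with hW01
  set W10 := wsp ρ (-1 : k) x ![(1 : ZMod 2), 0] with hW10
  set W11 := wsp ρ (-1 : k) x ![(1 : ZMod 2), 1] with hW11
  set W00 := wsp ρ (-1 : k) x ![(0 : ZMod 2), 0] with hW00
  have k0 : a0 * t = t * (a0 * a1) := by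
    have : t * (a0 * a1) * t⁻¹ = a0 := by
      rw [show t * (a0 * a1) * t⁻¹ = t * a0 * t⁻¹ * (t * a1 * t⁻¹) by group, n1, ← e1, hcomm.eq,
        ← mul_assoc, ← pow_two, s1, one_mul]
    conv_lhs => rw [← this]
    group
  have k1 : a1 * t = t * a0 := by rw [e1]; group
  have a0t : ∀ v, ρ a0 (ρ t v) = ρ t (ρ a0 (ρ a1 v)) := fun v => by
    rw [← Module.End.mul_apply, ← map_mul, k0, map_mul, map_mul]
    rfl
  have a1t : ∀ v, ρ a1 (ρ t v) = ρ t (ρ a0 v) := fun v => by
    rw [← Module.End.mul_apply, ← map_mul, k1, map_mul]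
    rfl
  have m01 : ∀ v ∈ W01, ρ t v ∈ W10 := fun v hv => by
    rw [hW01, hmem] at hv
    rw [hW10, hmem, a0t, a1t, hv.1, ev_zero, one_smul, hv.2, map_smul, hv.1, ev_zero]
    simp
  have m10 : ∀ v ∈ W10, ρ t v ∈ W11 := fun v hv => by
    rw [hW10, hmem] at hv
    rw [hW11, hmem, a0t, a1t, hv.2, ev_zero, one_smul, hv.1, map_smul]
    exact ⟨rfl, rfl⟩
  have m11 : ∀ v ∈ W11, ρ t v ∈ W01 := fun v hv => by
    rw [hW11, hmem] at hv
    rw [hW01, hmem, a0t, a1t, hv.2, map_smul, hv.1, hev]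
    simp [ev_zero]
  have hle : ∀ (W W' : Submodule k V), (∀ v ∈ W, ρ t v ∈ W') → finrank k W ≤ finrank k W' := by
    intro W W' hW
    refine LinearMap.finrank_le_finrank_of_injective
      (f := ((ρ t).comp W.subtype).codRestrict W' fun v => hW v v.2) fun u v e => Subtype.ext ?_
    have h1' : ρ t u = ρ t v := congrArg Subtype.val e
    have h2' := congrArg (ρ t⁻¹) h1'
    rwa [Representation.inv_self_apply, Representation.inv_self_apply] at h2'
  set d := finrank k W01 with hd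
  have d10 : finrank k W10 = d := by
    have := hle _ _ m01; have := hle _ _ m10; have := hle _ _ m11
    omega
  have d11 : finrank k W11 = d := by
    have := hle _ _ m01; have := hle _ _ m10; have := hle _ _ m11
    omega
  have hker : (LinearMap.ker (ρ a0 - 1) ⊓ LinearMap.ker (ρ a1 - 1) : Submodule k V) = W00 := by
    ext v
    rw [hW00, hmem, ev_zero, Submodule.mem_inf, LinearMap.mem_ker, LinearMap.mem_ker]
    simp [sub_eq_zero]
  let P : ZMod 2 → ZMod 2 → V → V := fun c d v => eproj ρ (-1 : k) a1 d (eproj ρ (-1 : k) a0 c v)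
  have hP : ∀ c d v, P c d v ∈ wsp ρ (-1 : k) x ![c, d] := by
    intro c d v
    rw [hmem]
    refine ⟨?_, eigen_eproj hζ one_lt_two s1 d _⟩
    rw [commute_eproj hcomm, eigen_eproj hζ one_lt_two s0 c, map_smul]
  have hsum : ∀ v, P 0 0 v + P 0 1 v + (P 1 0 v + P 1 1 v) = v := by
    intro v
    have e2 : ∀ f : ZMod 2 → V, ∑ c, f c = f 0 + f 1 := fun f => Fin.sum_univ_two f
    conv_rhs => rw [← sum_eproj (ρ := ρ) hζ hm a0 v, e2, ← sum_eproj (ρ := ρ) hζ hm a1 (eproj ρ _ a0 0 v),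
      e2, ← sum_eproj (ρ := ρ) hζ hm a1 (eproj ρ _ a0 1 v), e2]
  have hup : finrank k W00 + 3 * d ≤ finrank k V := by
    have := sum_wsp_le (ρ := ρ) (x := x) hζ hm
      ({![(0 : ZMod 2), 0], ![0, 1], ![1, 0], ![1, 1]} : Finset (Fin 2 → ZMod 2))
    rw [Finset.sum_insert (by decide), Finset.sum_insert (by decide), Finset.sum_insert (by decide),
      Finset.sum_singleton, ← hW00, ← hW01, ← hW10, ← hW11, d10, d11, ← hd] at this
    omega
  have htop : (⊤ : Submodule k V) ≤ W00 ⊔ W01 ⊔ (W10 ⊔ W11) := fun v _ => by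
    rw [← hsum v]
    exact Submodule.add_mem_sup (Submodule.add_mem_sup (hP 0 0 v) (hP 0 1 v))
      (Submodule.add_mem_sup (hP 1 0 v) (hP 1 1 v))
  have hlow : finrank k V ≤ finrank k W00 + 3 * d := by
    have h1 := (finrank_top k V).symm.le.trans (Submodule.finrank_mono htop)
    have h2' := Submodule.finrank_add_le_finrank_add_finrank (W00 ⊔ W01) (W10 ⊔ W11)
    have h3 := Submodule.finrank_add_le_finrank_add_finrank W00 W01
    have h4 := Submodule.finrank_add_le_finrank_add_finrank W10 W11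
    omega
  have hr0 : LinearMap.range (ρ a0 - 1) = W10 ⊔ W11 := by
    refine le_antisymm ?_ ?_
    · rintro _ ⟨v, rfl⟩
      have q : ∀ e v, v ∈ wsp ρ (-1 : k) x ![(0 : ZMod 2), e] → (ρ a0 - 1) v = 0 := fun e v hv => by
        rw [LinearMap.sub_apply, ((hmem _ _ v).1 hv).1, ev_zero, one_smul, Module.End.one_apply, sub_self]
      have q' : ∀ e v, v ∈ wsp ρ (-1 : k) x ![(1 : ZMod 2), e] → (ρ a0 - 1) v = (-2 : k) • v :=
        fun e v hv => by
          rw [LinearMap.sub_apply, ((hmem _ _ v).1 hv).1, hev, Module.End.one_apply]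
          module
      rw [← hsum v, map_add, map_add, map_add, q _ _ (hP 0 0 v), q _ _ (hP 0 1 v), q' _ _ (hP 1 0 v),
        q' _ _ (hP 1 1 v), add_zero, zero_add]
      exact Submodule.add_mem_sup (W10.smul_mem _ (hP 1 0 v)) (W11.smul_mem _ (hP 1 1 v))
    · have q : ∀ e v, v ∈ wsp ρ (-1 : k) x ![(1 : ZMod 2), e] → v ∈ LinearMap.range (ρ a0 - 1) :=
        fun e v hv => ⟨(-2 : k)⁻¹ • v, by
          rw [map_smul, LinearMap.sub_apply, ((hmem _ _ v).1 hv).1, hev, Module.End.one_apply,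
            show (-1 : k) • v - v = (-2 : k) • v by module, smul_smul,
            inv_mul_cancel₀ (neg_ne_zero.2 h2), one_smul]⟩
      exact sup_le (q 0) (q 1)
  have hr1 : LinearMap.range (ρ a1 - 1) ≤ W01 ⊔ W11 := by
    rintro _ ⟨v, rfl⟩
    have q : ∀ c v, v ∈ wsp ρ (-1 : k) x ![c, (0 : ZMod 2)] → (ρ a1 - 1) v = 0 := fun e v hv => by
      rw [LinearMap.sub_apply, ((hmem _ _ v).1 hv).2, ev_zero, one_smul, Module.End.one_apply, sub_self]
    have q' : ∀ c v, v ∈ wsp ρ (-1 : k) x ![c, (1 : ZMod 2)] → (ρ a1 - 1) v = (-2 : k) • v :=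
      fun e v hv => by
        rw [LinearMap.sub_apply, ((hmem _ _ v).1 hv).2, hev, Module.End.one_apply]
        module
    rw [← hsum v, map_add, map_add, map_add, q _ _ (hP 0 0 v), q _ _ (hP 1 0 v), q' _ _ (hP 0 1 v),
      q' _ _ (hP 1 1 v), zero_add, zero_add]
    exact Submodule.add_mem_sup (W01.smul_mem _ (hP 0 1 v)) (W11.smul_mem _ (hP 1 1 v))
  have hdis : Disjoint W10 W11 := Submodule.disjoint_def.2 fun v h10 h11 => by
    rw [hW10, hmem] at h10
    rw [hW11, hmem] at h11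
    have := h10.2.symm.trans h11.2
    rw [hev, ev_zero] at this
    have h2v : (2 : k) • v = 0 := by
      have e' : v = -v := by simpa using this
      rw [two_smul]; nth_rewrite 1 [e']; exact neg_add_cancel v
    exact (smul_eq_zero.1 h2v).resolve_left h2
  refine ⟨d, ?_, by rw [hker]; omega, ?_, ⟨?_, ?_, ?_⟩, fun ht3 hfix => ?_⟩
  · rw [hr0]
    have := Submodule.finrank_sup_add_finrank_inf_eq W10 W11
    rw [disjoint_iff.1 hdis, finrank_bot, d10, d11] at this
    omega
  · refine (Submodule.finrank_mono (sup_le (hr0.le.trans (sup_le_sup_right le_sup_right W11))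
      (hr1.trans (sup_le_sup_right le_sup_left W11)) : _ ≤ W01 ⊔ W10 ⊔ W11)).trans ?_
    have := Submodule.finrank_add_le_finrank_add_finrank (W01 ⊔ W10) W11
    have := Submodule.finrank_add_le_finrank_add_finrank W01 W10
    omega
  · rw [← d10]
    have e : (LinearMap.ker (ρ a0 + 1) ⊓ LinearMap.ker (ρ a1 - 1) : Submodule k V) = W10 := by
      ext v
      rw [hW10, hmem, hev, ev_zero, Submodule.mem_inf, LinearMap.mem_ker, LinearMap.mem_ker]
      simp [sub_eq_zero, add_eq_zero_iff_eq_neg]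
    rw [e]
  · refine eq_top_iff.2 (htop.trans ?_)
    rw [hker]
    have le10 : W10 ⊔ W11 ≤ LinearMap.range (ρ a0 - 1) := hr0.ge
    have le01 : W01 ≤ LinearMap.range (ρ a1 - 1) := fun v hv => ⟨(-2 : k)⁻¹ • v, by
      rw [hW01, hmem] at hv
      rw [map_smul, LinearMap.sub_apply, hv.2, hev, Module.End.one_apply,
        show (-1 : k) • v - v = (-2 : k) • v by module, smul_smul,
        inv_mul_cancel₀ (neg_ne_zero.2 h2), one_smul]⟩
    exact sup_le (sup_le le_sup_left ((le01.trans le_sup_right).trans le_sup_right))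
      ((le10.trans le_sup_left).trans le_sup_right)
  · intro g hg hg10
    have f10 : ∀ v ∈ W10, ρ g v = v := fun v hv => by
      rw [hW10, hmem, hev, ev_zero, neg_smul, one_smul] at hv
      exact hg10 v hv.1 hv.2
    have step : ∀ v, ρ g v = v → ρ g (ρ t v) = ρ t v := fun v hv => by
      rw [← Module.End.mul_apply, ← map_mul, hg.eq, map_mul, Module.End.mul_apply, hv]
    have surj : ∀ {P Q : Submodule k V}, (∀ v ∈ P, ρ t v ∈ Q) → finrank k P = finrank k Q →
        (∀ v ∈ P, ρ g v = v) → ∀ w ∈ Q, ρ g w = w := by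
      intro P Q hPQ hdim hP w hw
      have hinj : Function.Injective (ρ t) := fun u v e => by
        have := congrArg (ρ t⁻¹) e
        rwa [Representation.inv_self_apply, Representation.inv_self_apply] at this
      have e : P.map (ρ t) = Q := Submodule.eq_of_le_of_finrank_eq
        (Submodule.map_le_iff_le_comap.2 hPQ)
        (by rw [← (Submodule.equivMapOfInjective _ hinj P).finrank_eq, hdim])
      obtain ⟨v, hv, rfl⟩ := (e ▸ hw : w ∈ P.map (ρ t))
      exact step v (hP v hv)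
    have f11 := surj m10 (by rw [d10, d11]) f10
    have f01 := surj m11 (by rw [d11, hd]) f11
    have hk : ∀ {v}, ρ g v = v → v ∈ LinearMap.ker (ρ g - 1) := fun hv => by
      simp [LinearMap.mem_ker, hv]
    exact sup_le (hr0.le.trans (sup_le (fun v hv => hk (f10 v hv)) fun v hv => hk (f11 v hv)))
      (hr1.trans (sup_le (fun v hv => hk (f01 v hv)) fun v hv => hk (f11 v hv)))
  · have ht3' : ∀ v, ρ t (ρ t (ρ t v)) = v := fun v => by
      rw [← Module.End.mul_apply, ← map_mul, ← Module.End.mul_apply, ← map_mul,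
        show t * t * t = 1 by rw [← ht3, pow_succ, pow_two], map_one, Module.End.one_apply]
    let F : W01 × W01 →ₗ[k] V :=
      ((ρ t - 1).comp W01.subtype).coprod ((ρ t - 1).comp ((ρ t).comp W01.subtype))
    have hFrange : LinearMap.range F = LinearMap.range (ρ t - 1) := by
      refine le_antisymm ?_ ?_
      · rintro _ ⟨⟨u, w⟩, rfl⟩
        exact ⟨(u : V) + ρ t (w : V), by simp only [map_add]; rfl⟩
      · rintro _ ⟨v, rfl⟩
        have h00 : (ρ t - 1) (P 0 0 v) = 0 := by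
          have := (hmem _ _ _).1 (hP 0 0 v)
          rw [ev_zero, one_smul] at this
          rw [LinearMap.sub_apply, hfix _ this.1 this.2, Module.End.one_apply, sub_self]
        have hu : ρ t (ρ t (P 1 0 v)) ∈ W01 := m11 _ (m10 _ (hP 1 0 v))
        have hs : ρ t (P 1 1 v) ∈ W01 := m11 _ (hP 1 1 v)
        rw [← hsum v, map_add, map_add, map_add, h00, zero_add]
        refine Submodule.add_mem _ ⟨(⟨_, hP 0 1 v⟩, 0), by simp [F]⟩ (Submodule.add_mem _ ?_ ?_)
        · refine ⟨(0, ⟨_, hu⟩), ?_⟩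
          simp [F, ht3']
        · have e11 : ρ t (ρ t (ρ t (P 1 1 v))) = P 1 1 v := ht3' _
          have : (ρ t - 1) (P 1 1 v) =
              -((ρ t - 1) (ρ t (P 1 1 v))) - (ρ t - 1) (ρ t (ρ t (P 1 1 v))) := by
            simp only [LinearMap.sub_apply, Module.End.one_apply]
            rw [e11]
            abel
          rw [this]
          refine Submodule.sub_mem _ (Submodule.neg_mem _ ⟨(⟨_, hs⟩, 0), ?_⟩) ⟨(0, ⟨_, hs⟩), ?_⟩
          · simp [F]
          · simp [F]
    have hinj : Function.Injective F := by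
      rw [← LinearMap.ker_eq_bot, LinearMap.ker_eq_bot']
      rintro ⟨u, w⟩ huw
      have huw' : ρ t (u : V) - u + (ρ t (ρ t (w : V)) - ρ t w) = 0 := huw
      have z0 := congrArg (eproj ρ (-1 : k) a0 (0 : ZMod 2)) huw'
      simp only [map_add, map_sub, map_zero] at z0
      rw [eproj_of_eigen hζ hm ((hmem _ _ _).1 (m01 _ u.2)).1, eproj_of_eigen hζ hm ((hmem _ _ _).1 u.2).1,
        eproj_of_eigen hζ hm ((hmem _ _ _).1 (m10 _ (m01 _ w.2))).1,
        eproj_of_eigen hζ hm ((hmem _ _ _).1 (m01 _ w.2)).1] at z0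
      have hu0 : (u : V) = 0 := by simpa using z0
      rw [hu0, map_zero, sub_zero, zero_add] at huw'
      have z1 := congrArg (eproj ρ (-1 : k) a1 (0 : ZMod 2)) huw'
      simp only [map_sub, map_zero] at z1
      rw [eproj_of_eigen hζ hm ((hmem _ _ _).1 (m10 _ (m01 _ w.2))).2,
        eproj_of_eigen hζ hm ((hmem _ _ _).1 (m01 _ w.2)).2] at z1
      have htw : ρ t (w : V) = 0 := by simpa using z1
      have hw0 : (w : V) = 0 := by
        have := congrArg (ρ t⁻¹) htw
        rwa [Representation.inv_self_apply, map_zero] at this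
      exact Prod.ext (Subtype.ext hu0) (Subtype.ext hw0)
    refine ⟨?_, ?_⟩
    · rw [← hFrange, LinearMap.finrank_range_of_inj hinj, Module.finrank_prod, ← hd]
      omega
    · rw [← hFrange]
      rintro _ ⟨⟨u, w⟩, rfl⟩
      have le01 : W01 ≤ LinearMap.range (ρ a0 - 1) ⊔ LinearMap.range (ρ a1 - 1) := fun v hv => by
        refine Submodule.mem_sup_right ⟨(-2 : k)⁻¹ • v, ?_⟩
        rw [hW01, hmem] at hv
        rw [map_smul, LinearMap.sub_apply, hv.2, hev, Module.End.one_apply,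
          show (-1 : k) • v - v = (-2 : k) • v by module, smul_smul,
          inv_mul_cancel₀ (neg_ne_zero.2 h2), one_smul]
      have le1 : W10 ⊔ W11 ≤ LinearMap.range (ρ a0 - 1) ⊔ LinearMap.range (ρ a1 - 1) :=
        hr0.ge.trans le_sup_left
      show ρ t (u : V) - u + (ρ t (ρ t (w : V)) - ρ t w) ∈ _
      exact Submodule.add_mem _
        (Submodule.sub_mem _ (le1 (Submodule.mem_sup_left (m01 _ u.2))) (le01 u.2))
        (Submodule.sub_mem _ (le1 (Submodule.mem_sup_right (m10 _ (m01 _ w.2))))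
          (le1 (Submodule.mem_sup_left (m01 _ w.2))))

end Cfsg.Agent.Lib.MinDeg66
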