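import Cfsg.Agent.Lib.MinDeg66.Chain

/-!
The degree bound in characteristic different from three.
-/

set_option autoImplicit false

namespace Cfsg.Agent.Lib.MinDeg66

open Equiv Equiv.Perm Module

variable {k V Γ : Type*} [Field k] [AddCommGroup V] [Module k V] [Group Γ] {r : ℕ}
  {ρ : Representation k Γ V} {π : Γ →* Perm (Fin r)}

theorem exists_primitive [IsAlgClosed k] {m : ℕ} (hm0 : 0 < m) (hm : (m : k) ≠ 0) :
    ∃ ζ : k, IsPrimitiveRoot ζ m := by
  haveI : NeZero (m : k) := ⟨hm⟩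
  obtain ⟨ζ, hζ⟩ := IsAlgClosed.exists_root (Polynomial.cyclotomic m k)
    (Polynomial.degree_cyclotomic_pos m k hm0).ne'
  exact ⟨ζ, Polynomial.isRoot_cyclotomic_iff.1 hζ⟩

theorem pow_two_ge : ∀ K : ℕ, 4 ≤ K → 3 * K + 1 ≤ 2 ^ K
  | 4, _ => by norm_num
  | K + 5, _ => by
    have h1 := pow_two_ge (K + 4) (by omega)
    rw [show K + 5 = K + 4 + 1 from rfl, pow_succ]
    omega

theorem cycOK_three {r : ℕ} (hr : 8 ≤ r) : CycOK 3 r :=
  ⟨by norm_num, by norm_num, by omega, Or.inl (by omega)⟩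

theorem cycOK_five {r : ℕ} (hr : 10 ≤ r) : CycOK 5 r :=
  ⟨by norm_num, by norm_num, by omega, Or.inl (by omega)⟩

theorem cycOK_seven {r : ℕ} (h1 : 9 ≤ r) (h2 : r ≤ 11) : CycOK 7 r :=
  ⟨by norm_num, by norm_num, by omega, Or.inr (by interval_cases r <;> decide)⟩

theorem pv_double {f : Fin 4 ↪ Fin 5} {g : Perm (Fin 5)}
    (h1 : ∀ x, g (f x) = f ((dblB * dblA⁻¹) x)) (h2 : ∀ y, (∀ x, f x ≠ y) → g y = y) :
    g = pv f (dblB * dblA⁻¹) :=
  eq_pv _ h1 fun y hy => h2 y fun x e => hy ⟨x, e⟩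

namespace AltRep

variable [FiniteDimensional k V] [IsAlgClosed k] (h : AltRep r ρ π)

include h

theorem bound_exceptional (p : ℕ) [CharP k p] (hp : p.Prime) (hp3 : p ≠ 3) (hr : r = 10 ∨ r = 11)
    (hn8 : 8 ≤ finrank k V) (hn : finrank k V + 2 ≤ r)
    (hfix : ∀ κ, finrank k (LinearMap.ker (ρ (h.can (cycOK_three (by omega : 8 ≤ r)) κ) - 1)) ≤ 1) :
    r - 2 ≤ finrank k V ∧ (r : k) = 0 := by
  classical
  have hc3 : CycOK 3 r := cycOK_three (by omega)
  have hc5 : CycOK 5 r := cycOK_five (by omega)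
  haveI := Fact.mk hp
  have hcast : ∀ n : ℕ, (n : k) = 0 ↔ p ∣ n := fun n => CharP.cast_eq_zero_iff k p n
  have hm3 : ((3 : ℕ) : k) ≠ 0 := fun e =>
    hp3 ((Nat.prime_dvd_prime_iff_eq hp Nat.prime_three).1 ((hcast 3).1 e))
  by_cases hp5 : p = 5
  swap
  · exfalso
    have hm5 : ((5 : ℕ) : k) ≠ 0 := fun e =>
      hp5 ((Nat.prime_dvd_prime_iff_eq hp Nat.prime_five).1 ((hcast 5).1 e))
    obtain ⟨ζ, hζ⟩ := exists_primitive (by norm_num) hm5
    by_cases hmix : h.NoMix hc5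
    · obtain ⟨ι, -⟩ := exists_emb_off (r := r) ∅ (n := 5) (by simp; omega)
      obtain ⟨κ, hκ⟩ := exists_emb_off (Finset.univ.map ι) (n := 3) (by simp; omega)
      obtain ⟨hd, hrk⟩ := h.finrank_range_can hc5 hζ hm5 (by norm_num) ι (c := 1) (by decide)
      have hle := Submodule.finrank_mono (h.three_fixes_five (by omega) hc5 hc3 hmix (ι := ι) (κ := κ)
        (by
          rw [Set.disjoint_left]
          rintro _ ⟨x, rfl⟩ ⟨y, hy⟩
          exact hκ y (hy ▸ Finset.mem_map_of_mem _ (Finset.mem_univ x))))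
      have := hfix κ
      omega
    · obtain ⟨j, hj2, hjK, hj, -⟩ := h.mixed_weight hc5 hζ hm5 hmix (K := 2) le_rfl (by omega)
        (by norm_num)
      obtain rfl : j = 2 := by omega
      norm_num at hj
      omega
  subst hp5
  rcases hr with hr | hr
  · exact ⟨by omega, by rw [hcast, hr]; norm_num⟩
  exfalso
  subst hr
  have hc7 : CycOK 7 11 := cycOK_seven (by omega) le_rfl
  have hm7 : ((7 : ℕ) : k) ≠ 0 := fun e => absurd ((hcast 7).1 e) (by norm_num)
  have h2 : (2 : k) ≠ 0 := fun e => absurd ((hcast 2).1 (by exact_mod_cast e)) (by norm_num)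
  obtain ⟨ζ, hζ⟩ := exists_primitive (by norm_num) hm7
  let ι : Fin 7 ↪ Fin 11 := Fin.castLEEmb (by norm_num)
  let e : Fin 4 ↪ Fin 11 := ⟨Fin.natAdd 7, Fin.natAdd_injective 4 7⟩
  have hd : Disjoint (Set.range ι) (Set.range e) := by
    rw [Set.disjoint_left]
    rintro _ ⟨x, rfl⟩ ⟨y, hy⟩
    have h' : (Fin.natAdd 7 y).val = x.val := congrArg Fin.val hy
    simp at h'
    omega
  obtain ⟨hd1, hrk⟩ := h.finrank_range_can hc7 hζ hm7 (by norm_num) ι (c := 1) (by decide)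
  have hrk6 : finrank k (LinearMap.range (ρ (h.can hc7 ι) - 1)) = 7 - 1 := by
    have := Submodule.finrank_le (LinearMap.range (ρ (h.can hc7 ι) - 1))
    omega
  obtain ⟨B, a0, a1, hb⟩ := h.exists_block hc3 (h.blockLin_of_line hc7 hζ hm7 (by norm_num) hd hrk6)
  have hC := h.block_fix_moved hc7 hζ hm7 (by norm_num) hd hrk6 hb
  obtain ⟨d, hd2, hdC, -, -, -⟩ :=
    involution_triple (ρ := ρ) h2 hb.eq1 hb.next1 hb.sq0 hb.sq1 hb.comm
  have hC6 := Submodule.finrank_mono hC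
  have hd0 : d ≠ 0 := fun e0 => by
    rw [e0, mul_zero] at hd2
    refine hb.ne (h.inj ?_)
    rw [map_one]
    exact sub_eq_zero.1 (LinearMap.range_eq_bot.1 (Submodule.finrank_eq_zero.1 hd2))
  have hn9 : finrank k V = 9 := by omega
  have hrk2 : finrank k (LinearMap.range (ρ a0 - 1)) = 2 := by omega
  let e5 : Fin 5 ↪ Fin 11 := Fin.castLEEmb (by norm_num)
  let f1 : Fin 4 ↪ Fin 5 := ⟨![0, 3, 1, 4], by decide⟩
  let f2 : Fin 4 ↪ Fin 5 := ⟨![1, 3, 2, 4], by decide⟩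
  have hdbl1 : swap (0 : Fin 5) 1 * swap 3 4 = pv f1 (dblB * dblA⁻¹) :=
    pv_double (by decide +kernel) (by decide +kernel)
  have hdbl2 : swap (1 : Fin 5) 2 * swap 3 4 = pv f2 (dblB * dblA⁻¹) :=
    pv_double (by decide +kernel) (by decide +kernel)
  have hlift : ∀ f : Fin 4 ↪ Fin 5, ∃ G, π (G * a0 * G⁻¹) = pv e5 (pv f (dblB * dblA⁻¹)) := fun f => by
    obtain ⟨g, hgA, hg⟩ := exists_even_map (by norm_num) e (f.trans e5)
    obtain ⟨G, hG⟩ := h.exists_lift hgA
    refine ⟨G, ?_⟩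
    rw [map_mul, map_mul, map_inv, hb.map0, conj_pv, ← pv_trans]
    congr 1
    congr 1
    ext x
    simp [hG, hg]
  obtain ⟨G1, hG1⟩ := hlift f1
  obtain ⟨G2, hG2⟩ := hlift f2
  set P := G1 * a0 * G1⁻¹ * (G2 * a0 * G2⁻¹) with hP
  set κ : Fin 3 ↪ Fin 11 := (Fin.castLEEmb (by norm_num : 3 ≤ 5)).trans e5 with hκ
  have hz : π (h.can hc3 κ * P⁻¹) = 1 := by
    rw [map_mul, map_inv, h.map_can hc3, hκ, pv_trans, ← three_in_five, hP, map_mul π (G1 * a0 * G1⁻¹),
      hG1, hG2, ← hdbl1, ← hdbl2, ← map_mul, show swap (0 : Fin 5) 1 * swap 3 4 * (swap 1 2 * swap 3 4) =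
        swap 0 1 * swap 1 2 by decide +kernel, mul_inv_cancel]
  obtain ⟨c, hc⟩ := h.ker _ hz
  set F := LinearMap.ker (ρ (G1 * a0 * G1⁻¹) - 1) ⊓ LinearMap.ker (ρ (G2 * a0 * G2⁻¹) - 1) with hF
  have hker : ∀ G : Γ, 7 ≤ finrank k (LinearMap.ker (ρ (G * a0 * G⁻¹) - 1)) := fun G => by
    have h1 := LinearMap.finrank_range_add_finrank_ker (ρ (G * a0 * G⁻¹) - 1)
    have h2' := finrank_range_conj (ρ := ρ) G a0
    omega
  have hF5 : 5 ≤ finrank k F := by
    have h1 := Submodule.finrank_sup_add_finrank_inf_eq (LinearMap.ker (ρ (G1 * a0 * G1⁻¹) - 1))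
      (LinearMap.ker (ρ (G2 * a0 * G2⁻¹) - 1))
    have h2' := Submodule.finrank_le (LinearMap.ker (ρ (G1 * a0 * G1⁻¹) - 1) ⊔
      LinearMap.ker (ρ (G2 * a0 * G2⁻¹) - 1))
    have := hker G1
    have := hker G2
    rw [hF]
    omega
  have hFle : ∀ v ∈ F, ρ (h.can hc3 κ) v = c • v := fun v hv => by
    have e1 : ρ (G1 * a0 * G1⁻¹) v = v := sub_eq_zero.1 (LinearMap.mem_ker.1 hv.1)
    have e2 : ρ (G2 * a0 * G2⁻¹) v = v := sub_eq_zero.1 (LinearMap.mem_ker.1 hv.2)
    rw [show h.can hc3 κ = h.can hc3 κ * P⁻¹ * P by group, map_mul, Module.End.mul_apply, hc, hP,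
      map_mul, Module.End.mul_apply, e2, e1]
    simp
  obtain ⟨v, hv, hv0⟩ := Submodule.exists_mem_ne_zero_of_ne_bot (p := F) fun e0 => by
    rw [e0, finrank_bot] at hF5
    omega
  have hc3' : c ^ 3 = 1 := by
    have h1 := pow_apply_of_eigen (hFle v hv) 3
    rw [h.can_pow hc3, map_one, Module.End.one_apply] at h1
    by_contra hne
    have h0 : (c ^ 3 - 1) • v = 0 := by rw [sub_smul, one_smul, ← h1, sub_self]
    exact hv0 ((smul_eq_zero.1 h0).resolve_left (sub_ne_zero.2 hne))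
  obtain ⟨ω, hω⟩ := exists_primitive (by norm_num) hm3
  obtain ⟨i, hi, hic⟩ := hω.eq_pow_of_pow_eq_one hc3'
  have hsub : F ≤ Module.End.eigenspace (ρ (h.can hc3 κ)) (ev ω ((i : ZMod 3))) := fun v hv => by
    rw [Module.End.mem_eigenspace_iff, hFle v hv, ev, ZMod.val_natCast, Nat.mod_eq_of_lt hi, hic]
  have hle := Submodule.finrank_mono hsub
  by_cases hi0 : (i : ZMod 3) = 0
  · rw [hi0, ← ker_eq_eig] at hle
    have := hfix κ
    omega
  · obtain ⟨-, hr3⟩ := h.finrank_range_can hc3 hω hm3 (by norm_num) κ hi0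
    have := Submodule.finrank_le (LinearMap.range (ρ (h.can hc3 κ) - 1))
    omega

/-- The bound in characteristic different from three. -/
theorem bound_other (p : ℕ) [CharP k p] (hp : p.Prime) (hp3 : p ≠ 3) :
    r - 1 ≤ finrank k V ∨ (r - 2 ≤ finrank k V ∧ (r : k) = 0) := by
  classical
  have hr := h.deg
  by_cases hbig : r - 1 ≤ finrank k V
  · exact Or.inl hbig
  haveI := Fact.mk hp
  have hm3 : ((3 : ℕ) : k) ≠ 0 := fun e =>
    hp3 ((Nat.prime_dvd_prime_iff_eq hp Nat.prime_three).1 ((CharP.cast_eq_zero_iff k p 3).1 e))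
  have hc3 : CycOK 3 r := cycOK_three (by omega)
  obtain ⟨ζ, hζ⟩ := exists_primitive (by norm_num) hm3
  have hKr : 3 * (r / 3) ≤ r := Nat.mul_div_le r 3
  have hK3 : 3 ≤ r / 3 := by omega
  by_cases hmix : h.NoMix hc3
  · have hrk : ∀ ι, finrank k (LinearMap.range (ρ (h.can hc3 ι) - 1)) = 3 - 1 := by
      intro ι
      obtain ⟨h1, h2⟩ := h.finrank_range_can hc3 hζ hm3 (by norm_num) ι (c := 1) (by decide)
      by_contra hne
      have h4 : 4 ≤ finrank k (LinearMap.range (ρ (h.can hc3 ι) - 1)) := by omega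
      have h3 := h.noMix_bound hc3 hζ hm3 (by norm_num) hmix hKr ι
      have := Nat.mul_le_mul_left (r / 3) h4
      omega
    obtain ⟨ι₀, -⟩ := exists_emb_off (r := r) ∅ (n := 3) (by simp; omega)
    have h0 := h.wsum_total hc3 hm3 hmix (S := Finset.univ.map ι₀) (by simp) (by simp; omega) hrk
    have h0' := Submodule.finrank_mono (h.range_le_wsum hc3 (S := Finset.univ.map ι₀) (ι := ι₀)
      fun x => Finset.mem_map_of_mem _ (Finset.mem_univ x))
    rw [hrk] at h0'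
    simp only [Finset.card_map, Finset.card_univ, Fintype.card_fin] at h0
    refine h.bound_of_planes hc3 (by omega) (fun ι => by rw [hrk]) fun e =>
      ⟨h.wsum hc3 (Finset.univ.map e), ?_, fun κ hκ => h.range_le_wsum hc3 fun x => by
        simpa using hκ x⟩
    have h4 := h.wsum_total hc3 hm3 hmix (S := Finset.univ.map e) (by simp) (by simp; omega) hrk
    simp only [Finset.card_map, Finset.card_univ, Fintype.card_fin] at h4
    omega
  · obtain ⟨j, hj2, hjK, hj, hjfix⟩ := h.mixed_weight hc3 hζ hm3 hmix (K := r / 3) (by omega) hKr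
      (by norm_num)
    rcases Nat.lt_or_ge j (r / 3) with hlt | hge
    · refine Or.inl (le_trans ?_ hj)
      have h1 := le_choose_of_lt (by omega : 1 ≤ j) hlt
      have h2 : 2 ^ 2 ≤ (3 - 1) ^ j := Nat.pow_le_pow_right (by norm_num) hj2
      have h3 := Nat.mul_le_mul h1 h2
      omega
    obtain rfl : j = r / 3 := by omega
    rw [Nat.choose_self, one_mul] at hj
    rcases Nat.lt_or_ge (r / 3) 4 with h4 | h4
    swap
    · refine Or.inl (le_trans ?_ hj)
      have := pow_two_ge _ h4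
      simp only [Nat.add_one_sub_one] at *
      omega
    have hK : r / 3 = 3 := by omega
    rw [hK] at hj
    norm_num at hj
    rcases Nat.lt_or_ge r 10 with h10 | h10
    · exact absurd (by omega : r - 1 ≤ finrank k V) hbig
    refine Or.inr (h.bound_exceptional p hp hp3 (by omega) hj (by omega) fun κ => ?_)
    have := hjfix rfl κ
    rw [hK] at this
    norm_num at this
    omega

end AltRep

end Cfsg.Agent.Lib.MinDeg66
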