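import Cfsg.Agent.Lib.MinDeg66.CaseOther

/-!
The degree bound in characteristic three.
-/

set_option autoImplicit false

namespace Cfsg.Agent.Lib.MinDeg66

open Equiv Equiv.Perm Module
open scoped commutatorElement

variable {k V Γ : Type*} [Field k] [AddCommGroup V] [Module k V] [Group Γ] {r : ℕ}
  {ρ : Representation k Γ V} {π : Γ →* Perm (Fin r)}

theorem pow_four_ge : ∀ K : ℕ, 2 ≤ K → 5 * K + 3 ≤ 4 ^ K
  | 2, _ => by norm_num
  | K + 3, _ => by
    have h1 := pow_four_ge (K + 2) (by omega)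
    rw [show K + 3 = K + 2 + 1 from rfl, pow_succ]
    omega

/-- In characteristic three an element of order dividing three fixes every invariant line. -/
theorem fix_of_line [FiniteDimensional k V] (h3 : (3 : k) = 0) {g : Γ} (hg : g ^ 3 = 1) {L : Submodule k V}
    (hL : finrank k L ≤ 1) (hinv : ∀ v ∈ L, ρ g v ∈ L) {v : V} (hv : v ∈ L) : ρ g v = v := by
  rcases eq_or_ne v 0 with rfl | hv0
  · simp
  have e : (k ∙ v) = L := Submodule.eq_of_le_of_finrank_le ((Submodule.span_singleton_le_iff_mem _ _).2 hv)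
    (by rw [finrank_span_singleton hv0]; exact hL)
  have hmem := hinv v hv
  rw [← e] at hmem
  obtain ⟨a, ha⟩ := Submodule.mem_span_singleton.1 hmem
  have h1 := pow_apply_of_eigen ha.symm 3
  rw [hg, map_one, Module.End.one_apply] at h1
  have ha3 : a ^ 3 = 1 := by
    by_contra hne
    have h0 : (a ^ 3 - 1) • v = 0 := by rw [sub_smul, one_smul, ← h1, sub_self]
    exact hv0 ((smul_eq_zero.1 h0).resolve_left (sub_ne_zero.2 hne))
  have hcube : (a - 1) ^ 3 = 0 := by linear_combination ha3 - (a * a - a) * h3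
  rw [← ha, sub_eq_zero.1 (eq_zero_of_pow_eq_zero hcube), one_smul]

/-- Two commuting involutions and an element permuting their product cyclically preserve only
small subspaces trivially. -/
theorem triple_trivial [FiniteDimensional k V] (h2 : (2 : k) ≠ 0) {t a0 a1 : Γ}
    (e1 : a1 = t * a0 * t⁻¹) (n1 : t * a1 * t⁻¹ = a0 * a1) (s0 : a0 ^ 2 = 1) (s1 : a1 ^ 2 = 1)
    (hcomm : Commute a0 a1) {W : Submodule k V} (hW : finrank k W ≤ 2)
    (ht : ∀ v ∈ W, ρ t v ∈ W) (ht' : ∀ v ∈ W, ρ t⁻¹ v ∈ W) (h0 : ∀ v ∈ W, ρ a0 v ∈ W) {v : V}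
    (hv : v ∈ W) : ρ a0 v = v ∧ ρ a1 v = v := by
  let N : Subgroup Γ :=
    { carrier := {g | (∀ v ∈ W, ρ g v ∈ W) ∧ ∀ v ∈ W, ρ g⁻¹ v ∈ W}
      mul_mem' := fun {a b} ha hb => ⟨fun v hv => by
        rw [map_mul, Module.End.mul_apply]; exact ha.1 _ (hb.1 v hv), fun v hv => by
        rw [mul_inv_rev, map_mul, Module.End.mul_apply]; exact hb.2 _ (ha.2 v hv)⟩
      one_mem' := ⟨fun v hv => by simpa using hv, fun v hv => by simpa using hv⟩
      inv_mem' := fun {a} ha => ⟨ha.2, by rw [inv_inv]; exact ha.1⟩ }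
  let ρ' : Representation k N W :=
    { toFun := fun g => (ρ g.1).restrict g.2.1
      map_one' := LinearMap.ext fun v => Subtype.ext (by simp [LinearMap.restrict_apply])
      map_mul' := fun a b => LinearMap.ext fun v => Subtype.ext (by simp [LinearMap.restrict_apply]) }
  have htN : t ∈ N := ⟨ht, ht'⟩
  have h0N : a0 ∈ N := ⟨h0, fun v hv => by
    rw [inv_eq_of_mul_eq_one_right (by rw [← pow_two, s0] : a0 * a0 = 1)]; exact h0 v hv⟩
  have h1N : a1 ∈ N := e1 ▸ N.mul_mem (N.mul_mem htN h0N) (N.inv_mem htN)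
  obtain ⟨d, hr, hC, -, -, -⟩ := involution_triple (ρ := ρ') (t := ⟨t, htN⟩) (a0 := ⟨a0, h0N⟩)
    (a1 := ⟨a1, h1N⟩) h2 (Subtype.ext e1) (Subtype.ext n1) (Subtype.ext s0) (Subtype.ext s1)
    (Subtype.ext hcomm)
  have hd : d = 0 := by omega
  rw [hd] at hC
  have htop : (LinearMap.ker (ρ' ⟨a0, h0N⟩ - 1) ⊓ LinearMap.ker (ρ' ⟨a1, h1N⟩ - 1) : Submodule k W) = ⊤ :=
    Submodule.eq_top_of_finrank_eq (by omega)
  have hm : (⟨v, hv⟩ : W) ∈ (LinearMap.ker (ρ' ⟨a0, h0N⟩ - 1) ⊓ LinearMap.ker (ρ' ⟨a1, h1N⟩ - 1)) :=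
    htop ▸ Submodule.mem_top
  exact ⟨congrArg Subtype.val (sub_eq_zero.1 (LinearMap.mem_ker.1 hm.1) :
      ρ' ⟨a0, h0N⟩ ⟨v, hv⟩ = ⟨v, hv⟩),
    congrArg Subtype.val (sub_eq_zero.1 (LinearMap.mem_ker.1 hm.2) :
      ρ' ⟨a1, h1N⟩ ⟨v, hv⟩ = ⟨v, hv⟩)⟩

theorem range_invariant {g a : Γ} (hc : Commute g a) {v : V} (hv : v ∈ LinearMap.range (ρ a - 1)) :
    ρ g v ∈ LinearMap.range (ρ a - 1) := by
  obtain ⟨w, rfl⟩ := hv
  refine ⟨ρ g w, ?_⟩
  rw [LinearMap.sub_apply, LinearMap.sub_apply, map_sub, Module.End.one_apply, Module.End.one_apply,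
    ← Module.End.mul_apply, ← map_mul, ← hc.eq, map_mul, Module.End.mul_apply]

namespace AltRep

variable [FiniteDimensional k V] (h : AltRep r ρ π) {hc3 : CycOK 3 r}

include h

theorem block_quad {e : Fin 4 ↪ Fin r} {B a0 a1 : Γ} (hb : Block h hc3 e B a0 a1)
    (hE : LinearMap.range (ρ (h.can hc3 ((Fin.castLEEmb (by omega : 3 ≤ 4)).trans e)) - 1) ≤
      LinearMap.range (ρ a0 - 1) ⊔ LinearMap.range (ρ a1 - 1))
    (κ : Fin 3 ↪ Fin r) (hκ : ∀ x, κ x ∈ Set.range e) :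
    LinearMap.range (ρ (h.can hc3 κ) - 1) ≤
      LinearMap.range (ρ a0 - 1) ⊔ LinearMap.range (ρ a1 - 1) := by
  classical
  choose f hf using hκ
  obtain ⟨j, hj⟩ : ∃ j, ∀ x, f x ≠ j := by
    by_contra hcon
    push_neg at hcon
    have := Fintype.card_le_of_surjective f hcon
    simp at this
  have hgen : ∀ j : Fin 4, ∃ u v : Bool,
      ((if u then dblB * dblA⁻¹ else 1) * if v then triA * (dblB * dblA⁻¹) * triA⁻¹ else 1) 3 = j := by
    decide +kernel
  obtain ⟨u, v, huv⟩ := hgen j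
  set σ := (if u then dblB * dblA⁻¹ else 1) * (if v then triA * (dblB * dblA⁻¹) * triA⁻¹ else 1) with hσ
  set G := (if u then a0 else 1) * (if v then a1 else 1) with hG
  have hπG : π G = pv e σ := by
    rw [hG, hσ, map_mul, map_mul]
    congr 1 <;> split_ifs <;> simp [hb.map0, hb.map1]
  set κ' : Fin 3 ↪ Fin r := ((Fin.castLEEmb (by omega : 3 ≤ 4)).trans σ.toEmbedding).trans e with hκ'
  have hGκ : ∀ x, π G (((Fin.castLEEmb (by omega : 3 ≤ 4)).trans e) x) = κ' x := fun x => by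
    rw [hπG]
    exact pv_apply e σ _
  have hmem : ∀ x, κ x ∈ Set.range κ' := fun x => by
    obtain ⟨z, hz⟩ := σ.surjective (f x)
    have hz3 : z.val < 3 := by
      by_contra h'
      have : z = 3 := Fin.ext (by have := z.isLt; show z.val = 3; omega)
      exact hj x (by rw [← hz, this, huv])
    refine ⟨⟨z.val, hz3⟩, ?_⟩
    rw [← hf x, ← hz]
    rfl
  rw [h.range_three_eq hc3 hmem, ← h.range_map_eq hc3 hGκ]
  refine (Submodule.map_mono hE).trans (Submodule.map_le_iff_le_comap.2 ?_)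
  have inv : ∀ g ∈ ({a0, a1, 1} : Set Γ), ∀ w ∈ LinearMap.range (ρ a0 - 1) ⊔ LinearMap.range (ρ a1 - 1),
      ρ g w ∈ LinearMap.range (ρ a0 - 1) ⊔ LinearMap.range (ρ a1 - 1) := by
    intro g hg w hw
    obtain ⟨x, hx, y, hy, rfl⟩ := Submodule.mem_sup.1 hw
    rw [map_add]
    refine Submodule.add_mem_sup (range_invariant ?_ hx) (range_invariant ?_ hy)
    · rcases hg with rfl | rfl | rfl
      exacts [Commute.refl _, hb.comm.symm, Commute.one_left _]
    · rcases hg with rfl | rfl | rfl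
      exacts [hb.comm, Commute.refl _, Commute.one_left _]
  intro w hw
  rw [Submodule.mem_comap, hG, map_mul, Module.End.mul_apply]
  refine inv _ ?_ _ (inv _ ?_ _ hw) <;> split_ifs <;> simp

theorem rank_conj {ι : Fin 3 ↪ Fin r} (hr : finrank k (LinearMap.range (ρ (h.can hc3 ι) - 1)) = 2)
    (κ : Fin 3 ↪ Fin r) : finrank k (LinearMap.range (ρ (h.can hc3 κ) - 1)) = 2 := by
  obtain ⟨g, hgA, hg⟩ := exists_even_map hc3.room ι κ
  obtain ⟨G, hG⟩ := h.exists_lift hgA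
  rw [← h.conj_can_map hc3 (g := G) (ι := ι) (ι' := κ) (fun x => by rw [hG, hg]),
    ← finrank_range_conj]
  exact hr

theorem three_data_large (h3 : (3 : k) = 0) (h2 : (2 : k) ≠ 0) (hr : 10 ≤ r) (hc5 : CycOK 5 r)
    {ζ : k} (hζ : IsPrimitiveRoot ζ 5) (hm5 : ((5 : ℕ) : k) ≠ 0) (hmix : h.NoMix hc5)
    (hrk : ∀ ι, finrank k (LinearMap.range (ρ (h.can hc5 ι) - 1)) = 5 - 1)
    (hn : finrank k V + 2 ≤ r) (e : Fin 4 ↪ Fin r) :
    ∃ E : Submodule k V, finrank k E ≤ 3 ∧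
      finrank k (LinearMap.range (ρ (h.can hc3 ((Fin.castLEEmb (by omega : 3 ≤ 4)).trans e)) - 1)) = 2 ∧
      ∀ κ : Fin 3 ↪ Fin r, (∀ x, κ x ∈ Set.range e) → LinearMap.range (ρ (h.can hc3 κ) - 1) ≤ E := by
  classical
  obtain ⟨o, ho⟩ := exists_emb_off (Finset.univ.map e) (n := 1) (by simp; omega)
  let ι : Fin 5 ↪ Fin r := ⟨Fin.append e o, Fin.append_injective_iff.2 ⟨e.injective, o.injective,
    fun i j hij => ho j (hij ▸ Finset.mem_map_of_mem _ (Finset.mem_univ i))⟩⟩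
  have hιe : ∀ x : Fin 4, ι (Fin.castAdd 1 x) = e x := fun x => Fin.append_left e o x
  set S : Finset (Fin r) := Finset.univ.map ι with hS
  have heS : ∀ x, e x ∈ S := fun x => hιe x ▸ Finset.mem_map_of_mem _ (Finset.mem_univ _)
  set W1 := h.wsum hc5 S with hW1
  set W2 := h.wsum hc5 Sᶜ with hW2
  have hScard : S.card = 5 := by simp [hS]
  have hW1le : finrank k W1 ≤ 4 := by
    have := h.wsum_total hc5 hm5 hmix (S := S) (by omega) (by omega) hrk
    rw [← hW1] at this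
    omega
  have hrange : LinearMap.range (ρ (h.can hc5 ι) - 1) ≤ W1 :=
    h.range_le_wsum hc5 fun x => Finset.mem_map_of_mem _ (Finset.mem_univ x)
  have hW1eq : W1 = LinearMap.range (ρ (h.can hc5 ι) - 1) :=
    (Submodule.eq_of_le_of_finrank_le hrange (by rw [hrk]; omega)).symm
  have hW2ge : r - 6 ≤ finrank k W2 := by
    obtain ⟨κ, hκ⟩ := exists_emb_off S (n := 5) (by omega)
    have hsub : Finset.univ.map κ ⊆ Sᶜ := fun x hx => by
      obtain ⟨y, -, rfl⟩ := Finset.mem_map.1 hx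
      exact Finset.mem_compl.2 (hκ y)
    have h1 := h.wsum_grow hc5 hmix hsub (by simp) (by rw [Finset.card_compl]; simp; omega)
    have h2' := Submodule.finrank_mono (h.range_le_wsum hc5 (S := Finset.univ.map κ) (ι := κ)
      fun x => Finset.mem_map_of_mem _ (Finset.mem_univ x))
    rw [hrk] at h2'
    simp only [Finset.card_compl, Finset.card_map, Finset.card_univ, Fintype.card_fin, hScard] at h1
    rw [← hW2] at h1
    omega
  have hdis : W2 ⊓ W1 = ⊥ := by
    rw [hW1eq]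
    exact h.wsum_inf_range hc5 hm5 hmix fun x hx =>
      Finset.mem_compl.1 hx (Finset.mem_map_of_mem _ (Finset.mem_univ x))
  have hsum := Submodule.finrank_sup_add_finrank_inf_eq W2 W1
  rw [hdis, finrank_bot, hW1eq, hrk, ← hW1eq] at hsum
  have hle := Submodule.finrank_le (W2 ⊔ W1)
  have htop : W2 ⊔ W1 = ⊤ := Submodule.eq_top_of_finrank_eq (by omega)
  obtain ⟨κ₀, hκ₀⟩ := exists_emb_off S (n := 5) (by omega)
  have off : ∀ κ : Fin 5 ↪ Fin r, (∀ x, κ x ∈ Sᶜ) → Disjoint (Set.range κ) (Set.range e) := by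
    intro κ hκ
    rw [Set.disjoint_left]
    rintro _ ⟨x, rfl⟩ ⟨y, hy⟩
    exact Finset.mem_compl.1 (hκ x) (hy ▸ heS y)
  have hd0 := off κ₀ fun x => Finset.mem_compl.2 (hκ₀ x)
  obtain ⟨B, a0, a1, hb⟩ := h.exists_block hc3
    (h.blockLin_of_line hc5 hζ hm5 (by norm_num) hd0 (hrk κ₀))
  set κt := (Fin.castLEEmb (by omega : 3 ≤ 4)).trans e with hκt
  set t := h.can hc3 κt with ht
  set C : Submodule k V := LinearMap.ker (ρ a0 - 1) ⊓ LinearMap.ker (ρ a1 - 1) with hC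
  have hW2C : W2 ≤ C := iSup_le fun κ =>
    h.block_fix_moved hc5 hζ hm5 (by norm_num) (off κ.1 κ.2) (hrk κ.1) hb
  have hW2t : ∀ v ∈ W2, ρ t v = v := by
    have : W2 ≤ LinearMap.ker (ρ t - 1) := iSup_le fun κ =>
      h.three_fixes_five hr hc5 hc3 hmix ((off κ.1 κ.2).mono_right (by
        rintro _ ⟨x, rfl⟩
        exact ⟨_, rfl⟩))
    exact fun v hv => sub_eq_zero.1 (LinearMap.mem_ker.1 (this hv))
  obtain ⟨d, hd2, hdC, hdE, -, hdt⟩ :=
    involution_triple (ρ := ρ) h2 hb.eq1 hb.next1 hb.sq0 hb.sq1 hb.comm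
  have hd0' : d ≠ 0 := fun e0 => by
    rw [e0, mul_zero] at hd2
    refine hb.ne (h.inj ?_)
    rw [map_one]
    exact sub_eq_zero.1 (LinearMap.range_eq_bot.1 (Submodule.finrank_eq_zero.1 hd2))
  have hCge := Submodule.finrank_mono hW2C
  rw [← hC] at hdC
  have hd1 : d = 1 := by omega
  set L := C ⊓ W1 with hL
  have hCW : C ⊔ W1 = ⊤ := top_le_iff.1 (htop ▸ sup_le_sup_right hW2C W1)
  have hL1 : finrank k L ≤ 1 := by
    have h1 := Submodule.finrank_sup_add_finrank_inf_eq C W1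
    rw [hCW, finrank_top, ← hL] at h1
    omega
  have hCinv : ∀ v ∈ C, ρ t v ∈ C := by
    intro v hv
    have v0 : ρ a0 v = v := sub_eq_zero.1 (LinearMap.mem_ker.1 hv.1)
    have v1 : ρ a1 v = v := sub_eq_zero.1 (LinearMap.mem_ker.1 hv.2)
    have e1' : a1 * t = t * a0 := by rw [hb.eq1, ← hκt, ← ht]; group
    have e0' : a0 * t = t * (a0 * a1) := by
      have : t * (a0 * a1) * t⁻¹ = a0 := by
        rw [show t * (a0 * a1) * t⁻¹ = t * a0 * t⁻¹ * (t * a1 * t⁻¹) by group, hb.next1, ← hb.eq1,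
          hb.comm.eq, ← mul_assoc, ← pow_two, hb.sq1, one_mul]
      conv_lhs => rw [← this]
      group
    refine ⟨?_, ?_⟩ <;> rw [SetLike.mem_coe, LinearMap.mem_ker, LinearMap.sub_apply,
      Module.End.one_apply, sub_eq_zero, ← Module.End.mul_apply, ← map_mul]
    · rw [e0', map_mul, map_mul, Module.End.mul_apply, Module.End.mul_apply, v1, v0]
    · rw [e1', map_mul, Module.End.mul_apply, v0]
  have hW1inv : ∀ v ∈ W1, ρ t v ∈ W1 := by
    intro v hv
    refine h.wsum_map hc5 (S := S) (T := S) (fun x hx => ?_) ⟨v, hv, rfl⟩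
    rw [ht, h.map_three_of_four hc3]
    by_cases hx' : x ∈ Set.range e
    · obtain ⟨y, rfl⟩ := hx'
      rw [pv_apply]
      exact heS _
    · rwa [pv_notMem e _ hx']
  have hfixC : ∀ v, ρ a0 v = v → ρ a1 v = v → ρ t v = v := by
    intro v v0 v1
    have hvC : v ∈ C := ⟨by simp [LinearMap.mem_ker, v0], by simp [LinearMap.mem_ker, v1]⟩
    obtain ⟨w2, hw2, w1, hw1, rfl⟩ := Submodule.mem_sup.1 (htop ▸ Submodule.mem_top : v ∈ W2 ⊔ W1)
    have hw1C : w1 ∈ C := by
      have := C.sub_mem hvC (hW2C hw2)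
      rwa [add_sub_cancel_left] at this
    rw [map_add, hW2t w2 hw2, fix_of_line h3 (h.can_pow hc3 κt) hL1
      (fun v hv => ⟨hCinv v hv.1, hW1inv v hv.2⟩) (show w1 ∈ L from ⟨hw1C, hw1⟩)]
  obtain ⟨hrt, hEt⟩ := hdt (h.can_pow hc3 κt) hfixC
  exact ⟨_, by omega, by rw [hrt, hd1], h.block_quad hb hEt⟩

theorem double_commute {e f : Fin 4 ↪ Fin r} (hef : Disjoint (Set.range e) (Set.range f))
    {σ σ' τ : Perm (Fin 4)} (hσ : σ = ⁅triA, σ'⁆) (hσ' : σ' ∈ alternatingGroup (Fin 4)) {x y : Γ}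
    (hx : π x = pv e σ) (hy : π y = pv f τ) : Commute y x :=
  h.commute_dbl hσ hσ' hx fun _ => hy ▸ (pv_commute hef _ _).symm

theorem no_spin_nine [IsAlgClosed k] (h2 : (2 : k) ≠ 0) (hm7 : ((7 : ℕ) : k) ≠ 0) (hr : r = 9)
    (hn : finrank k V ≤ 6) (e : Fin 4 ↪ Fin r) : BlockLin π e := by
  classical
  by_contra hl
  have hc7 : CycOK 7 r := cycOK_seven (by omega) (by omega)
  obtain ⟨ζ, hζ⟩ := exists_primitive (by norm_num) hm7
  obtain ⟨ι, -⟩ := exists_emb_off (r := r) ∅ (n := 7) (by simp; omega)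
  obtain ⟨hd1, hrk⟩ := h.finrank_range_can hc7 hζ hm7 (by norm_num) ι (c := 1) (by decide)
  have hle := Submodule.finrank_le (LinearMap.range (ρ (h.can hc7 ι) - 1))
  obtain ⟨f, hf⟩ := exists_emb_off (Finset.univ.map e) (n := 4) (by simp; omega)
  have hef : Disjoint (Set.range e) (Set.range f) := by
    rw [Set.disjoint_left]
    rintro _ ⟨x, rfl⟩ ⟨y, hy⟩
    exact hf y (hy ▸ Finset.mem_map_of_mem _ (Finset.mem_univ x))
  have hlf : ¬ BlockLin π f := fun hh => hl (h.blockLin_map (by omega) f e hh)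
  obtain ⟨x, y, hx, hy, hxy⟩ := h.exists_anticommute hl
  obtain ⟨x', y', hx', hy', hxy'⟩ := h.exists_anticommute hlf
  have hCB : dblB ∈ alternatingGroup (Fin 4) := dblB_mem
  have cx : Commute x x' := (h.double_commute hef (σ := dblA) dblA_comm hCB hx hx').symm
  have cy : Commute x y' := (h.double_commute hef (σ := dblA) dblA_comm hCB hx hy').symm
  have hinj : ∀ g, Function.Injective (ρ g) := fun g u v e => by
    have := congrArg (ρ g⁻¹) e
    rwa [Representation.inv_self_apply, Representation.inv_self_apply] at this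
  obtain ⟨v₀, hv₀⟩ : ∃ v : V, v ≠ 0 := by
    by_contra hcon
    push_neg at hcon
    have : finrank k (LinearMap.range (ρ (h.can hc7 ι) - 1)) = 0 := by
      rw [Submodule.finrank_eq_zero]
      exact (Submodule.eq_bot_iff _).2 fun v _ => hcon v
    omega
  have hsq : ∀ {z : Γ} {g : Fin 4 ↪ Fin r}, π z = pv g dblA → ∃ μ : k, μ ≠ 0 ∧ ρ z * ρ z = (μ * μ) • 1 := by
    intro z g hz
    obtain ⟨c, hc⟩ := h.ker (z * z) (by
      rw [map_mul, hz, ← map_mul, show dblA * dblA = 1 by decide, map_one])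
    obtain ⟨μ, hμ⟩ := IsAlgClosed.exists_pow_nat_eq c (n := 2) (by norm_num)
    refine ⟨μ, fun e0 => ?_, by rw [← map_mul, hc, ← pow_two, hμ]⟩
    rw [e0, zero_pow two_ne_zero] at hμ
    have := LinearMap.ext_iff.1 hc v₀
    rw [← hμ, zero_smul, LinearMap.zero_apply, ← map_zero (ρ (z * z))] at this
    exact hv₀ (hinj _ this)
  obtain ⟨μ, hμ0, hμ⟩ := hsq hx
  obtain ⟨ν, hν0, hν⟩ := hsq hx'
  have e1 := finrank_of_anticommute h2 hμ0 hμ (hinj y) hxy
  set W := Module.End.eigenspace (ρ x) μ with hW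
  have hinv : ∀ g, Commute x g → ∀ v ∈ W, ρ g v ∈ W := fun g hg v hv => by
    rw [hW, Module.End.mem_eigenspace_iff] at hv ⊢
    rw [← Module.End.mul_apply, ← map_mul, hg.eq, map_mul, Module.End.mul_apply, hv, map_smul]
  let A : Module.End k W := (ρ x').restrict (hinv x' cx)
  let Bm : Module.End k W := (ρ y').restrict (hinv y' cy)
  have hA : A * A = (ν * ν) • 1 := LinearMap.ext fun v => Subtype.ext (by
    show ρ x' (ρ x' (v : V)) = ((ν * ν) • (v : V))
    rw [← Module.End.mul_apply, hν]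
    rfl)
  have hAB : A * Bm = -(Bm * A) := LinearMap.ext fun v => Subtype.ext (by
    show ρ x' (ρ y' (v : V)) = -(ρ y' (ρ x' (v : V)))
    rw [← Module.End.mul_apply, hxy']
    rfl)
  have e2 := finrank_of_anticommute h2 hν0 hA
    (fun u v e => Subtype.ext (hinj y' (congrArg Subtype.val e))) hAB
  omega

theorem three_data_nine (h3 : (3 : k) = 0) (h2 : (2 : k) ≠ 0) (hn : finrank k V ≤ 6) (hr : r = 9)
    (hlin : ∀ e : Fin 4 ↪ Fin r, BlockLin π e) (e : Fin 4 ↪ Fin r) :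
    finrank k V = 6 ∧ ∃ E : Submodule k V, finrank k E ≤ 3 ∧
      finrank k (LinearMap.range (ρ (h.can hc3 ((Fin.castLEEmb (by omega : 3 ≤ 4)).trans e)) - 1)) = 2 ∧
      ∀ κ : Fin 3 ↪ Fin r, (∀ x, κ x ∈ Set.range e) → LinearMap.range (ρ (h.can hc3 κ) - 1) ≤ E := by
  classical
  obtain ⟨f, hf⟩ := exists_emb_off (Finset.univ.map e) (n := 4) (by simp; omega)
  have hef : Disjoint (Set.range e) (Set.range f) := by
    rw [Set.disjoint_left]
    rintro _ ⟨x, rfl⟩ ⟨y, hy⟩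
    exact hf y (hy ▸ Finset.mem_map_of_mem _ (Finset.mem_univ x))
  obtain ⟨B, a0, a1, hb⟩ := h.exists_block hc3 (hlin e)
  obtain ⟨B', b0, b1, hb'⟩ := h.exists_block hc3 (hlin f)
  set te := h.can hc3 ((Fin.castLEEmb (by omega : 3 ≤ 4)).trans e) with hte
  set tf := h.can hc3 ((Fin.castLEEmb (by omega : 3 ≤ 4)).trans f) with htf
  have hπe : π te = pv e triA := h.map_three_of_four hc3 e
  have hπf : π tf = pv f triA := h.map_three_of_four hc3 f
  have s0 : dblB * dblA⁻¹ = ⁅triA, dblA⁆ := by decide +kernel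
  have s1 : triA * (dblB * dblA⁻¹) * triA⁻¹ = ⁅triA, dblB⁆ := by decide +kernel
  have ce0 : Commute te b0 := h.double_commute hef.symm s0 dblA_mem hb'.map0 hπe
  have ce1 : Commute te b1 := h.double_commute hef.symm s1 dblB_mem hb'.map1 hπe
  have cf0 : Commute tf a0 := h.double_commute hef s0 dblA_mem hb.map0 hπf
  have cf1 : Commute tf a1 := h.double_commute hef s1 dblB_mem hb.map1 hπf
  have c00 : Commute b0 a0 := h.double_commute hef s0 dblA_mem hb.map0 hb'.map0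
  have c01 : Commute b0 a1 := h.double_commute hef s1 dblB_mem hb.map1 hb'.map0
  have c10 : Commute b1 a0 := h.double_commute hef s0 dblA_mem hb.map0 hb'.map1
  have ctt : Commute te tf := by
    refine h.can_commute hc3 ?_
    refine Set.disjoint_left.2 ?_
    rintro _ ⟨x, rfl⟩ ⟨y, hy⟩
    exact Set.disjoint_left.1 hef ⟨_, rfl⟩ ⟨_, hy⟩
  obtain ⟨d, hd2, hdC, hdE, ⟨hdW, hdtop, hdg⟩, hdt⟩ :=
    involution_triple (ρ := ρ) h2 hb.eq1 hb.next1 hb.sq0 hb.sq1 hb.comm
  obtain ⟨d', hd2', hdC', hdE', ⟨hdW', hdtop', hdg'⟩, -⟩ :=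
    involution_triple (ρ := ρ) h2 hb'.eq1 hb'.next1 hb'.sq0 hb'.sq1 hb'.comm
  set C : Submodule k V := LinearMap.ker (ρ a0 - 1) ⊓ LinearMap.ker (ρ a1 - 1) with hC
  set E : Submodule k V := LinearMap.range (ρ a0 - 1) ⊔ LinearMap.range (ρ a1 - 1) with hE
  set C' : Submodule k V := LinearMap.ker (ρ b0 - 1) ⊓ LinearMap.ker (ρ b1 - 1) with hC'
  set E' : Submodule k V := LinearMap.range (ρ b0 - 1) ⊔ LinearMap.range (ρ b1 - 1) with hE'
  have hd0 : d ≠ 0 := fun e0 => by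
    rw [e0, mul_zero] at hd2
    refine hb.ne (h.inj ?_)
    rw [map_one]
    exact sub_eq_zero.1 (LinearMap.range_eq_bot.1 (Submodule.finrank_eq_zero.1 hd2))
  have hd0' : d' ≠ 0 := fun e0 => by
    rw [e0, mul_zero] at hd2'
    refine hb'.ne (h.inj ?_)
    rw [map_one]
    exact sub_eq_zero.1 (LinearMap.range_eq_bot.1 (Submodule.finrank_eq_zero.1 hd2'))
  have hdim : ∀ (P Q : Submodule k V), P ⊔ Q = ⊤ → finrank k V ≤ finrank k P + finrank k Q := fun P Q e => by
    have := Submodule.finrank_add_le_finrank_add_finrank P Q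
    rwa [e, finrank_top] at this
  have hEd := hdim C E hdtop
  have hEd' := hdim C' E' hdtop'
  have pres : ∀ g, Commute g a0 → Commute g a1 →
      ∀ v ∈ LinearMap.ker (ρ a0 + 1) ⊓ LinearMap.ker (ρ a1 - 1),
        ρ g v ∈ LinearMap.ker (ρ a0 + 1) ⊓ LinearMap.ker (ρ a1 - 1) := by
    intro g g0 g1 v hv
    have v0 : ρ a0 v = -v := eq_neg_of_add_eq_zero_left (LinearMap.mem_ker.1 hv.1)
    have v1 : ρ a1 v = v := sub_eq_zero.1 (LinearMap.mem_ker.1 hv.2)
    refine ⟨?_, ?_⟩ <;> rw [SetLike.mem_coe, LinearMap.mem_ker]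
    · rw [LinearMap.add_apply, Module.End.one_apply, ← Module.End.mul_apply, ← map_mul, ← g0.eq,
        map_mul, Module.End.mul_apply, v0, map_neg, neg_add_cancel]
    · rw [LinearMap.sub_apply, Module.End.one_apply, ← Module.End.mul_apply, ← map_mul, ← g1.eq,
        map_mul, Module.End.mul_apply, v1, sub_self]
  have hW2 : finrank k (LinearMap.ker (ρ a0 + 1) ⊓ LinearMap.ker (ρ a1 - 1) : Submodule k V) ≤ 2 := by
    omega
  have triv : ∀ v, ρ a0 v = -v → ρ a1 v = v → ρ b0 v = v ∧ ρ b1 v = v := fun v v0 v1 =>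
    triple_trivial h2 hb'.eq1 hb'.next1 hb'.sq0 hb'.sq1 hb'.comm hW2 (pres tf cf0 cf1)
      (pres tf⁻¹ cf0.inv_left cf1.inv_left) (pres b0 c00 c01)
      ⟨by simp [LinearMap.mem_ker, v0], by simp [LinearMap.mem_ker, v1]⟩
  have hEC' : E ≤ C' := le_inf (hdg b0 ce0.symm fun v v0 v1 => (triv v v0 v1).1)
    (hdg b1 ce1.symm fun v v0 v1 => (triv v v0 v1).2)
  have h3d := Submodule.finrank_mono hEC'
  have hd1 : d = 1 := by omega
  have hd1' : d' = 1 := by omega
  refine ⟨by omega, ?_⟩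
  -- the roles exchanged
  have pres' : ∀ v ∈ LinearMap.ker (ρ b0 + 1) ⊓ LinearMap.ker (ρ b1 - 1),
      ρ te v ∈ LinearMap.ker (ρ b0 + 1) ⊓ LinearMap.ker (ρ b1 - 1) := by
    intro v hv
    have v0 : ρ b0 v = -v := eq_neg_of_add_eq_zero_left (LinearMap.mem_ker.1 hv.1)
    have v1 : ρ b1 v = v := sub_eq_zero.1 (LinearMap.mem_ker.1 hv.2)
    refine ⟨?_, ?_⟩ <;> rw [SetLike.mem_coe, LinearMap.mem_ker]
    · rw [LinearMap.add_apply, Module.End.one_apply, ← Module.End.mul_apply, ← map_mul, ← ce0.eq,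
        map_mul, Module.End.mul_apply, v0, map_neg, neg_add_cancel]
    · rw [LinearMap.sub_apply, Module.End.one_apply, ← Module.End.mul_apply, ← map_mul, ← ce1.eq,
        map_mul, Module.End.mul_apply, v1, sub_self]
  have hE'fix : E' ≤ LinearMap.ker (ρ te - 1) := hdg' te ctt fun v v0 v1 =>
    fix_of_line h3 (h.can_pow hc3 _) (by rw [hdW', hd1']) pres'
      ⟨by simp [LinearMap.mem_ker, v0], by simp [LinearMap.mem_ker, v1]⟩
  have hE'C : E' ≤ C := by
    rw [hC, hE']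
    refine sup_le ?_ ?_ <;> rintro _ ⟨w, rfl⟩
    all_goals
      obtain ⟨ec, hec, ee, hee, rfl⟩ := Submodule.mem_sup.1 (hdtop ▸ Submodule.mem_top : w ∈ C ⊔ E)
      have f0 : ρ b0 ee = ee := sub_eq_zero.1 (LinearMap.mem_ker.1 (hEC' hee).1)
      have f1 : ρ b1 ee = ee := sub_eq_zero.1 (LinearMap.mem_ker.1 (hEC' hee).2)
      rw [map_add, LinearMap.sub_apply _ _ ee, Module.End.one_apply]
    · rw [f0, sub_self, add_zero, LinearMap.sub_apply, Module.End.one_apply]
      refine C.sub_mem ⟨?_, ?_⟩ hec <;>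
        rw [SetLike.mem_coe, LinearMap.mem_ker, LinearMap.sub_apply, Module.End.one_apply, sub_eq_zero,
          ← Module.End.mul_apply, ← map_mul]
      · rw [c00.symm.eq, map_mul, Module.End.mul_apply, sub_eq_zero.1 (LinearMap.mem_ker.1 hec.1)]
        rfl
      · rw [c01.symm.eq, map_mul, Module.End.mul_apply, sub_eq_zero.1 (LinearMap.mem_ker.1 hec.2)]
        rfl
    · have c11 : Commute b1 a1 := h.double_commute hef s1 dblB_mem hb.map1 hb'.map1
      rw [f1, sub_self, add_zero, LinearMap.sub_apply, Module.End.one_apply]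
      refine C.sub_mem ⟨?_, ?_⟩ hec <;>
        rw [SetLike.mem_coe, LinearMap.mem_ker, LinearMap.sub_apply, Module.End.one_apply, sub_eq_zero,
          ← Module.End.mul_apply, ← map_mul]
      · rw [c10.symm.eq, map_mul, Module.End.mul_apply, sub_eq_zero.1 (LinearMap.mem_ker.1 hec.1)]
        rfl
      · rw [c11.symm.eq, map_mul, Module.End.mul_apply, sub_eq_zero.1 (LinearMap.mem_ker.1 hec.2)]
        rfl
  have hCeq : C = E' := (Submodule.eq_of_le_of_finrank_le hE'C (by omega)).symm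
  obtain ⟨hrt, hEt⟩ := hdt (h.can_pow hc3 _) fun v v0 v1 => by
    have : v ∈ C := ⟨by simp [LinearMap.mem_ker, v0], by simp [LinearMap.mem_ker, v1]⟩
    rw [hCeq] at this
    exact sub_eq_zero.1 (LinearMap.mem_ker.1 (hE'fix this))
  exact ⟨E, by omega, by rw [hrt, hd1], h.block_quad hb hEt⟩

/-- The bound in characteristic three. -/
theorem bound_three [IsAlgClosed k] [CharP k 3] :
    r - 1 ≤ finrank k V ∨ (r - 2 ≤ finrank k V ∧ (r : k) = 0) := by
  classical
  have hr := h.deg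
  by_cases hbig : r - 1 ≤ finrank k V
  · exact Or.inl hbig
  have h3 : (3 : k) = 0 := by exact_mod_cast CharP.cast_eq_zero k 3
  have hnot : ∀ n : ℕ, ¬ 3 ∣ n → (n : k) ≠ 0 := fun n hn e => hn ((CharP.cast_eq_zero_iff k 3 n).1 e)
  have h2 : (2 : k) ≠ 0 := by exact_mod_cast hnot 2 (by norm_num)
  have hc3 : CycOK 3 r := cycOK_three (by omega)
  rcases Nat.lt_or_ge r 10 with h9 | h10
  · by_cases h7 : 7 ≤ finrank k V
    · exact Or.inr ⟨by omega, (CharP.cast_eq_zero_iff k 3 r).2 (by omega)⟩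
    have hn6 : finrank k V ≤ 6 := by omega
    have hlin : ∀ e : Fin 4 ↪ Fin r, BlockLin π e :=
      h.no_spin_nine h2 (hnot 7 (by norm_num)) (by omega) hn6
    obtain ⟨e₀, -⟩ := exists_emb_off (r := r) ∅ (n := 4) (by simp; omega)
    obtain ⟨h6, E₀, -, hrk0, -⟩ := h.three_data_nine (hc3 := hc3) h3 h2 hn6 (by omega) hlin e₀
    refine h.bound_of_planes hc3 (by omega) (fun κ => h.rank_conj hrk0 κ) fun e => ?_
    obtain ⟨-, E, hE, -, hle⟩ := h.three_data_nine (hc3 := hc3) h3 h2 hn6 (by omega) hlin e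
    exact ⟨E, hE, hle⟩
  have hc5 : CycOK 5 r := cycOK_five h10
  have hm5 : ((5 : ℕ) : k) ≠ 0 := hnot 5 (by norm_num)
  obtain ⟨ζ, hζ⟩ := exists_primitive (by norm_num) hm5
  have hKr : 5 * (r / 5) ≤ r := Nat.mul_div_le r 5
  by_cases hmix : h.NoMix hc5
  · have hrk : ∀ ι, finrank k (LinearMap.range (ρ (h.can hc5 ι) - 1)) = 5 - 1 := by
      intro ι
      obtain ⟨h1, h2'⟩ := h.finrank_range_can hc5 hζ hm5 (by norm_num) ι (c := 1) (by decide)
      by_contra hne
      have h8 : 8 ≤ finrank k (LinearMap.range (ρ (h.can hc5 ι) - 1)) := by omega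
      have h3' := h.noMix_bound hc5 hζ hm5 (by norm_num) hmix hKr ι
      have := Nat.mul_le_mul_left (r / 5) h8
      omega
    obtain ⟨e₀, -⟩ := exists_emb_off (r := r) ∅ (n := 4) (by simp; omega)
    have hn2 : finrank k V + 2 ≤ r := by omega
    obtain ⟨E₀, -, hrk0, -⟩ := h.three_data_large (hc3 := hc3) h3 h2 h10 hc5 hζ hm5 hmix hrk hn2 e₀
    obtain ⟨ι₀, -⟩ := exists_emb_off (r := r) ∅ (n := 5) (by simp; omega)
    have hge : 4 ≤ finrank k V := by
      have := Submodule.finrank_le (LinearMap.range (ρ (h.can hc5 ι₀) - 1))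
      rw [hrk] at this
      omega
    refine h.bound_of_planes hc3 hge (fun κ => h.rank_conj hrk0 κ) fun e => ?_
    obtain ⟨E, hE, -, hle⟩ := h.three_data_large (hc3 := hc3) h3 h2 h10 hc5 hζ hm5 hmix hrk hn2 e
    exact ⟨E, hE, hle⟩
  · obtain ⟨j, hj2, hjK, hj, -⟩ := h.mixed_weight hc5 hζ hm5 hmix (K := r / 5) (by omega) hKr
      (by norm_num)
    refine Or.inl (le_trans ?_ hj)
    rcases Nat.lt_or_ge j (r / 5) with hlt | hge
    · have h1 := le_choose_of_lt (by omega : 1 ≤ j) hlt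
      have h2' : 4 ^ 2 ≤ (5 - 1) ^ j := Nat.pow_le_pow_right (by norm_num) hj2
      have h3' := Nat.mul_le_mul h1 h2'
      omega
    · obtain rfl : j = r / 5 := by omega
      rw [Nat.choose_self, one_mul]
      have := pow_four_ge _ hj2
      simp only [show 5 - 1 = 4 from rfl]
      omega

end AltRep

end Cfsg.Agent.Lib.MinDeg66
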