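import Cfsg.Agent.Lib.MinDeg66.Perm

/-!
A configuration of planes indexed by triples of points is the deleted permutation module.
-/

set_option autoImplicit false

namespace Cfsg.Agent.Lib.MinDeg66

open Equiv Equiv.Perm Module

variable {r : ℕ}

/-- Pairwise distinctness of three points. -/
abbrev Dist3 (a b c : Fin r) : Prop := a ≠ b ∧ a ≠ c ∧ b ≠ c

theorem exists_fresh (hr : 9 ≤ r) (S : Finset (Fin r)) (hS : S.card ≤ 6) :
    ∃ g h i : Fin r, Dist3 g h i ∧ g ∉ S ∧ h ∉ S ∧ i ∉ S := by
  obtain ⟨ι, hι⟩ := exists_emb_off S (n := 3) (by omega)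
  exact ⟨ι 0, ι 1, ι 2, ⟨ι.injective.ne (by decide), ι.injective.ne (by decide),
    ι.injective.ne (by decide)⟩, hι 0, hι 1, hι 2⟩

/-- A symmetric function of triples that is unchanged by replacing a point is constant. -/
theorem triple_const {β : Type*} (hr : 9 ≤ r) (f : Fin r → Fin r → Fin r → β)
    (hrot : ∀ a b c, Dist3 a b c → f a b c = f b c a)
    (hrep : ∀ a b c d, Dist3 a b c → Dist3 a b d → c ≠ d → f a b c = f a b d) {a b c a' b' c' : Fin r}
    (h : Dist3 a b c) (h' : Dist3 a' b' c') : f a b c = f a' b' c' := by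
  classical
  obtain ⟨g, e, i, hgei, hg, he, hi⟩ := exists_fresh hr {a, b, c, a', b', c'} (by
    repeat' refine (Finset.card_insert_le _ _).trans (Nat.succ_le_succ ?_)
    simp)
  simp only [Finset.mem_insert, Finset.mem_singleton, not_or] at hg he hi
  suffices H : ∀ a b c, Dist3 a b c → g ≠ a → g ≠ b → g ≠ c → e ≠ a → e ≠ b → i ≠ b →
      f a b c = f g e i by
    rw [H a b c h hg.1 hg.2.1 hg.2.2.1 he.1 he.2.1 hi.2.1,
      H a' b' c' h' hg.2.2.2.1 hg.2.2.2.2.1 hg.2.2.2.2.2 he.2.2.2.1 he.2.2.2.2.1 hi.2.2.2.2.1]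
  intro a b c habc hga hgb hgc hea heb hib
  obtain ⟨hab, hac, hbc⟩ := habc
  obtain ⟨hge, hgi, hei⟩ := hgei
  calc f a b c = f a b g := hrep a b c g ⟨hab, hac, hbc⟩ ⟨hab, hga.symm, hgb.symm⟩ hgc.symm
    _ = f b g a := hrot a b g ⟨hab, hga.symm, hgb.symm⟩
    _ = f b g e := hrep b g a e ⟨hgb.symm, hab.symm, hga⟩ ⟨hgb.symm, heb.symm, hge⟩ hea.symm
    _ = f g e b := hrot b g e ⟨hgb.symm, heb.symm, hge⟩
    _ = f g e i := hrep g e b i ⟨hge, hgb, heb⟩ ⟨hge, hgi, hei⟩ hib.symm

/-- Three distinct points as an embedding. -/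
def emb3 {a b c : Fin r} (h : Dist3 a b c) : Fin 3 ↪ Fin r :=
  ⟨![a, b, c], by
    intro i j hij
    fin_cases i <;> fin_cases j <;> simp_all [Dist3]⟩

/-- Four distinct points as an embedding. -/
def emb4 {a b c d : Fin r} (h : Dist3 a b c) (h' : Dist3 a b d) (hcd : c ≠ d) : Fin 4 ↪ Fin r :=
  ⟨![a, b, c, d], by
    intro i j hij
    fin_cases i <;> fin_cases j <;> simp_all [Dist3]⟩

/-- Five distinct points as an embedding. -/
def emb5 {a b c d e : Fin r} (h : Dist3 a b c) (h' : Dist3 a b d) (h'' : Dist3 a b e) (hcd : c ≠ d)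
    (hce : c ≠ e) (hde : d ≠ e) : Fin 5 ↪ Fin r :=
  ⟨![a, b, c, d, e], by
    intro i j hij
    fin_cases i <;> fin_cases j <;> simp_all [Dist3]⟩

/-- Planes indexed by triples, permuted by a group and contained in spaces of dimension three
attached to quadruples. -/
structure Planes {k V Γ : Type*} [Field k] [AddCommGroup V] [Module k V] [Group Γ]
    (ρ : Representation k Γ V) (π : Γ →* Perm (Fin r)) (U : Fin r → Fin r → Fin r → Submodule k V) :
    Prop where
  dim : ∀ a b c, Dist3 a b c → finrank k (U a b c) = 2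
  rot : ∀ a b c, Dist3 a b c → U a b c = U b c a
  flip : ∀ a b c, Dist3 a b c → U a b c = U b a c
  move : ∀ g a b c, Dist3 a b c → ∀ v ∈ U a b c, ρ g v ∈ U (π g a) (π g b) (π g c)
  quad : ∀ a b c d, Dist3 a b c → d ≠ a → d ≠ b → d ≠ c → ∃ E : Submodule k V,
    finrank k E ≤ 3 ∧ U a b c ≤ E ∧ U a b d ≤ E ∧ U a c d ≤ E ∧ U b c d ≤ E

section main

variable {k V Γ : Type*} [Field k] [AddCommGroup V] [Module k V] [FiniteDimensional k V] [Group Γ]
  {ρ : Representation k Γ V} {π : Γ →* Perm (Fin r)}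

/-- The deleted permutation module is the only such configuration. -/
theorem planes_bound {U : Fin r → Fin r → Fin r → Submodule k V} (hU : Planes ρ π U) (hr : 9 ≤ r)
    (hπ : π.range = alternatingGroup (Fin r)) (hn : 4 ≤ finrank k V)
    (hirr : ∀ W : Submodule k V, (∀ g, ∀ v ∈ W, ρ g v ∈ W) → W = ⊥ ∨ W = ⊤) :
    r - 1 ≤ finrank k V ∨ (r - 2 ≤ finrank k V ∧ (r : k) = 0) := by
  classical
  have hinj : ∀ g, Function.Injective (ρ g) := fun g u v e => by
    have := congrArg (ρ g⁻¹) e
    rwa [Representation.inv_self_apply, Representation.inv_self_apply] at this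
  have lift : ∀ {l : ℕ} (ι κ : Fin l ↪ Fin r), l ≤ 7 → ∃ g, ∀ x, π g (ι x) = κ x := fun ι κ hl => by
    obtain ⟨g, hgA, hg⟩ := exists_even_map (by omega) ι κ
    rw [← hπ] at hgA
    obtain ⟨G, rfl⟩ := hgA
    exact ⟨G, hg⟩
  have hd : ∀ {g : Γ} {a b : Fin r}, a ≠ b → π g a ≠ π g b := fun h e => h ((π _).injective e)
  have move_eq : ∀ g a b c, Dist3 a b c → (U a b c).map (ρ g) = U (π g a) (π g b) (π g c) := by
    intro g a b c h
    refine Submodule.eq_of_le_of_finrank_eq ?_ ?_
    · rintro _ ⟨v, hv, rfl⟩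
      exact hU.move g a b c h v hv
    · rw [hU.dim _ _ _ ⟨hd h.1, hd h.2.1, hd h.2.2⟩,
        ← (Submodule.equivMapOfInjective _ (hinj g) (U a b c)).finrank_eq, hU.dim a b c h]
  obtain ⟨o, q, s, hoqs, -, -, -⟩ := exists_fresh hr ∅ (by simp)
  -- all planes cannot lie in one small space
  have nosmall : ∀ W : Submodule k V, finrank k W ≤ 3 → (∀ a b c, Dist3 a b c → U a b c ≤ W) → False := by
    intro W hW hall
    let S : Submodule k V := ⨆ p : {p : Fin r × Fin r × Fin r // Dist3 p.1 p.2.1 p.2.2}, U p.1.1 p.1.2.1 p.1.2.2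
    have hSinv : ∀ g, ∀ v ∈ S, ρ g v ∈ S := by
      intro g v hv
      have hle : S.map (ρ g) ≤ S := by
        simp only [S, Submodule.map_iSup]
        refine iSup_le fun p => ?_
        rw [move_eq g _ _ _ p.2]
        exact le_iSup_of_le ⟨(π g p.1.1, π g p.1.2.1, π g p.1.2.2), hd p.2.1, hd p.2.2.1, hd p.2.2.2⟩ le_rfl
      exact hle ⟨v, hv, rfl⟩
    have hle : U o q s ≤ S := le_iSup_of_le ⟨(o, q, s), hoqs⟩ le_rfl
    rcases hirr S hSinv with e | e
    · have := hU.dim o q s hoqs
      rw [e, le_bot_iff] at hle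
      rw [hle, finrank_bot] at this
      omega
    · have h1 : (⊤ : Submodule k V) ≤ W := e ▸ iSup_le fun p => hall _ _ _ p.2
      have := (finrank_top k V).symm.le.trans ((Submodule.finrank_mono h1).trans hW)
      omega
  -- adjacent planes differ
  have hne : ∀ a b c d, Dist3 a b c → Dist3 a b d → c ≠ d → U a b c ≠ U a b d := by
    intro a b c d h1 h2 hcd e
    have hrep : ∀ a' b' c' d', Dist3 a' b' c' → Dist3 a' b' d' → c' ≠ d' → U a' b' c' = U a' b' d' := by
      intro a' b' c' d' h1' h2' hcd'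
      let ι := emb4 h1 h2 hcd
      let κ := emb4 h1' h2' hcd'
      obtain ⟨g, hg⟩ := lift ι κ (by norm_num)
      have ga : π g a = a' := hg 0
      have gb : π g b = b' := hg 1
      have gc : π g c = c' := hg 2
      have gd : π g d = d' := hg 3
      rw [← ga, ← gb, ← gc, ← gd, ← move_eq g a b c h1, ← move_eq g a b d h2, e]
    refine nosmall (U a b c) (by rw [hU.dim a b c h1]; omega) fun x y z hxyz => ?_
    exact (triple_const hr U hU.rot hrep hxyz h1).le
  have rot2 : ∀ a b c, Dist3 a b c → U a b c = U c a b := fun a b c h => by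
    rw [hU.rot a b c h, hU.rot b c a ⟨h.2.2, h.1.symm, h.2.1.symm⟩]
  have sup_eq : ∀ a b c d, Dist3 a b c → Dist3 a b d → c ≠ d →
      finrank k ↥(U a b c ⊔ U a b d) = 3 ∧ finrank k ↥(U a b c ⊓ U a b d) = 1 ∧
        U a c d ≤ U a b c ⊔ U a b d ∧ U b c d ≤ U a b c ⊔ U a b d := by
    intro a b c d h1 h2 hcd
    obtain ⟨E, hE, e1, e2, e3, e4⟩ := hU.quad a b c d h1 h2.2.1.symm h2.2.2.symm hcd.symm
    have hle : U a b c ⊔ U a b d ≤ E := sup_le e1 e2
    have hlt : U a b c < U a b c ⊔ U a b d := lt_of_le_of_ne le_sup_left fun e => hne a b c d h1 h2 hcd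
      (Submodule.eq_of_le_of_finrank_eq (e ▸ le_sup_right : U a b d ≤ U a b c)
        (by rw [hU.dim a b c h1, hU.dim a b d h2])).symm
    have h3 := Submodule.finrank_lt_finrank_of_lt hlt
    have h4 := Submodule.finrank_mono hle
    rw [hU.dim a b c h1] at h3
    have h5 := Submodule.finrank_sup_add_finrank_inf_eq (U a b c) (U a b d)
    rw [hU.dim a b c h1, hU.dim a b d h2] at h5
    have hEq : U a b c ⊔ U a b d = E := Submodule.eq_of_le_of_finrank_le hle (by omega)
    exact ⟨by omega, by omega, hEq ▸ e3, hEq ▸ e4⟩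
  -- a fifth point gives a new space
  have hnew : ∀ a b c d e, Dist3 a b c → Dist3 a b d → Dist3 a b e → c ≠ d → c ≠ e → d ≠ e →
      ¬ U a b e ≤ U a b c ⊔ U a b d := by
    intro a b c d e h1 h2 h3 hcd hce hde hle
    have hrep : ∀ x y z w w', Dist3 x y z → Dist3 x y w → Dist3 x y w' → z ≠ w → z ≠ w' → w ≠ w' →
        U x y z ⊔ U x y w = U x y z ⊔ U x y w' := by
      intro x y z w w' k1 k2 k3 hzw hzw' hww'
      let ι := emb5 h1 h2 h3 hcd hce hde
      let κ := emb5 k1 k2 k3 hzw hzw' hww'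
      obtain ⟨g, hg⟩ := lift ι κ (by norm_num)
      have heq : U a b c ⊔ U a b e = U a b c ⊔ U a b d :=
        Submodule.eq_of_le_of_finrank_eq (sup_le le_sup_left hle)
          (by rw [(sup_eq a b c e h1 h3 hce).1, (sup_eq a b c d h1 h2 hcd).1])
      have ga : π g a = x := hg 0
      have gb : π g b = y := hg 1
      have gc : π g c = z := hg 2
      have gd : π g d = w := hg 3
      have ge : π g e = w' := hg 4
      rw [← ga, ← gb, ← gc, ← gd, ← ge, ← move_eq g a b c h1, ← move_eq g a b d h2,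
        ← move_eq g a b e h3, ← Submodule.map_sup, ← Submodule.map_sup, heq]
    -- the space of a quadruple depends only on a triple, hence on nothing
    let F : Fin r → Fin r → Fin r → Submodule k V := fun x y z =>
      if h : ∃ w, Dist3 x y w ∧ z ≠ w then U x y z ⊔ U x y h.choose else ⊥
    have hF : ∀ x y z w, Dist3 x y z → Dist3 x y w → z ≠ w → F x y z = U x y z ⊔ U x y w := by
      intro x y z w k1 k2 hzw
      have hh : ∃ w, Dist3 x y w ∧ z ≠ w := ⟨w, k2, hzw⟩
      simp only [F, dif_pos hh]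
      rcases eq_or_ne hh.choose w with e' | e'
      · rw [e']
      · exact hrep x y z _ _ k1 hh.choose_spec.1 k2 hh.choose_spec.2 hzw e'
    have hfresh : ∀ x y z : Fin r, Dist3 x y z → ∃ w : Fin r, Dist3 x y w ∧ z ≠ w := by
      intro x y z k1
      obtain ⟨w, -, -, -, hw, -, -⟩ := exists_fresh hr {x, y, z}
        (Finset.card_le_three.trans (by norm_num))
      simp only [Finset.mem_insert, Finset.mem_singleton, not_or] at hw
      exact ⟨w, ⟨k1.1, Ne.symm hw.1, Ne.symm hw.2.1⟩, Ne.symm hw.2.2⟩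
    refine nosmall (F a b c) ?_ fun x y z hxyz => ?_
    · rw [hF a b c d h1 h2 hcd, (sup_eq a b c d h1 h2 hcd).1]
    · obtain ⟨w, hw, hzw⟩ := hfresh x y z hxyz
      have hrot : ∀ x y z, Dist3 x y z → F x y z = F y z x := by
        intro x y z k1
        obtain ⟨w, hw, hzw⟩ := hfresh x y z k1
        have hw' : Dist3 y z w := ⟨k1.2.2, hw.2.2, hzw⟩
        rw [hF x y z w k1 hw hzw, hF y z x w ⟨k1.2.2, k1.1.symm, k1.2.1.symm⟩ hw' hw.2.1,
          ← hU.rot x y z k1]
        refine (Submodule.eq_of_le_of_finrank_eq (sup_le le_sup_left (sup_eq x y z w k1 hw hzw).2.2.2)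
          ?_).symm
        have := (sup_eq y z x w ⟨k1.2.2, k1.1.symm, k1.2.1.symm⟩ hw' hw.2.1).1
        rw [← hU.rot x y z k1] at this
        rw [this, (sup_eq x y z w k1 hw hzw).1]
      have hrep' : ∀ x y z w, Dist3 x y z → Dist3 x y w → z ≠ w → F x y z = F x y w := by
        intro x y z w k1 k2 hzw'
        rw [hF x y z w k1 k2 hzw', hF x y w z k2 k1 hzw'.symm, sup_comm]
      rw [triple_const hr F hrot hrep' h1 hxyz, hF x y z w hxyz hw hzw]
      exact le_sup_left
  -- the lines
  have indep : ∀ a b c d e, Dist3 a b c → Dist3 a b d → Dist3 a b e → c ≠ d → c ≠ e →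
      U a b c ⊓ U a b d = U a b c ⊓ U a b e := by
    intro a b c d e h1 h2 h3 hcd hce
    rcases eq_or_ne d e with rfl | hde
    · rfl
    by_contra hl
    set l1 := U a b c ⊓ U a b d
    set l2 := U a b c ⊓ U a b e
    have d1 : finrank k l1 = 1 := (sup_eq a b c d h1 h2 hcd).2.1
    have d2 : finrank k l2 = 1 := (sup_eq a b c e h1 h3 hce).2.1
    have d3 : finrank k ↥(U a b d ⊓ U a b e) = 1 := (sup_eq a b d e h2 h3 hde).2.1
    by_cases h : U a b d ⊓ U a b e ≤ U a b c
    · apply hl
      have e1 : U a b d ⊓ U a b e = l1 :=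
        Submodule.eq_of_le_of_finrank_eq (le_inf h inf_le_left) (by rw [d3, d1])
      have e2 : U a b d ⊓ U a b e = l2 :=
        Submodule.eq_of_le_of_finrank_eq (le_inf h inf_le_right) (by rw [d3, d2])
      exact e1.symm.trans e2
    · refine hnew a b c d e h1 h2 h3 hcd hce hde ?_
      have hlt : l2 < l2 ⊔ (U a b d ⊓ U a b e) :=
        left_lt_sup.2 fun hh => h (hh.trans inf_le_left)
      have := Submodule.finrank_lt_finrank_of_lt hlt
      have heq : l2 ⊔ (U a b d ⊓ U a b e) = U a b e :=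
        Submodule.eq_of_le_of_finrank_le (sup_le inf_le_right inf_le_right) (by rw [hU.dim a b e h3]; omega)
      rw [← heq]
      exact sup_le (inf_le_left.trans le_sup_left) (inf_le_left.trans le_sup_right)
  let L : Fin r → Fin r → Submodule k V := fun a b =>
    if h : ∃ p : Fin r × Fin r, Dist3 a b p.1 ∧ Dist3 a b p.2 ∧ p.1 ≠ p.2 then
      U a b h.choose.1 ⊓ U a b h.choose.2 else ⊥
  have hL : ∀ a b c d, Dist3 a b c → Dist3 a b d → c ≠ d → L a b = U a b c ⊓ U a b d := by
    intro a b c d h1 h2 hcd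
    have hh : ∃ p : Fin r × Fin r, Dist3 a b p.1 ∧ Dist3 a b p.2 ∧ p.1 ≠ p.2 := ⟨(c, d), h1, h2, hcd⟩
    simp only [L, dif_pos hh]
    obtain ⟨k1, k2, k12⟩ := hh.choose_spec
    generalize hh.choose.1 = x, hh.choose.2 = y at k1 k2 k12 ⊢
    rcases eq_or_ne x c with rfl | hxc
    · exact indep a b x y d k1 k2 h2 k12 hcd
    · rw [indep a b x y c k1 k2 h1 k12 hxc, inf_comm, indep a b c x d h1 k1 h2 hxc.symm hcd]
  have fresh2 : ∀ a b, a ≠ b → ∃ c d : Fin r, Dist3 a b c ∧ Dist3 a b d ∧ c ≠ d := by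
    intro a b hab
    obtain ⟨c, d, i, hcd, hc, hd', -⟩ := exists_fresh hr {a, b} (Finset.card_le_two.trans (by norm_num))
    simp only [Finset.mem_insert, Finset.mem_singleton, not_or] at hc hd'
    exact ⟨c, d, ⟨hab, Ne.symm hc.1, Ne.symm hc.2⟩, ⟨hab, Ne.symm hd'.1, Ne.symm hd'.2⟩, hcd.1⟩
  have Ldim : ∀ a b, a ≠ b → finrank k (L a b) = 1 := by
    intro a b hab
    obtain ⟨c, d, h1, h2, hcd⟩ := fresh2 a b hab
    rw [hL a b c d h1 h2 hcd, (sup_eq a b c d h1 h2 hcd).2.1]
  have Lsym : ∀ a b, a ≠ b → L a b = L b a := by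
    intro a b hab
    obtain ⟨c, d, h1, h2, hcd⟩ := fresh2 a b hab
    rw [hL a b c d h1 h2 hcd, hL b a c d ⟨hab.symm, h1.2.2, h1.2.1⟩ ⟨hab.symm, h2.2.2, h2.2.1⟩ hcd,
      hU.flip a b c h1, hU.flip a b d h2]
  have Lle : ∀ a b c, Dist3 a b c → L a b ≤ U a b c := by
    intro a b c h1
    obtain ⟨g, e, -, hge, hg, he, -⟩ := exists_fresh hr {a, b, c}
      (Finset.card_le_three.trans (by norm_num))
    simp only [Finset.mem_insert, Finset.mem_singleton, not_or] at hg
    rw [hL a b c g h1 ⟨h1.1, Ne.symm hg.1, Ne.symm hg.2.1⟩ (Ne.symm hg.2.2)]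
    exact inf_le_left
  have Lmap : ∀ g a b, a ≠ b → (L a b).map (ρ g) = L (π g a) (π g b) := by
    intro g a b hab
    obtain ⟨c, d, h1, h2, hcd⟩ := fresh2 a b hab
    rw [hL a b c d h1 h2 hcd, hL (π g a) (π g b) (π g c) (π g d) ⟨hd hab, hd h1.2.1, hd h1.2.2⟩
      ⟨hd hab, hd h2.2.1, hd h2.2.2⟩ (hd hcd), Submodule.map_inf _ (hinj g), move_eq g a b c h1,
      move_eq g a b d h2]
  have Ldist : ∀ a b c, Dist3 a b c → L a b ≠ L a c := by
    intro a b c h1 e
    have hall : ∀ x y z, Dist3 x y z → L x y = L x z := by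
      intro x y z hxyz
      let ι := emb3 h1
      let κ := emb3 hxyz
      obtain ⟨g, hg⟩ := lift ι κ (by norm_num)
      have ga : π g a = x := hg 0
      have gb : π g b = y := hg 1
      have gc : π g c = z := hg 2
      rw [← ga, ← gb, ← gc, ← Lmap g a b h1.1, ← Lmap g a c h1.2.1, e]
    have hconst : ∀ x y, x ≠ y → L x y = L a b := by
      intro x y hxy
      by_cases hxa : x = a
      · subst hxa
        rcases eq_or_ne y b with rfl | hyb
        · rfl
        · exact hall x y b ⟨hxy, h1.1, hyb⟩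
      · by_cases hya : y = a
        · subst hya
          rw [Lsym x y hxy]
          rcases eq_or_ne x b with rfl | hxb
          · rfl
          · exact hall y x b ⟨hxy.symm, h1.1, hxb⟩
        · rw [hall x y a ⟨hxy, hxa, hya⟩, Lsym x a hxa]
          rcases eq_or_ne x b with rfl | hxb
          · rfl
          · exact hall a x b ⟨Ne.symm hxa, h1.1, hxb⟩
    have hinv : ∀ g, ∀ v ∈ L a b, ρ g v ∈ L a b := fun g v hv => by
      rw [← hconst (π g a) (π g b) (hd h1.1), ← Lmap g a b h1.1]
      exact ⟨v, hv, rfl⟩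
    rcases hirr _ hinv with e' | e'
    · have := Ldim a b h1.1
      rw [e', finrank_bot] at this
      omega
    · have := Ldim a b h1.1
      rw [e', finrank_top] at this
      omega
  have Lsup : ∀ a b c, Dist3 a b c → U a b c = L a b ⊔ L a c := by
    intro a b c h1
    have hle : L a c ≤ U a b c := by
      have := Lle a c b ⟨h1.2.1, h1.1, h1.2.2.symm⟩
      rwa [hU.rot a c b ⟨h1.2.1, h1.1, h1.2.2.symm⟩, hU.flip c b a ⟨h1.2.2.symm, h1.2.1.symm, h1.1.symm⟩,
        ← hU.rot a b c h1] at this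
    refine (Submodule.eq_of_le_of_finrank_le (sup_le (Lle a b c h1) hle) ?_).symm
    have hlt : L a b < L a b ⊔ L a c := left_lt_sup.2 fun hh => Ldist a b c h1
      (Submodule.eq_of_le_of_finrank_eq hh (by rw [Ldim a b h1.1, Ldim a c h1.2.1])).symm
    have := Submodule.finrank_lt_finrank_of_lt hlt
    rw [hU.dim a b c h1]
    rw [Ldim a b h1.1] at this
    omega
  -- the vectors
  obtain ⟨hoq, -, -⟩ := hoqs
  obtain ⟨v0, hv0, hv0ne⟩ := Submodule.exists_mem_ne_zero_of_ne_bot (p := L o q) fun e => by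
    have := Ldim o q hoq
    rw [e, finrank_bot] at this
    omega
  have hdec : ∀ j, j ≠ o → j ≠ q → ∃ v, v ∈ L o j ∧ v0 - v ∈ L q j := by
    intro j hjo hjq
    have hmem : v0 ∈ L o j ⊔ L q j := by
      have h1 : L o q ≤ U j o q := by
        rw [hU.rot j o q ⟨hjo, hjq, hoq⟩]
        exact Lle o q j ⟨hoq, hjo.symm, hjq.symm⟩
      have h2 := h1 hv0
      rwa [Lsup j o q ⟨hjo, hjq, hoq⟩, Lsym j o hjo, Lsym j q hjq] at h2
    obtain ⟨v, hv, w, hw, e⟩ := Submodule.mem_sup.1 hmem
    exact ⟨v, hv, by rw [← e, add_sub_cancel_left]; exact hw⟩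
  let vj : Fin r → V := fun j =>
    if h : j ≠ o ∧ j ≠ q then (hdec j h.1 h.2).choose else if j = q then v0 else 0
  have vo : vj o = 0 := by simp [vj, hoq]
  have vq : vj q = v0 := by simp [vj]
  have vmem : ∀ j, j ≠ o → vj j ∈ L o j := by
    intro j hjo
    rcases eq_or_ne j q with rfl | hjq
    · rw [vq]; exact hv0
    · simp only [vj, dif_pos (And.intro hjo hjq)]
      exact (hdec j hjo hjq).choose_spec.1
  have vdq : ∀ j, j ≠ o → j ≠ q → v0 - vj j ∈ L q j := by
    intro j hjo hjq
    simp only [vj, dif_pos (And.intro hjo hjq)]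
    exact (hdec j hjo hjq).choose_spec.2
  have diff : ∀ i j, i ≠ j → vj i - vj j ∈ L i j := by
    intro i j hij
    rcases eq_or_ne i o with rfl | hio
    · rw [vo, zero_sub, Submodule.neg_mem_iff]
      exact vmem j hij.symm
    rcases eq_or_ne j o with rfl | hjo
    · rw [vo, sub_zero, Lsym i j hij]
      exact vmem i hij
    rcases eq_or_ne i q with rfl | hiq
    · rw [vq]
      exact vdq j hjo hij.symm
    rcases eq_or_ne j q with rfl | hjq
    · rw [vq, Lsym i j hij, ← neg_sub, Submodule.neg_mem_iff]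
      exact vdq i hio hij
    have hq : Dist3 i j q := ⟨hij, hiq, hjq⟩
    have ho : Dist3 i j o := ⟨hij, hio, hjo⟩
    rw [hL i j q o hq ho hoq.symm]
    refine ⟨?_, ?_⟩
    · have e : vj i - vj j = (v0 - vj j) - (v0 - vj i) := by abel
      rw [e]
      have hqi : U i j q = L q i ⊔ L q j := by
        rw [rot2 i j q hq, Lsup q i j ⟨Ne.symm hiq, Ne.symm hjq, hij⟩]
      rw [SetLike.mem_coe, hqi]
      exact Submodule.sub_mem _ (Submodule.mem_sup_right (vdq j hjo hjq))
        (Submodule.mem_sup_left (vdq i hio hiq))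
    · have hoi : U i j o = L o i ⊔ L o j := by
        rw [rot2 i j o ho, Lsup o i j ⟨Ne.symm hio, Ne.symm hjo, hij⟩]
      rw [SetLike.mem_coe, hoi]
      exact Submodule.sub_mem _ (Submodule.mem_sup_left (vmem i hio))
        (Submodule.mem_sup_right (vmem j hjo))
  have vne : ∀ j, j ≠ o → vj j ≠ 0 := by
    intro j hjo e
    rcases eq_or_ne j q with rfl | hjq
    · exact hv0ne (vq ▸ e)
    · have h1 := vdq j hjo hjq
      rw [e, sub_zero] at h1
      apply Ldist q o j ⟨hoq.symm, hjq.symm, hjo.symm⟩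
      rw [Lsym q o hoq.symm]
      have e1 : (k ∙ v0) = L o q := Submodule.eq_of_le_of_finrank_eq
        ((Submodule.span_singleton_le_iff_mem _ _).2 hv0) (by rw [finrank_span_singleton hv0ne, Ldim o q hoq])
      exact e1.symm.trans (Submodule.eq_of_le_of_finrank_eq
        ((Submodule.span_singleton_le_iff_mem _ _).2 h1)
        (by rw [finrank_span_singleton hv0ne, Ldim q j hjq.symm]))
  have dne : ∀ i j, i ≠ j → vj i - vj j ≠ 0 := by
    intro i j hij e
    rw [sub_eq_zero] at e
    rcases eq_or_ne i o with rfl | hio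
    · rw [vo] at e; exact vne j hij.symm e.symm
    rcases eq_or_ne j o with rfl | hjo
    · rw [vo] at e; exact vne i hij e
    apply Ldist o i j ⟨Ne.symm hio, Ne.symm hjo, hij⟩
    have sp : ∀ l, l ≠ o → (k ∙ vj l) = L o l := fun l hl => Submodule.eq_of_le_of_finrank_eq
      ((Submodule.span_singleton_le_iff_mem _ _).2 (vmem l hl))
      (by rw [finrank_span_singleton (vne l hl), Ldim o l (Ne.symm hl)])
    rw [← sp i hio, ← sp j hjo, e]
  -- the map from the sum-zero vectors
  let S : Submodule k (Fin r → k) := LinearMap.ker (∑ i, LinearMap.proj i)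
  let φ0 : (Fin r → k) →ₗ[k] V := ∑ i, (LinearMap.proj i).smulRight (vj i)
  let φ : S →ₗ[k] V := φ0.comp S.subtype
  have hS : ∀ x : S, ∑ i, (x : Fin r → k) i = 0 := fun x => by
    have := LinearMap.mem_ker.1 x.2
    rw [LinearMap.sum_apply] at this
    exact this
  have hφ : ∀ x : S, φ x = ∑ i, (x : Fin r → k) i • vj i := fun x => by
    simp [φ, φ0, LinearMap.sum_apply]
  have scal : ∀ g : Γ, ∃ μ : k, ∀ i, ρ g (vj i - vj o) = μ • (vj (π g i) - vj (π g o)) := by
    intro g
    have hex : ∀ i j, i ≠ j → ∃ c : k, ρ g (vj i - vj j) = c • (vj (π g i) - vj (π g j)) := by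
      intro i j hij
      have h1 : ρ g (vj i - vj j) ∈ L (π g i) (π g j) := by
        rw [← Lmap g i j hij]
        exact ⟨_, diff i j hij, rfl⟩
      have e1 : (k ∙ (vj (π g i) - vj (π g j))) = L (π g i) (π g j) := Submodule.eq_of_le_of_finrank_eq
        ((Submodule.span_singleton_le_iff_mem _ _).2 (diff _ _ (hd hij)))
        (by rw [finrank_span_singleton (dne _ _ (hd hij)), Ldim _ _ (hd hij)])
      rw [← e1] at h1
      obtain ⟨c, hc⟩ := Submodule.mem_span_singleton.1 h1
      exact ⟨c, hc.symm⟩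
    obtain ⟨μ, hμ⟩ := hex q o hoq.symm
    refine ⟨μ, fun i => ?_⟩
    rcases eq_or_ne i o with rfl | hio
    · simp
    rcases eq_or_ne i q with rfl | hiq
    · exact hμ
    obtain ⟨c, hc⟩ := hex i o hio
    obtain ⟨c', hc'⟩ := hex i q hiq
    set D := vj (π g i) - vj (π g q)
    set D' := vj (π g q) - vj (π g o)
    have hsum : (c' • D + μ • D' : V) = c • (D + D') := by
      rw [← hc', ← hμ, ← map_add, show D + D' = vj (π g i) - vj (π g o) by simp [D, D'], ← hc]
      congr 1
      abel
    have key : (c' - c) • D = (c - μ) • D' := by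
      have : (c' - c) • D - (c - μ) • D' = (c' • D + μ • D') - c • (D + D') := by module
      rw [hsum, sub_self, sub_eq_zero] at this
      exact this
    have hcμ : c = μ := by
      by_contra hne'
      have hmem : D' ∈ L (π g i) (π g q) := by
        have : D' = ((c - μ)⁻¹ * (c' - c)) • D := by
          rw [← smul_smul, key, smul_smul, inv_mul_cancel₀ (sub_ne_zero.2 hne'), one_smul]
        rw [this]
        exact Submodule.smul_mem _ _ (diff _ _ (hd hiq))
      have hne2 := dne _ _ (hd (g := g) hoq.symm)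
      have hab := hd (g := g) hiq
      have hbc := hd (g := g) (a := q) (b := o) hoq.symm
      apply Ldist (π g q) (π g i) (π g o) ⟨hab.symm, hbc, hd hio⟩
      rw [Lsym (π g q) (π g i) hab.symm]
      have e1 : (k ∙ D') = L (π g i) (π g q) := Submodule.eq_of_le_of_finrank_eq
        ((Submodule.span_singleton_le_iff_mem _ _).2 hmem)
        (by rw [finrank_span_singleton hne2, Ldim _ _ hab])
      exact e1.symm.trans (Submodule.eq_of_le_of_finrank_eq
        ((Submodule.span_singleton_le_iff_mem _ _).2 (diff _ _ hbc))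
        (by rw [finrank_span_singleton hne2, Ldim _ _ hbc]))
    rw [hc, hcμ]
  have perm_mem : ∀ (g : Γ) (x : S), (fun i => (x : Fin r → k) ((π g).symm i)) ∈ S := by
    intro g x
    rw [LinearMap.mem_ker]
    simp only [LinearMap.sum_apply, LinearMap.proj_apply]
    rw [Equiv.sum_comp (π g).symm (fun i => (x : Fin r → k) i), hS x]
  have equiv : ∀ g : Γ, ∃ μ : k, μ ≠ 0 ∧ ∀ x : S, ρ g (φ x) = μ • φ ⟨_, perm_mem g x⟩ := by
    intro g
    obtain ⟨μ, hμ⟩ := scal g
    refine ⟨μ, fun e => ?_, fun x => ?_⟩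
    · have := hμ q
      rw [e, zero_smul, ← map_zero (ρ g)] at this
      exact dne q o hoq.symm (hinj g this)
    · have e1 : φ x = ∑ i, (x : Fin r → k) i • (vj i - vj o) := by
        rw [hφ]
        simp only [smul_sub, Finset.sum_sub_distrib, ← Finset.sum_smul, hS x, zero_smul, sub_zero]
      have e2 : φ ⟨_, perm_mem g x⟩ = ∑ i, (x : Fin r → k) i • (vj (π g i) - vj (π g o)) := by
        rw [hφ, ← Equiv.sum_comp (π g)]
        simp only [Equiv.symm_apply_apply, smul_sub, Finset.sum_sub_distrib, ← Finset.sum_smul, hS x,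
          zero_smul, sub_zero]
      rw [e1, map_sum, e2, Finset.smul_sum]
      refine Finset.sum_congr rfl fun i _ => ?_
      rw [map_smul, hμ, smul_comm]
  let single : Fin r → Fin r → (Fin r → k) := fun a b => Pi.single a 1 - Pi.single b 1
  have single_mem : ∀ a b, single a b ∈ S := fun a b => by
    simp [S, single, LinearMap.sum_apply, Finset.sum_sub_distrib]
  have hφsingle : ∀ a b, φ ⟨single a b, single_mem a b⟩ = vj a - vj b := fun a b => by
    rw [hφ]
    simp [single, sub_smul, Finset.sum_sub_distrib, Pi.single_apply, ite_smul]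
  have hrange : LinearMap.range φ = ⊤ := by
    refine (hirr _ ?_).resolve_left fun e => ?_
    · rintro g _ ⟨x, rfl⟩
      obtain ⟨μ, -, hμ⟩ := equiv g
      exact ⟨μ • ⟨_, perm_mem g x⟩, by rw [map_smul, hμ]⟩
    · apply dne q o hoq.symm
      rw [← hφsingle q o]
      exact (Submodule.eq_bot_iff _).1 e _ ⟨_, rfl⟩
  have hker : ∀ x : S, φ x = 0 → ∀ i, (x : Fin r → k) i = (x : Fin r → k) o := by
    have inv : ∀ g, ∀ x : S, φ x = 0 → φ ⟨_, perm_mem g x⟩ = 0 := by
      intro g x hx
      obtain ⟨μ, hμ0, hμ⟩ := equiv g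
      have := hμ x
      rw [hx, map_zero] at this
      exact (smul_eq_zero.1 this.symm).resolve_left hμ0
    intro x hx i
    rcases eq_or_ne i o with rfl | hio
    · rfl
    obtain ⟨c, -, -, -, hc, -, -⟩ := exists_fresh hr {o, i} (Finset.card_le_two.trans (by norm_num))
    simp only [Finset.mem_insert, Finset.mem_singleton, not_or] at hc
    -- the three-cycle o → i → c
    let ι : Fin 3 ↪ Fin r := emb3 (a := o) (b := i) (c := c) ⟨Ne.symm hio, Ne.symm hc.1, Ne.symm hc.2⟩
    have hA : pv ι (finRotate 3) ∈ π.range := hπ ▸ pv_mem ι (by rw [mem_alternatingGroup]; decide)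
    obtain ⟨g, hg⟩ := hA
    let y : S := x - ⟨_, perm_mem g x⟩
    have hy : φ y = 0 := by simp [y, hx, inv g x hx]
    have hgo : π g o = i := by rw [hg]; exact pv_apply ι _ 0
    have hgi : π g i = c := by rw [hg]; exact pv_apply ι _ 1
    have hgc : π g c = o := by rw [hg]; exact pv_apply ι _ 2
    have hfix : ∀ j, j ≠ o → j ≠ i → j ≠ c → (π g).symm j = j := by
      intro j h1 h2 h3
      rw [Equiv.symm_apply_eq, hg, pv_notMem]
      rintro ⟨a, rfl⟩
      fin_cases a
      · exact h1 rfl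
      · exact h2 rfl
      · exact h3 rfl
    set X : Fin r → k := (x : Fin r → k) with hX
    have so : (π g).symm o = c := by rw [Equiv.symm_apply_eq, hgc]
    have si : (π g).symm i = o := by rw [Equiv.symm_apply_eq, hgo]
    have sc : (π g).symm c = i := by rw [Equiv.symm_apply_eq, hgi]
    have hyval : y = (X o - X c) • (⟨single o c, single_mem o c⟩ : S) +
        (X i - X o) • (⟨single i c, single_mem i c⟩ : S) := by
      refine Subtype.ext (funext fun j => ?_)
      show X j - X ((π g).symm j) = (X o - X c) * single o c j + (X i - X o) * single i c j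
      simp only [single, Pi.sub_apply, Pi.single_apply]
      by_cases h1 : j = o
      · subst h1; simp [so, Ne.symm hio, Ne.symm hc.1]
      by_cases h2 : j = i
      · subst h2; simp [si, hio, Ne.symm hc.2]
      by_cases h3 : j = c
      · subst h3; simp [sc, hc.1, hc.2]
      simp [hfix j h1 h2 h3, h1, h2, h3]
    rw [hyval, map_add, map_smul, map_smul, hφsingle, hφsingle] at hy
    by_contra hne'
    have hoc : o ≠ c := Ne.symm hc.1
    have hic : i ≠ c := Ne.symm hc.2
    have hmem : vj i - vj c ∈ L o c := by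
      have h' : (X i - X o) • (vj i - vj c) = -((X o - X c) • (vj o - vj c)) :=
        eq_neg_of_add_eq_zero_right hy
      have e : vj i - vj c = (-((X i - X o)⁻¹ * (X o - X c))) • (vj o - vj c) := by
        calc vj i - vj c = (X i - X o)⁻¹ • ((X i - X o) • (vj i - vj c)) := by
              rw [smul_smul, inv_mul_cancel₀ (sub_ne_zero.2 hne'), one_smul]
          _ = _ := by rw [h', smul_neg, smul_smul, neg_smul]
      rw [e]
      exact Submodule.smul_mem _ _ (diff o c hoc)
    have hne3 := dne i c hic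
    apply Ldist c o i ⟨hoc.symm, hic.symm, Ne.symm hio⟩
    rw [Lsym c o hoc.symm, Lsym c i hic.symm]
    have e1 : (k ∙ (vj i - vj c)) = L o c := Submodule.eq_of_le_of_finrank_eq
      ((Submodule.span_singleton_le_iff_mem _ _).2 hmem)
      (by rw [finrank_span_singleton hne3, Ldim o c hoc])
    exact e1.symm.trans (Submodule.eq_of_le_of_finrank_eq
      ((Submodule.span_singleton_le_iff_mem _ _).2 (diff i c hic))
      (by rw [finrank_span_singleton hne3, Ldim i c hic]))
  -- dimensions
  have hrn := LinearMap.finrank_range_add_finrank_ker φ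
  rw [hrange, finrank_top] at hrn
  have hSdim : finrank k S + 1 = r := by
    have h1 := LinearMap.finrank_range_add_finrank_ker (∑ i, LinearMap.proj i : (Fin r → k) →ₗ[k] k)
    have h2 : LinearMap.range (∑ i, LinearMap.proj i : (Fin r → k) →ₗ[k] k) = ⊤ :=
      LinearMap.range_eq_top.2 fun c => ⟨Pi.single o c, by simp [LinearMap.sum_apply]⟩
    rw [h2, finrank_top, Module.finrank_self, Module.finrank_pi, Fintype.card_fin] at h1
    show finrank k (LinearMap.ker _) + 1 = r
    omega
  by_cases hk : LinearMap.ker φ = ⊥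
  · rw [hk, finrank_bot] at hrn
    exact Or.inl (by omega)
  · obtain ⟨x, hx, hx0⟩ := Submodule.exists_mem_ne_zero_of_ne_bot hk
    have hxc := hker x (LinearMap.mem_ker.1 hx)
    have hle : finrank k (LinearMap.ker φ) ≤ 1 := by
      let f : LinearMap.ker φ →ₗ[k] k :=
        ((LinearMap.proj o).comp S.subtype).comp (LinearMap.ker φ).subtype
      have hf : Function.Injective f := by
        intro u v e
        refine Subtype.ext (Subtype.ext (funext fun i => ?_))
        rw [hker u (LinearMap.mem_ker.1 u.2) i, hker v (LinearMap.mem_ker.1 v.2) i]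
        exact e
      simpa using LinearMap.finrank_le_finrank_of_injective hf
    refine Or.inr ⟨by omega, ?_⟩
    have hne : (x : Fin r → k) o ≠ 0 := fun e => hx0 (Subtype.ext (funext fun i => by rw [hxc i, e]; rfl))
    have hsum := hS x
    rw [Finset.sum_congr rfl fun i _ => hxc i, Finset.sum_const, Finset.card_univ, Fintype.card_fin,
      nsmul_eq_mul] at hsum
    exact (mul_eq_zero.1 hsum).resolve_right hne

end main

end Cfsg.Agent.Lib.MinDeg66
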