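import Cfsg.Agent.Lib.MinDeg66.Facts
import Cfsg.Agent.Lib.MinDeg66.Structure

/-!
Sums of moved spaces over sets of points, and the passage to planes indexed by triples.
-/

set_option autoImplicit false

namespace Cfsg.Agent.Lib.MinDeg66

open Equiv Equiv.Perm Module

variable {k V Γ : Type*} [Field k] [AddCommGroup V] [Module k V] [Group Γ] {m r : ℕ}
  {ρ : Representation k Γ V} {π : Γ →* Perm (Fin r)}

/-- The span of the moved spaces of the canonical lifts of the cycles on points of `S`. -/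
noncomputable def AltRep.wsum (h : AltRep r ρ π) (hc : CycOK m r) (S : Finset (Fin r)) :
    Submodule k V :=
  ⨆ ι : {ι : Fin m ↪ Fin r // ∀ x, ι x ∈ S}, LinearMap.range (ρ (h.can hc ι.1) - 1)

namespace AltRep

variable (h : AltRep r ρ π) (hc : CycOK m r)

theorem range_le_wsum {S : Finset (Fin r)} {ι : Fin m ↪ Fin r} (hι : ∀ x, ι x ∈ S) :
    LinearMap.range (ρ (h.can hc ι) - 1) ≤ h.wsum hc S :=
  le_iSup_of_le (⟨ι, hι⟩ : {ι : Fin m ↪ Fin r // ∀ x, ι x ∈ S}) le_rfl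

theorem wsum_mono {S T : Finset (Fin r)} (hST : S ⊆ T) : h.wsum hc S ≤ h.wsum hc T :=
  iSup_le fun ι => h.range_le_wsum hc fun x => hST (ι.2 x)

theorem range_map_eq {ι κ : Fin m ↪ Fin r} {g : Γ} (hg : ∀ x, π g (ι x) = κ x) :
    (LinearMap.range (ρ (h.can hc ι) - 1)).map (ρ g) = LinearMap.range (ρ (h.can hc κ) - 1) := by
  have hc' := h.conj_can_map hc hg
  refine le_antisymm ?_ ?_
  · rintro _ ⟨_, ⟨v, rfl⟩, rfl⟩
    exact ⟨ρ g v, by rw [← hc']; simp [map_mul]⟩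
  · rintro _ ⟨v, rfl⟩
    refine ⟨(ρ (h.can hc ι) - 1) (ρ g⁻¹ v), ⟨_, rfl⟩, ?_⟩
    rw [← hc']
    simp [map_mul]

theorem wsum_map {S T : Finset (Fin r)} {g : Γ} (hg : ∀ x ∈ S, π g x ∈ T) :
    (h.wsum hc S).map (ρ g) ≤ h.wsum hc T := by
  rw [wsum, Submodule.map_iSup]
  refine iSup_le fun ι => ?_
  rw [h.range_map_eq hc (κ := ι.1.trans (π g).toEmbedding) (fun x => rfl)]
  exact h.range_le_wsum hc fun x => hg _ (ι.2 x)

theorem wsum_le_ker (hmix : h.NoMix hc) {S : Finset (Fin r)} {κ : Fin m ↪ Fin r} (hκ : ∀ x, κ x ∉ S) :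
    h.wsum hc S ≤ LinearMap.ker (ρ (h.can hc κ) - 1) := by
  refine iSup_le fun ι => ?_
  rintro _ ⟨v, rfl⟩
  rw [LinearMap.mem_ker, ← Module.End.mul_apply, hmix κ ι.1, LinearMap.zero_apply]
  rw [Set.disjoint_left]
  rintro _ ⟨x, rfl⟩ ⟨y, hy⟩
  exact hκ x (hy ▸ ι.2 y)

theorem wsum_inf_range (hm : (m : k) ≠ 0) (hmix : h.NoMix hc) {S : Finset (Fin r)}
    {κ : Fin m ↪ Fin r} (hκ : ∀ x, κ x ∉ S) :
    h.wsum hc S ⊓ LinearMap.range (ρ (h.can hc κ) - 1) = ⊥ := by
  rw [inf_comm]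
  exact disjoint_iff.1 ((disjoint_range_ker (h.can_pow hc κ) hm).mono_right (h.wsum_le_ker hc hmix hκ))

theorem rev_rot (n : ℕ) :
    (Fin.revPerm : Perm (Fin (n + 1))) * finRotate (n + 1) * (Fin.revPerm : Perm (Fin (n + 1)))⁻¹ =
      finRotate (n + 1) ^ n := by
  have h1 : finRotate (n + 1) ^ n = (finRotate (n + 1))⁻¹ := by
    refine eq_inv_of_mul_eq_one_left ?_
    rw [← pow_succ, rot_pow_self]
  rw [h1, mul_inv_eq_iff_eq_mul]
  refine Equiv.ext fun x => ?_
  rw [Perm.mul_apply, Perm.mul_apply, Perm.eq_inv_iff_eq]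
  simp only [Fin.revPerm_apply, finRotate_succ_apply]
  rw [Fin.rev_add, sub_add_cancel]

theorem wsum_lt [FiniteDimensional k V] (hmix : h.NoMix hc) {S : Finset (Fin r)} {z : Fin r} (hz : z ∉ S)
    (hS : m ≤ S.card) (hr : S.card + 1 + m ≤ r) : h.wsum hc S < h.wsum hc (insert z S) := by
  classical
  refine lt_of_le_of_ne (h.wsum_mono hc (Finset.subset_insert _ _)) fun heq => ?_
  obtain ⟨n, rfl⟩ : ∃ n, m = n + 1 := ⟨m - 1, by have := hc.two_lt; omega⟩
  obtain ⟨A, hAS, hA⟩ := Finset.exists_subset_card_eq (show n ≤ S.card by omega)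
  obtain ⟨o, ho⟩ := exists_emb_off (insert z S) (n := n)
    (by rw [Finset.card_insert_of_notMem hz]; omega)
  let a : Fin n ↪ Fin r := (A.orderEmbOfFin hA).toEmbedding
  have ha : ∀ x, a x ∈ S := fun x => hAS (A.orderEmbOfFin_mem hA x)
  have hp : Function.Injective (Fin.append a (Fin.cons z o)) := Fin.append_injective_iff.2
    ⟨a.injective, Fin.cons_injective_iff.2 ⟨by
      rintro ⟨x, hx⟩
      exact ho x (hx ▸ Finset.mem_insert_self z S), o.injective⟩, fun i j hij => by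
      rcases Fin.eq_zero_or_eq_succ j with rfl | ⟨j, rfl⟩
      · rw [Fin.cons_zero] at hij
        exact hz (hij ▸ ha i)
      · rw [Fin.cons_succ] at hij
        exact ho j (hij ▸ Finset.mem_insert_of_mem (ha i))⟩
  let Ψ : Fin (n + (n + 1)) ↪ Fin r := ⟨_, hp⟩
  let ι : Fin (n + 1) ↪ Fin r :=
    ⟨fun x => Ψ ⟨x.val, by omega⟩, fun x y e => Fin.ext (congrArg Fin.val (Ψ.injective e) :)⟩
  let κ : Fin (n + 1) ↪ Fin r :=
    ⟨fun x => Ψ (Fin.natAdd n x), fun x y e => Fin.natAdd_injective _ _ (Ψ.injective e)⟩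
  have hκ : ∀ x, κ x ∉ S := by
    intro x
    show Fin.append a (Fin.cons z o) (Fin.natAdd n x) ∉ S
    rw [Fin.append_right]
    rcases Fin.eq_zero_or_eq_succ x with rfl | ⟨j, rfl⟩
    · rwa [Fin.cons_zero]
    · rw [Fin.cons_succ]
      exact fun e => ho j (Finset.mem_insert_of_mem e)
  have hιmem : ∀ x, ι x ∈ insert z S := by
    intro x
    show Fin.append a (Fin.cons z o) ⟨x.val, _⟩ ∈ insert z S
    rcases Nat.lt_or_ge x.val n with hx | hx
    · rw [show (⟨x.val, by omega⟩ : Fin (n + (n + 1))) = Fin.castAdd (n + 1) ⟨x.val, hx⟩ from rfl,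
        Fin.append_left]
      exact Finset.mem_insert_of_mem (ha _)
    · rw [show (⟨x.val, by omega⟩ : Fin (n + (n + 1))) = Fin.natAdd n 0 from Fin.ext (by simp; omega),
        Fin.append_right, Fin.cons_zero]
      exact Finset.mem_insert_self _ _
  have h1 : (ρ (h.can hc κ) - 1) * (ρ (h.can hc ι) - 1) = 0 := LinearMap.ext fun v => by
    rw [Module.End.mul_apply, LinearMap.zero_apply]
    exact LinearMap.mem_ker.1 ((h.wsum_le_ker hc hmix hκ) (heq ▸ h.range_le_wsum hc hιmem ⟨v, rfl⟩))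
  obtain ⟨g, hgA, hg⟩ := exists_even_map (show n + (n + 1) + 2 ≤ r by omega) Ψ
    (Fin.revPerm.toEmbedding.trans Ψ)
  obtain ⟨G, hG⟩ := h.exists_lift hgA
  have conj : ∀ ι' κ' : Fin (n + 1) ↪ Fin r, (∀ x, g (ι' x) = κ' x.rev) →
      G * h.can hc ι' * G⁻¹ = (h.can hc κ')⁻¹ := by
    intro ι' κ' hx
    have hinv : (h.can hc κ')⁻¹ = h.can hc κ' ^ n :=
      inv_eq_of_mul_eq_one_right (by rw [← pow_succ', h.can_pow hc])
    rw [hinv]
    refine h.conj_can hc ?_
    rw [hG, conj_pv, show ι'.trans g.toEmbedding = (Fin.revPerm : Perm (Fin (n + 1))).toEmbedding.trans κ'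
      from Function.Embedding.ext fun x => hx x, pv_reindex, rev_rot, map_pow]
  have c1 : G * h.can hc ι * G⁻¹ = (h.can hc κ)⁻¹ := conj ι κ fun x => by
    show g (Ψ _) = Ψ _
    rw [hg]
    show Ψ _ = Ψ _
    congr 1
    ext
    simp [Fin.val_rev]
    omega
  have c2 : G * h.can hc κ * G⁻¹ = (h.can hc ι)⁻¹ := conj κ ι fun x => by
    show g (Ψ _) = Ψ _
    rw [hg]
    show Ψ _ = Ψ _
    congr 1
    ext
    simp [Fin.val_rev]
    omega
  set X := h.can hc ι
  set Y := h.can hc κ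
  have h2 : (ρ X⁻¹ - 1) * (ρ Y⁻¹ - 1) = 0 := by
    have e : ∀ a, ρ (G * a * G⁻¹) - 1 = ρ G * (ρ a - 1) * ρ G⁻¹ := fun a => by
      rw [mul_sub, sub_mul, mul_one, ← map_mul, ← map_mul, ← map_mul, mul_inv_cancel, map_one]
    rw [← c2, ← c1, e, e]
    calc ρ G * (ρ Y - 1) * ρ G⁻¹ * (ρ G * (ρ X - 1) * ρ G⁻¹)
        = ρ G * (ρ Y - 1) * (ρ G⁻¹ * ρ G) * (ρ X - 1) * ρ G⁻¹ := by noncomm_ring
      _ = ρ G * ((ρ Y - 1) * (ρ X - 1)) * ρ G⁻¹ := by
        rw [← map_mul, inv_mul_cancel, map_one]; noncomm_ring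
      _ = 0 := by rw [h1, mul_zero, zero_mul]
  have h3 : (1 - ρ X) * (1 - ρ Y) = 0 := by
    have : ρ X * ((ρ X⁻¹ - 1) * (ρ Y⁻¹ - 1)) * ρ Y = (1 - ρ X) * (1 - ρ Y) := by
      calc ρ X * ((ρ X⁻¹ - 1) * (ρ Y⁻¹ - 1)) * ρ Y
          = (ρ X * ρ X⁻¹ - ρ X) * (ρ Y⁻¹ * ρ Y - ρ Y) := by noncomm_ring
        _ = _ := by rw [← map_mul, ← map_mul, mul_inv_cancel, inv_mul_cancel, map_one]
    rw [← this, h2, mul_zero, zero_mul]
  have hcomm : X * Y = Y * X := h.inj (by
    rw [map_mul, map_mul]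
    have e1 : ρ X * ρ Y = ρ X + ρ Y - 1 := by
      rw [← sub_eq_zero, ← h3]; noncomm_ring
    have e2 : ρ Y * ρ X = ρ X + ρ Y - 1 := by
      rw [← sub_eq_zero, ← h1]; noncomm_ring
    rw [e1, e2])
  have hp' := congrArg π hcomm
  rw [map_mul, map_mul, h.map_can hc, h.map_can hc] at hp'
  have hv := Perm.ext_iff.1 hp' (Ψ (Fin.natAdd n 0))
  have eιlast : ι (Fin.last n) = Ψ (Fin.natAdd n 0) :=
    congrArg Ψ (Fin.ext (by simp))
  have eκ : κ 0 = Ψ (Fin.natAdd n 0) := rfl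
  rw [Perm.mul_apply, Perm.mul_apply] at hv
  nth_rewrite 1 [← eκ] at hv
  rw [pv_apply] at hv
  rw [← eιlast] at hv
  rw [pv_apply] at hv
  have hn1 : 1 ≤ n := by have := hc.two_lt; omega
  have r0 : finRotate (n + 1) (Fin.last n) = 0 := by rw [finRotate_succ_apply]; simp
  have r1 : (finRotate (n + 1) 0).val = 1 := by
    rw [finRotate_succ_apply, zero_add, Fin.val_one', Nat.mod_eq_of_lt (by omega)]
  rw [r0, pv_notMem ι, pv_notMem κ] at hv
  · have := congrArg Fin.val (Ψ.injective hv)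
    simp [Nat.mod_eq_of_lt (show 1 < n + 1 by omega)] at this <;> omega
  all_goals
    rintro ⟨x, hx⟩
    have := congrArg Fin.val (Ψ.injective hx)
    simp [Nat.mod_eq_of_lt (show 1 < n + 1 by omega)] at this <;> omega

theorem wsum_grow [FiniteDimensional k V] (hmix : h.NoMix hc) {S T : Finset (Fin r)} (hST : S ⊆ T)
    (hS : m ≤ S.card) (hT : T.card + m ≤ r) :
    finrank k (h.wsum hc S) + (T.card - S.card) ≤ finrank k (h.wsum hc T) := by
  classical
  induction hd : T.card - S.card generalizing S with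
  | zero => simpa using Submodule.finrank_mono (h.wsum_mono hc hST)
  | succ d ih =>
    obtain ⟨z, hz, hzS⟩ := Finset.exists_of_ssubset
      (lt_of_le_of_ne hST fun e => by rw [e] at hd; omega)
    have hsub : insert z S ⊆ T := Finset.insert_subset hz hST
    have := ih hsub (by rw [Finset.card_insert_of_notMem hzS]; omega)
      (by rw [Finset.card_insert_of_notMem hzS]; omega)
    have := Submodule.finrank_lt_finrank_of_lt (h.wsum_lt hc hmix hzS hS
      (by have := Finset.card_le_card hsub; rw [Finset.card_insert_of_notMem hzS] at this; omega))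
    omega

theorem wsum_total [FiniteDimensional k V] (hm : (m : k) ≠ 0) (hmix : h.NoMix hc)
    {S : Finset (Fin r)} (hS : m ≤ S.card) (hSr : S.card + m ≤ r)
    (hrk : ∀ ι, finrank k (LinearMap.range (ρ (h.can hc ι) - 1)) = m - 1) :
    finrank k (h.wsum hc S) + (r - 1 - S.card) ≤ finrank k V := by
  classical
  obtain ⟨T, hST, -, hT⟩ := Finset.exists_subsuperset_card_eq (Finset.subset_univ S)
    (show S.card ≤ r - m by omega) (show r - m ≤ (Finset.univ : Finset (Fin r)).card by simp)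
  obtain ⟨κ, hκ⟩ := exists_emb_off T (n := m) (by omega)
  have h1 := h.wsum_grow hc hmix hST hS (by omega)
  have h2 := Submodule.finrank_sup_add_finrank_inf_eq (h.wsum hc T) (LinearMap.range (ρ (h.can hc κ) - 1))
  rw [h.wsum_inf_range hc hm hmix hκ, finrank_bot, hrk κ] at h2
  have h3 := Submodule.finrank_le (h.wsum hc T ⊔ LinearMap.range (ρ (h.can hc κ) - 1))
  have := hc.two_lt
  omega

theorem three_reindex : ∀ c : Perm (Fin 3), c * finRotate 3 * c⁻¹ = finRotate 3 ^ 1 ∨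
    c * finRotate 3 * c⁻¹ = finRotate 3 ^ 2 := by decide

/-- The moved space of a three-cycle depends only on its set of points. -/
theorem range_three_eq (hc3 : CycOK 3 r) {ι κ : Fin 3 ↪ Fin r}
    (hr : ∀ x, ι x ∈ Set.range κ) :
    LinearMap.range (ρ (h.can hc3 ι) - 1) = LinearMap.range (ρ (h.can hc3 κ) - 1) := by
  choose f hf using hr
  have hfi : Function.Injective f := fun a b e => ι.injective (by rw [← hf a, ← hf b, e])
  let c : Perm (Fin 3) := Equiv.ofBijective f (Finite.injective_iff_bijective.1 hfi)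
  have hι : ι = c.toEmbedding.trans κ := Function.Embedding.ext fun x => (hf x).symm
  have main : ∀ u : ℕ, c * finRotate 3 * c⁻¹ = finRotate 3 ^ u → h.can hc3 ι = h.can hc3 κ ^ u := by
    intro u hu
    have := h.conj_can hc3 (g := 1) (ι := ι) (ι' := κ) (u := u) (by
      rw [hι, map_one, one_mul, inv_one, mul_one, pv_reindex, hu, map_pow])
    simpa using this
  rcases three_reindex c with h1 | h1
  · rw [main 1 h1, pow_one]
  · rw [main 2 h1]
    set T := ρ (h.can hc3 κ) with hT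
    have hT2 : ρ (h.can hc3 κ ^ 2) = T * T := by rw [pow_two, map_mul]
    have hT3 : T * T * (T * T) = T := by
      rw [hT, ← map_mul, ← map_mul, show h.can hc3 κ * h.can hc3 κ * (h.can hc3 κ * h.can hc3 κ) =
        h.can hc3 κ ^ 3 * h.can hc3 κ by simp [pow_succ, mul_assoc], h.can_pow hc3, one_mul]
    have step : ∀ A : Module.End k V, LinearMap.range (A * A - 1) ≤ LinearMap.range (A - 1) := by
      intro A
      rintro _ ⟨v, rfl⟩
      exact ⟨A v + v, by simp only [LinearMap.sub_apply, Module.End.mul_apply, Module.End.one_apply, map_add]; abel⟩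
    rw [hT2]
    refine le_antisymm (step T) ?_
    have := step (T * T)
    rwa [hT3] at this

/-- Moved spaces of rank two lying in three-dimensional spaces force the deleted permutation module. -/
theorem bound_of_planes [FiniteDimensional k V] (hc3 : CycOK 3 r) (hn : 4 ≤ finrank k V)
    (hrk : ∀ ι, finrank k (LinearMap.range (ρ (h.can hc3 ι) - 1)) = 2)
    (hquad : ∀ e : Fin 4 ↪ Fin r, ∃ E : Submodule k V, finrank k E ≤ 3 ∧
      ∀ κ : Fin 3 ↪ Fin r, (∀ x, κ x ∈ Set.range e) → LinearMap.range (ρ (h.can hc3 κ) - 1) ≤ E) :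
    r - 1 ≤ finrank k V ∨ (r - 2 ≤ finrank k V ∧ (r : k) = 0) := by
  classical
  let U : Fin r → Fin r → Fin r → Submodule k V := fun a b c =>
    if hd : Dist3 a b c then LinearMap.range (ρ (h.can hc3 (emb3 hd)) - 1) else ⊥
  have hU : ∀ {a b c} (hd : Dist3 a b c), U a b c = LinearMap.range (ρ (h.can hc3 (emb3 hd)) - 1) :=
    fun hd => dif_pos hd
  refine planes_bound (π := π) (U := U) ⟨?_, ?_, ?_, ?_, ?_⟩ h.deg h.range hn h.irred
  · intro a b c hd
    rw [hU hd]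
    exact hrk _
  · intro a b c hd
    have hd' : Dist3 b c a := ⟨hd.2.2, hd.1.symm, hd.2.1.symm⟩
    rw [hU hd, hU hd']
    refine h.range_three_eq hc3 fun x => ?_
    fin_cases x
    exacts [⟨2, rfl⟩, ⟨0, rfl⟩, ⟨1, rfl⟩]
  · intro a b c hd
    have hd' : Dist3 b a c := ⟨hd.1.symm, hd.2.2, hd.2.1⟩
    rw [hU hd, hU hd']
    refine h.range_three_eq hc3 fun x => ?_
    fin_cases x
    exacts [⟨1, rfl⟩, ⟨0, rfl⟩, ⟨2, rfl⟩]
  · intro g a b c hd v hv
    have hd' : Dist3 (π g a) (π g b) (π g c) :=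
      ⟨(π g).injective.ne hd.1, (π g).injective.ne hd.2.1, (π g).injective.ne hd.2.2⟩
    rw [hU hd] at hv
    rw [hU hd', ← h.range_map_eq hc3 (ι := emb3 hd) (κ := emb3 hd') (g := g)
      (fun x => by fin_cases x <;> rfl)]
    exact ⟨v, hv, rfl⟩
  · intro a b c d hd hda hdb hdc
    have h1 : Dist3 a b d := ⟨hd.1, hda.symm, hdb.symm⟩
    have h2 : Dist3 a c d := ⟨hd.2.1, hda.symm, hdc.symm⟩
    have h3 : Dist3 b c d := ⟨hd.2.2, hdb.symm, hdc.symm⟩
    obtain ⟨E, hE, hle⟩ := hquad (emb4 hd h1 hdc.symm)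
    refine ⟨E, hE, ?_, ?_, ?_, ?_⟩
    · rw [hU hd]; refine hle _ fun x => ?_; fin_cases x
      exacts [⟨0, rfl⟩, ⟨1, rfl⟩, ⟨2, rfl⟩]
    · rw [hU h1]; refine hle _ fun x => ?_; fin_cases x
      exacts [⟨0, rfl⟩, ⟨1, rfl⟩, ⟨3, rfl⟩]
    · rw [hU h2]; refine hle _ fun x => ?_; fin_cases x
      exacts [⟨0, rfl⟩, ⟨2, rfl⟩, ⟨3, rfl⟩]
    · rw [hU h3]; refine hle _ fun x => ?_; fin_cases x
      exacts [⟨1, rfl⟩, ⟨2, rfl⟩, ⟨3, rfl⟩]

end AltRep

end Cfsg.Agent.Lib.MinDeg66
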