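import Cfsg.Agent.Lib.MinDeg66.Cycles

/-!
Counting joint eigenspaces of disjoint canonical lifts.
-/

set_option autoImplicit false

namespace Cfsg.Agent.Lib.MinDeg66

open Equiv Equiv.Perm Module

variable {m r K : ℕ}

/-- The functions `Fin K → ZMod m` with support of size `j`. -/
def suppSet (m K j : ℕ) [NeZero m] : Finset (Fin K → ZMod m) :=
  Finset.univ.filter fun a => (Finset.univ.filter fun i => a i ≠ 0).card = j

theorem card_suppSet [NeZero m] (j : ℕ) : (suppSet m K j).card = K.choose j * (m - 1) ^ j := by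
  classical
  let A : Finset (Fin K) → Finset (Fin K → ZMod m) := fun T =>
    Fintype.piFinset fun i => if i ∈ T then Finset.univ.erase 0 else {0}
  have hA : ∀ T a, a ∈ A T ↔ (Finset.univ.filter fun i => a i ≠ 0) = T := by
    intro T a
    simp only [A, Fintype.mem_piFinset, Finset.ext_iff, Finset.mem_filter, Finset.mem_univ, true_and]
    refine forall_congr' fun i => ?_
    split_ifs with h <;> simp [h]
  have hU : suppSet m K j = (Finset.univ.powersetCard j).biUnion A := by
    ext a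
    simp only [suppSet, Finset.mem_filter, Finset.mem_univ, true_and, Finset.mem_biUnion, hA,
      Finset.mem_powersetCard, Finset.subset_univ]
    exact ⟨fun h => ⟨_, h, rfl⟩, fun ⟨T, hT, e⟩ => e ▸ hT⟩
  rw [hU, Finset.card_biUnion]
  · rw [Finset.sum_congr rfl (g := fun _ => (m - 1) ^ j), Finset.sum_const, Finset.card_powersetCard,
      Finset.card_univ, Fintype.card_fin, smul_eq_mul]
    intro T hT
    rw [Fintype.card_piFinset, Finset.prod_congr rfl
      (fun i _ => show ((if i ∈ T then Finset.univ.erase (0 : ZMod m) else {0}) : Finset _).card =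
        if i ∈ T then m - 1 else 1 by split_ifs <;> simp [ZMod.card]),
      Finset.prod_ite_mem, Finset.univ_inter, Finset.prod_const, (Finset.mem_powersetCard.1 hT).2]
  · intro S _ T _ hne
    exact Finset.disjoint_left.2 fun a h1 h2 => hne (((hA S a).1 h1).symm.trans ((hA T a).1 h2))

theorem le_choose_of_lt {j : ℕ} : ∀ {K : ℕ}, 1 ≤ j → j < K → K ≤ K.choose j := by
  intro K
  induction K with
  | zero => omega
  | succ K ih =>
    intro h1 h2
    rcases Nat.lt_succ_iff_lt_or_eq.1 h2 with h | h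
    · have := ih h1 h
      obtain ⟨i, rfl⟩ : ∃ i, j = i + 1 := ⟨j - 1, by omega⟩
      rw [Nat.choose_succ_succ']
      have : 0 < K.choose i := Nat.choose_pos (by omega)
      omega
    · subst h
      simp

theorem exists_extend_rows (hK : 2 ≤ K) (hKr : m * K ≤ r) {ι κ : Fin m ↪ Fin r}
    (hd : Disjoint (Set.range ι) (Set.range κ)) :
    ∃ Φ : Fin K × Fin m ↪ Fin r, row Φ ⟨0, by omega⟩ = ι ∧ row Φ ⟨1, by omega⟩ = κ := by
  classical
  let Ψ : Fin K × Fin m ↪ Fin r :=
    finProdFinEquiv.toEmbedding.trans (Fin.castLEEmb (by rw [mul_comm]; exact hKr))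
  have hinj : Function.Injective (fun s : Fin m ⊕ Fin m => Sum.elim ι κ s) :=
    Function.Injective.sumElim ι.injective κ.injective fun a b e =>
      Set.disjoint_left.1 hd ⟨a, rfl⟩ ⟨b, e.symm⟩
  have h01 : ∀ a b : Fin m, Ψ (⟨0, by omega⟩, a) ≠ Ψ (⟨1, by omega⟩, b) := fun a b e =>
    Nat.zero_ne_one (congrArg (fun p => (p.1 : Fin K).val) (Ψ.injective e))
  let src : Fin m ⊕ Fin m ↪ Fin r :=
    ⟨fun s => Sum.elim (fun x => Ψ (⟨0, by omega⟩, x)) (fun x => Ψ (⟨1, by omega⟩, x)) s,
      Function.Injective.sumElim (fun a b e => congrArg Prod.snd (Ψ.injective e))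
        (fun a b e => congrArg Prod.snd (Ψ.injective e)) h01⟩
  let g : Perm (Fin r) :=
    ((Equiv.ofInjective src src.injective).symm.trans (Equiv.ofInjective _ hinj)).extendSubtype
  have hg : ∀ s, g (src s) = Sum.elim ι κ s := fun s => by
    simp only [g]
    rw [Equiv.extendSubtype_apply_of_mem _ _ ⟨s, rfl⟩]
    simp
  refine ⟨Ψ.trans g.toEmbedding, ?_, ?_⟩
  · ext x
    exact congrArg Fin.val (hg (Sum.inl x))
  · ext x
    exact congrArg Fin.val (hg (Sum.inr x))

variable {k V Γ : Type*} [Field k] [AddCommGroup V] [Module k V] [Group Γ]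
  {ρ : Representation k Γ V} {π : Γ →* Perm (Fin r)}

/-- Disjoint canonical lifts do not move a common eigenvector. -/
def AltRep.NoMix (h : AltRep r ρ π) (hc : CycOK m r) : Prop :=
  ∀ ι κ : Fin m ↪ Fin r, Disjoint (Set.range ι) (Set.range κ) →
    (ρ (h.can hc ι) - 1) * (ρ (h.can hc κ) - 1) = 0

namespace AltRep

variable [FiniteDimensional k V] [NeZero m] (h : AltRep r ρ π) (hc : CycOK m r) {ζ : k}

omit [NeZero m] in
theorem finrank_ker_can (ι κ : Fin m ↪ Fin r) :
    finrank k (LinearMap.ker (ρ (h.can hc ι) - 1)) ≤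
      finrank k (LinearMap.ker (ρ (h.can hc κ) - 1)) := by
  obtain ⟨g, hgA, hg⟩ := exists_even_map hc.room ι κ
  obtain ⟨G, hG⟩ := h.exists_lift hgA
  have hc' := h.conj_can_map hc (g := G) (ι := ι) (ι' := κ) (fun x => by rw [hG, hg])
  let f : LinearMap.ker (ρ (h.can hc ι) - 1) →ₗ[k] LinearMap.ker (ρ (h.can hc κ) - 1) :=
    ((ρ G).comp (LinearMap.ker (ρ (h.can hc ι) - 1)).subtype).codRestrict _ fun v => by
      have hv : ρ (h.can hc ι) (v : V) = (v : V) := sub_eq_zero.1 (LinearMap.mem_ker.1 v.2)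
      rw [LinearMap.mem_ker, LinearMap.sub_apply, ← hc']
      simp [map_mul, hv]
  refine LinearMap.finrank_le_finrank_of_injective (f := f) fun u v e => Subtype.ext ?_
  have h1' : ρ G u = ρ G v := congrArg Subtype.val e
  have h2 := congrArg (ρ G⁻¹) h1'
  rwa [Representation.inv_self_apply, Representation.inv_self_apply] at h2

include h hc

omit [FiniteDimensional k V] in
theorem can_ne_one (ι : Fin m ↪ Fin r) : ρ (h.can hc ι) ≠ 1 := by
  intro e
  have h1 : h.can hc ι = 1 := h.inj (e.trans (map_one ρ).symm)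
  have h2 := h.map_can hc ι
  rw [h1, map_one, ← map_one (pv ι)] at h2
  have h3 := pv_injective ι h2
  obtain ⟨n, rfl⟩ : ∃ n, m = n + 1 := ⟨m - 1, by have := hc.two_lt; omega⟩
  exact rot_ne n (by have := hc.two_lt; omega) 0 (Perm.ext_iff.1 h3 0).symm

theorem mixed_weight (hζ : IsPrimitiveRoot ζ m) (hm : (m : k) ≠ 0) (hmix : ¬ h.NoMix hc)
    (hK : 2 ≤ K) (hKr : m * K ≤ r) (hmval : m = 3 ∨ m = 5 ∨ m = 7) :
    ∃ j, 2 ≤ j ∧ j ≤ K ∧ K.choose j * (m - 1) ^ j ≤ finrank k V ∧
      (j = K → ∀ ι, finrank k (LinearMap.ker (ρ (h.can hc ι) - 1)) + (m - 1) ^ K ≤ finrank k V) := by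
  classical
  simp only [NoMix, not_forall] at hmix
  obtain ⟨ι, κ, hd, hne⟩ := hmix
  obtain ⟨Φ, hι, hκ⟩ := exists_extend_rows hK hKr hd
  set i₀ : Fin K := ⟨0, by omega⟩
  set i₁ : Fin K := ⟨1, by omega⟩
  obtain ⟨a, v, hv, hfv⟩ := exists_wsp_of_proj (x := h.xs hc Φ) hζ hm hc.prime.one_lt
    (fun i => h.can_pow hc _) (h.can_rows_commute hc Φ) _ hne
  have h0 : a i₀ ≠ 0 := fun e => hfv (by
    have h1 := mem_wsp.1 hv i₀
    rw [e, ev_zero, one_smul] at h1
    simp only [xs, hι] at h1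
    have h2 : ρ (h.can hc κ) (ρ (h.can hc ι) v - v) = ρ (h.can hc κ) 0 := by rw [h1, sub_self]
    have hcomm : (ρ (h.can hc ι) - 1) * (ρ (h.can hc κ) - 1) =
        (ρ (h.can hc κ) - 1) * (ρ (h.can hc ι) - 1) := by
      have := congrArg ρ (h.can_commute hc hd).eq
      simp only [map_mul] at this
      noncomm_ring [this]
    rw [hcomm, Module.End.mul_apply, LinearMap.sub_apply (ρ (h.can hc ι)), Module.End.one_apply,
      h1, sub_self, map_zero])
  have h1 : a i₁ ≠ 0 := fun e => hfv (by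
    have h1 := mem_wsp.1 hv i₁
    rw [e, ev_zero, one_smul] at h1
    simp only [xs, hκ] at h1
    rw [Module.End.mul_apply, LinearMap.sub_apply (ρ (h.can hc κ)), Module.End.one_apply, h1,
      sub_self, map_zero])
  set j := (Finset.univ.filter fun i => a i ≠ 0).card with hj
  have hj2 : 2 ≤ j := by
    have : ({i₀, i₁} : Finset (Fin K)) ⊆ Finset.univ.filter fun i => a i ≠ 0 := by
      intro i hi
      simp only [Finset.mem_insert, Finset.mem_singleton] at hi
      rcases hi with rfl | rfl <;> simp [h0, h1]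
    refine le_trans (le_of_eq ?_) (Finset.card_le_card this)
    rw [Finset.card_pair]
    simp [i₀, i₁]
  have hjK : j ≤ K := (Finset.card_le_univ _).trans (by simp)
  have hpos : 1 ≤ finrank k (wsp ρ ζ (h.xs hc Φ) a) := by
    refine Submodule.one_le_finrank_iff.2 fun e => hfv ?_
    rw [(Submodule.eq_bot_iff _).1 e v hv, map_zero]
  have hall : ∀ b ∈ suppSet m K j, 1 ≤ finrank k (wsp ρ ζ (h.xs hc Φ) b) := fun b hb =>
    hpos.trans (h.wsp_sym hc hζ hmval Φ (Or.inl hK) ((Finset.mem_filter.1 hb).2).symm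
      fun e => h0 (by rw [e]; rfl))
  have hsum : (suppSet m K j).card ≤ ∑ b ∈ suppSet m K j, finrank k (wsp ρ ζ (h.xs hc Φ) b) :=
    (Finset.card_eq_sum_ones _).le.trans (Finset.sum_le_sum hall)
  refine ⟨j, hj2, hjK, ?_, fun hjeq ι' => ?_⟩
  · rw [← card_suppSet]
    exact hsum.trans (sum_wsp_le hζ hm _)
  · have hfull := fix_add_sum_wsp_le (ρ := ρ) (x := h.xs hc Φ) hζ hm i₀ (suppSet m K j) (fun b hb => by
      have hb' := (Finset.mem_filter.1 hb).2
      rw [hjeq] at hb'
      have := Finset.eq_univ_of_card (Finset.univ.filter fun i => b i ≠ 0) (by simpa using hb')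
      have hm0 : i₀ ∈ Finset.univ.filter fun i => b i ≠ 0 := by rw [this]; exact Finset.mem_univ _
      exact (Finset.mem_filter.1 hm0).2)
    have hker := h.finrank_ker_can hc ι' (row Φ i₀)
    have hcard : (suppSet m K j).card = (m - 1) ^ K := by
      rw [card_suppSet, hjeq, Nat.choose_self, one_mul]
    have e0 : finrank k (LinearMap.ker (ρ (h.xs hc Φ i₀) - 1)) =
        finrank k (LinearMap.ker (ρ (h.can hc (row Φ i₀)) - 1)) := rfl
    omega

omit h hc in
theorem wsp_const {a : Fin 1 → ZMod m} {x : Fin 1 → Γ} :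
    wsp ρ ζ x a = Module.End.eigenspace (ρ (x 0)) (ev ζ (a 0)) := by
  simp [wsp, iInf_unique]

theorem finrank_eig (hζ : IsPrimitiveRoot ζ m) (hmval : m = 3 ∨ m = 5 ∨ m = 7)
    (ι κ : Fin m ↪ Fin r) {c c' : ZMod m} (hne : c ≠ 0) (hne' : c' ≠ 0) :
    finrank k (Module.End.eigenspace (ρ (h.can hc ι)) (ev ζ c)) ≤
      finrank k (Module.End.eigenspace (ρ (h.can hc κ)) (ev ζ c')) := by
  classical
  let Φ : Fin 1 × Fin m ↪ Fin r :=
    ⟨fun p => ι p.2, fun p q e => Prod.ext (Subsingleton.elim _ _) (ι.injective e)⟩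
  have h1 := h.wsp_sym hc hζ hmval Φ (Or.inr (by simpa using hc.room))
    (a := fun _ => c) (a' := fun _ => c') (by simp [hne, hne']) (fun e => hne (congrFun e 0))
  rw [wsp_const, wsp_const] at h1
  obtain ⟨g, hgA, hg⟩ := exists_even_map hc.room ι κ
  obtain ⟨G, hG⟩ := h.exists_lift hgA
  have hconj := h.conj_can_map hc (g := G) (ι := ι) (ι' := κ) (fun x => by rw [hG, hg])
  let f : Module.End.eigenspace (ρ (h.can hc ι)) (ev ζ c') →ₗ[k]
      Module.End.eigenspace (ρ (h.can hc κ)) (ev ζ c') :=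
    ((ρ G).comp (Submodule.subtype _)).codRestrict _ fun v => by
      have hv := Module.End.mem_eigenspace_iff.1 v.2
      rw [Module.End.mem_eigenspace_iff, ← hconj]
      simp [map_mul, hv]
  refine le_trans h1 (LinearMap.finrank_le_finrank_of_injective (f := f) fun u v e => Subtype.ext ?_)
  have h1' : ρ G u = ρ G v := congrArg Subtype.val e
  have h2 := congrArg (ρ G⁻¹) h1'
  rwa [Representation.inv_self_apply, Representation.inv_self_apply] at h2

omit h hc in
theorem ker_eq_eig (g : Γ) :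
    LinearMap.ker (ρ g - 1) = Module.End.eigenspace (ρ g) (ev ζ (0 : ZMod m)) := by
  ext v
  rw [LinearMap.mem_ker, Module.End.mem_eigenspace_iff, ev_zero, one_smul, LinearMap.sub_apply,
    Module.End.one_apply, sub_eq_zero]

/-- The moved space of a canonical lift has dimension `(m - 1) * d`. -/
theorem finrank_range_can (hζ : IsPrimitiveRoot ζ m) (hm : (m : k) ≠ 0)
    (hmval : m = 3 ∨ m = 5 ∨ m = 7) (ι : Fin m ↪ Fin r) {c : ZMod m} (hne : c ≠ 0) :
    1 ≤ finrank k (Module.End.eigenspace (ρ (h.can hc ι)) (ev ζ c)) ∧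
      finrank k (LinearMap.range (ρ (h.can hc ι) - 1)) =
        (m - 1) * finrank k (Module.End.eigenspace (ρ (h.can hc ι)) (ev ζ c)) := by
  classical
  set T := ρ (h.can hc ι)
  set d := finrank k (Module.End.eigenspace T (ev ζ c))
  have hall : ∀ c' : ZMod m, c' ≠ 0 → finrank k (Module.End.eigenspace T (ev ζ c')) = d := fun c' hc' =>
    le_antisymm (h.finrank_eig hc hζ hmval ι ι hc' hne) (h.finrank_eig hc hζ hmval ι ι hne hc')
  let x : Fin 1 → Γ := fun _ => h.can hc ι
  have hO : ∀ b ∈ suppSet m 1 1, b 0 ≠ 0 := fun b hb e => by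
    have := (Finset.mem_filter.1 hb).2
    rw [Finset.filter_false_of_mem (fun i _ => by simp [Subsingleton.elim i 0, e])] at this
    simp at this
  have hs : ∑ b ∈ suppSet m 1 1, finrank k (wsp ρ ζ x b) = (m - 1) * d := by
    rw [Finset.sum_congr rfl (g := fun _ => d), Finset.sum_const, card_suppSet]
    · simp
    · intro b hb
      rw [wsp_const]
      exact hall _ (hO b hb)
  have hle := fix_add_sum_wsp_le (ρ := ρ) (x := x) hζ hm 0 (suppSet m 1 1) hO
  rw [hs] at hle
  have hge : finrank k V ≤ finrank k (LinearMap.ker (T - 1)) + (m - 1) * d := by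
    let f : (∀ e : ZMod m, Module.End.eigenspace T (ev ζ e)) →ₗ[k] V :=
      ∑ e, (Module.End.eigenspace T (ev ζ e)).subtype.comp (LinearMap.proj e)
    have hf : Function.Surjective f := fun v => by
      refine ⟨fun e => ⟨eproj ρ ζ (h.can hc ι) e v, Module.End.mem_eigenspace_iff.2
        (eigen_eproj hζ hc.prime.one_lt (h.can_pow hc ι) e v)⟩, ?_⟩
      simpa [f, LinearMap.sum_apply] using sum_eproj (ρ := ρ) hζ hm (h.can hc ι) v
    refine (LinearMap.finrank_le_finrank_of_surjective hf).trans (le_of_eq ?_)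
    rw [Module.finrank_pi_fintype, ← Finset.add_sum_erase _ _ (Finset.mem_univ (0 : ZMod m)),
      ker_eq_eig (ζ := ζ) (m := m), Finset.sum_congr rfl (g := fun _ => d)
        (fun e he => hall e (Finset.ne_of_mem_erase he)), Finset.sum_const,
      Finset.card_erase_of_mem (Finset.mem_univ _), Finset.card_univ, ZMod.card, smul_eq_mul]
  have hrn := LinearMap.finrank_range_add_finrank_ker (T - 1)
  have hdef : (m - 1) * d = finrank k (LinearMap.range (T - 1)) := by
    have : finrank k (LinearMap.ker (ρ (x 0) - 1)) = finrank k (LinearMap.ker (T - 1)) := rfl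
    omega
  refine ⟨Nat.one_le_iff_ne_zero.2 fun e => ?_, hdef.symm⟩
  rw [e, mul_zero] at hdef
  refine h.can_ne_one hc ι (sub_eq_zero.1 ?_)
  exact LinearMap.range_eq_bot.1 (Submodule.finrank_eq_zero.1 hdef.symm)

theorem noMix_bound (hζ : IsPrimitiveRoot ζ m) (hm : (m : k) ≠ 0) (hmval : m = 3 ∨ m = 5 ∨ m = 7)
    (hmix : h.NoMix hc) (hKr : m * K ≤ r) (ι : Fin m ↪ Fin r) :
    K * finrank k (LinearMap.range (ρ (h.can hc ι) - 1)) ≤ finrank k V := by
  classical
  haveI := Fact.mk hc.prime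
  let Φ : Fin K × Fin m ↪ Fin r :=
    finProdFinEquiv.toEmbedding.trans (Fin.castLEEmb (by rw [mul_comm]; exact hKr))
  have hc1 : (1 : ZMod m) ≠ 0 := one_ne_zero
  obtain ⟨-, hd⟩ := h.finrank_range_can hc hζ hm hmval ι hc1
  set d := finrank k (Module.End.eigenspace (ρ (h.can hc ι)) (ev ζ (1 : ZMod m)))
  have hall : ∀ b ∈ suppSet m K 1, d ≤ finrank k (wsp ρ ζ (h.xs hc Φ) b) := by
    intro b hb
    obtain ⟨i, hi⟩ := Finset.card_eq_one.1 (Finset.mem_filter.1 hb).2
    have hbi : b i ≠ 0 := (Finset.mem_filter.1 (hi.symm ▸ Finset.mem_singleton_self i :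
      i ∈ Finset.univ.filter fun i => b i ≠ 0)).2
    refine (h.finrank_eig hc hζ hmval ι (row Φ i) hc1 hbi).trans (Submodule.finrank_mono fun v hv => ?_)
    refine mem_wsp.2 fun j => ?_
    rcases eq_or_ne j i with rfl | hji
    · exact Module.End.mem_eigenspace_iff.1 hv
    · have hbj : b j = 0 := by
        by_contra e
        exact hji (Finset.mem_singleton.1 (hi ▸ Finset.mem_filter.2 ⟨Finset.mem_univ j, e⟩))
      rw [hbj, ev_zero, one_smul]
      have h0 := LinearMap.ext_iff.1 (hmix (row Φ j) (row Φ i) (row_disjoint Φ hji)) v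
      rw [Module.End.mul_apply, LinearMap.sub_apply (ρ (h.can hc (row Φ i))), Module.End.one_apply,
        Module.End.mem_eigenspace_iff.1 hv] at h0
      have hne1 : ev ζ (b i) - 1 ≠ 0 := sub_ne_zero.2 fun e =>
        hbi (ev_injective hζ (e.trans ev_zero.symm))
      rw [show ev ζ (b i) • v - v = (ev ζ (b i) - 1) • v by rw [sub_smul, one_smul], map_smul] at h0
      exact sub_eq_zero.1 ((smul_eq_zero.1 h0).resolve_left hne1)
  have := (Finset.card_nsmul_le_sum _ _ _ hall).trans (sum_wsp_le (ρ := ρ) hζ hm _)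
  rw [card_suppSet, Nat.choose_one_right, pow_one, smul_eq_mul, mul_assoc, ← hd] at this
  exact this

end AltRep

end Cfsg.Agent.Lib.MinDeg66
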