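import Mathlib

/-!
Minimal groups covering an alternating group.
-/

set_option autoImplicit false

namespace Cfsg.Agent.Lib.MinDeg66

open Equiv

variable {Γ : Type*} [Group Γ] {r : ℕ} {π : Γ →* Perm (Fin r)}

/-- `Γ` maps onto `A_r` and none of its proper subgroups does. -/
structure IsCover (r : ℕ) (π : Γ →* Perm (Fin r)) : Prop where
  deg : 9 ≤ r
  range : π.range = alternatingGroup (Fin r)
  min : ∀ H : Subgroup Γ, H.map π = alternatingGroup (Fin r) → H = ⊤

namespace IsCover

theorem normal_le (h : IsCover r π) {N : Subgroup Γ} [hN : N.Normal] (hne : N ≠ ⊤) : N ≤ π.ker := by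
  haveI : IsSimpleGroup (alternatingGroup (Fin r)) :=
    alternatingGroup.isSimpleGroup (by simp; have := h.deg; omega)
  have hle : N.map π ≤ alternatingGroup (Fin r) := by
    rw [← h.range]; exact Subgroup.map_le_range π N
  haveI : ((N.map π).subgroupOf (alternatingGroup (Fin r))).Normal := by
    refine ⟨fun x hx g => ?_⟩
    obtain ⟨a, ha, hax⟩ := Subgroup.mem_subgroupOf.1 hx
    obtain ⟨b, hb⟩ : g.1 ∈ π.range := by rw [h.range]; exact g.2
    exact Subgroup.mem_subgroupOf.2 ⟨b * a * b⁻¹, hN.conj_mem a ha b, by simp [hax, hb]⟩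
  rcases Subgroup.Normal.eq_bot_or_eq_top (H := (N.map π).subgroupOf (alternatingGroup (Fin r)))
    inferInstance with h' | h'
  · rw [Subgroup.subgroupOf_eq_bot, disjoint_iff] at h'
    rw [inf_eq_left.2 hle] at h'
    exact (Subgroup.map_eq_bot_iff N).1 h'
  · exact absurd (h.min N (le_antisymm hle (Subgroup.subgroupOf_eq_top.1 h'))) hne

theorem perfect (h : IsCover r π) : commutator Γ = ⊤ := by
  refine h.min _ ?_
  rw [commutator_def, Subgroup.map_commutator, ← MonoidHom.range_eq_map, h.range,
    ← Subgroup.map_subtype_commutator,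
    commutator_alternatingGroup_eq_top (α := Fin r) (by simp; have := h.deg; omega),
    ← MonoidHom.range_eq_map, Subgroup.range_subtype]

theorem hom_comm_trivial (h : IsCover r π) {A : Type*} [CommGroup A] (f : Γ →* A) (g : Γ) :
    f g = 1 :=
  Abelianization.commutator_subset_ker f (h.perfect ▸ Subgroup.mem_top g)

theorem quotient (h : IsCover r π) (N : Subgroup Γ) [N.Normal] (hN : N ≤ π.ker) :
    IsCover r (QuotientGroup.lift N π hN) := by
  refine ⟨h.deg, ?_, fun H hH => ?_⟩
  · refine le_antisymm ?_ ?_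
    · rintro _ ⟨x, rfl⟩
      obtain ⟨g, rfl⟩ := QuotientGroup.mk_surjective x
      exact h.range ▸ ⟨g, rfl⟩
    · intro σ hσ
      obtain ⟨g, rfl⟩ : σ ∈ π.range := h.range.symm ▸ hσ
      exact ⟨g, rfl⟩
  · refine Subgroup.comap_injective (QuotientGroup.mk'_surjective N) ?_
    rw [Subgroup.comap_top]
    refine h.min _ ?_
    rw [← hH]
    conv_rhs => rw [← Subgroup.map_comap_eq_self_of_surjective (QuotientGroup.mk'_surjective N) H,
      Subgroup.map_map]
    rfl

/-- The kernel is nilpotent in the form needed later: its Sylow subgroups are normal in `Γ`. -/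
theorem sylow_normal (h : IsCover r π) [Finite Γ] {s : ℕ} [Fact s.Prime] (P : Sylow s π.ker) :
    ((P : Subgroup π.ker).map π.ker.subtype).Normal := by
  have e := Sylow.normalizer_sup_eq_top P
  have e2 := congrArg (Subgroup.map π) e
  rw [Subgroup.map_sup, (Subgroup.map_eq_bot_iff π.ker).2 le_rfl, sup_bot_eq,
    ← MonoidHom.range_eq_map, h.range] at e2
  exact Subgroup.normalizer_eq_top_iff.1 (h.min _ e2)

end IsCover

theorem exists_cover {G : Type*} [Group G] [Finite G] {r : ℕ} (hr : 9 ≤ r) (f : G →* Perm (Fin r))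
    (hf : f.range = alternatingGroup (Fin r)) :
    ∃ S : Subgroup G, IsCover r (f.comp S.subtype) := by
  obtain ⟨S, hS, hmin⟩ := (wellFounded_lt (α := Subgroup G)).has_min
    {S | S.map f = alternatingGroup (Fin r)} ⟨⊤, by rw [Set.mem_setOf_eq, ← MonoidHom.range_eq_map, hf]⟩
  refine ⟨S, hr, ?_, fun H hH => ?_⟩
  · rw [MonoidHom.range_eq_map, ← Subgroup.map_map, ← MonoidHom.range_eq_map, Subgroup.range_subtype]
    exact hS
  · rw [← Subgroup.map_map] at hH
    have e : H.map S.subtype = S := by
      by_contra hne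
      exact hmin _ hH (lt_of_le_of_ne (Subgroup.map_subtype_le H) hne)
    refine Subgroup.map_injective S.subtype_injective ?_
    rw [e, ← MonoidHom.range_eq_map, Subgroup.range_subtype]

end Cfsg.Agent.Lib.MinDeg66
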