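import Cfsg.Agent.Lib.MinDeg66.Weights

/-!
Canonical lifts of disjoint cycles and the symmetry of their joint eigenspaces.
-/

set_option autoImplicit false

namespace Cfsg.Agent.Lib.MinDeg66

open Equiv Equiv.Perm Module

/-- The conditions on `m` and `r` under which `m`-cycles have canonical lifts. -/
structure CycOK (m r : ℕ) : Prop where
  prime : m.Prime
  two_lt : 2 < m
  room : m + 2 ≤ r
  sep : Separated m r

theorem CycOK.odd {m r : ℕ} (hc : CycOK m r) : Odd m :=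
  hc.prime.odd_of_ne_two (by have := hc.two_lt; omega)

variable {m r K : ℕ}

/-- Multiplication by a unit of `ZMod m` as a permutation of `Fin m`. -/
def mulPerm [NeZero m] : (ZMod m)ˣ →* Perm (Fin m) where
  toFun u := ((ZMod.finEquiv m).toEquiv.trans (Units.mulLeft u)).trans (ZMod.finEquiv m).toEquiv.symm
  map_one' := Equiv.ext fun x => by simp
  map_mul' u v := Equiv.ext fun x => by simp [mul_assoc]

theorem finEquiv_rot_pow [NeZero m] (j : ℕ) (x : Fin m) :
    ZMod.finEquiv m ((finRotate m ^ j) x) = ZMod.finEquiv m x + j := by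
  induction j with
  | zero => simp
  | succ j ih =>
    obtain ⟨n, rfl⟩ : ∃ n, m = n + 1 := ⟨m - 1, by have := NeZero.pos m; omega⟩
    rw [pow_succ', Perm.mul_apply, finRotate_succ_apply, map_add, map_one, ih]
    push_cast
    ring

theorem mulPerm_apply [NeZero m] (u : (ZMod m)ˣ) (x : Fin m) :
    ZMod.finEquiv m (mulPerm u x) = u * ZMod.finEquiv m x := by
  simp [mulPerm]

theorem mulPerm_conj_rot [NeZero m] (u : (ZMod m)ˣ) :
    mulPerm u * finRotate m * (mulPerm u)⁻¹ = finRotate m ^ (u : ZMod m).val := by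
  refine mul_inv_eq_iff_eq_mul.2 (Equiv.ext fun x => (ZMod.finEquiv m).injective ?_)
  have h1 : ZMod.finEquiv m (finRotate m x) = ZMod.finEquiv m x + 1 := by
    simpa using finEquiv_rot_pow 1 x
  rw [Perm.mul_apply, Perm.mul_apply, mulPerm_apply, h1, finEquiv_rot_pow, mulPerm_apply,
    ZMod.natCast_zmod_val]
  ring

theorem odd_unit_three : ∃ u : (ZMod 3)ˣ, sign (mulPerm u) = -1 := ⟨-1, by decide⟩

theorem odd_unit_five : ∃ u : (ZMod 5)ˣ, sign (mulPerm u) = -1 :=
  ⟨ZMod.unitOfCoprime 2 (by decide), by decide⟩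

theorem odd_unit_seven : ∃ u : (ZMod 7)ˣ, sign (mulPerm u) = -1 :=
  ⟨ZMod.unitOfCoprime 3 (by decide), by decide⟩

theorem exists_odd_unit (hm : m = 3 ∨ m = 5 ∨ m = 7) [NeZero m] :
    ∃ u : (ZMod m)ˣ, sign (mulPerm u) = -1 := by
  rcases hm with rfl | rfl | rfl
  exacts [odd_unit_three, odd_unit_five, odd_unit_seven]

/-- The embedding of the `j`-th row. -/
def row (Φ : Fin K × Fin m ↪ Fin r) (j : Fin K) : Fin m ↪ Fin r :=
  ⟨fun x => Φ (j, x), fun x y h => by simpa using Φ.injective h⟩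

theorem row_disjoint (Φ : Fin K × Fin m ↪ Fin r) {i j : Fin K} (h : i ≠ j) :
    Disjoint (Set.range (row Φ i)) (Set.range (row Φ j)) := by
  rw [Set.disjoint_left]
  rintro _ ⟨x, rfl⟩ ⟨y, hy⟩
  exact h (Prod.ext_iff.1 (Φ.injective hy)).1.symm

theorem exists_row_perm [NeZero m] (Φ : Fin K × Fin m ↪ Fin r) (τ : Perm (Fin K))
    (c : Fin K → (ZMod m)ˣ) (hm : Odd m)
    (heven : sign τ * ∏ j, sign (mulPerm (c j)) = 1 ∨ m * K + 2 ≤ r) :
    ∃ g ∈ alternatingGroup (Fin r), ∀ j,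
      g⁻¹ * pv (row Φ j) (finRotate m) * g = pv (row Φ (τ j)) (finRotate m) ^ (c j : ZMod m).val := by
  classical
  set P : Perm (Fin K × Fin m) :=
    prodCongrRight (fun j => (mulPerm (c j))⁻¹) * prodCongrLeft (fun _ => τ⁻¹) with hP
  have hPapp : ∀ j x, P (τ j, x) = (j, (mulPerm (c j))⁻¹ x) := fun j x => by
    simp [hP, prodCongrLeft_apply, prodCongrRight_apply]
  set G : Perm (Fin r) := P.viaEmbedding Φ with hG
  have hGΦ : ∀ p, G (Φ p) = Φ (P p) := fun p => Equiv.Perm.viaEmbedding_apply P Φ p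
  have hsG : sign G = sign P := by
    have h : G = P.extendDomain (Equiv.ofInjective Φ Φ.injective) := by
      ext y
      by_cases hy : y ∈ Set.range Φ
      · obtain ⟨x, rfl⟩ := hy
        rw [hGΦ]
        exact congrArg Fin.val
          (Equiv.Perm.extendDomain_apply_image P (Equiv.ofInjective Φ Φ.injective) x).symm
      · rw [hG, Equiv.Perm.viaEmbedding_apply_of_notMem _ _ _ hy,
          Equiv.Perm.extendDomain_apply_not_subtype _ _ hy]
    rw [h, Equiv.Perm.sign_extendDomain]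
  have hsP : sign P = sign τ * ∏ j, sign (mulPerm (c j)) := by
    rw [hP, map_mul, sign_prodCongrRight, sign_prodCongrLeft]
    simp only [map_inv, Int.units_inv_eq_self, Finset.prod_const, Finset.card_univ, Fintype.card_fin]
    rw [mul_comm]
    congr 1
    rcases Int.units_eq_one_or (sign τ) with e | e <;> rw [e]
    · simp
    · exact hm.neg_one_pow
  have key : ∀ g : Perm (Fin r), (∀ p, g (Φ p) = Φ (P p)) → ∀ j,
      g⁻¹ * pv (row Φ j) (finRotate m) * g =
        pv (row Φ (τ j)) (finRotate m) ^ (c j : ZMod m).val := by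
    intro g hg j
    conv_lhs => arg 2; rw [← inv_inv g]
    rw [conj_pv]
    have e : (row Φ j).trans (g⁻¹).toEmbedding = (mulPerm (c j)).toEmbedding.trans (row Φ (τ j)) := by
      ext x
      refine congrArg Fin.val (g.injective ?_)
      show g (g.symm (Φ (j, x))) = g (Φ (τ j, mulPerm (c j) x))
      rw [hg, hPapp, Equiv.apply_symm_apply]
      congr 2
      exact ((mulPerm (c j)).symm_apply_apply x).symm
    rw [e, pv_reindex, mulPerm_conj_rot, map_pow]
  rcases Int.units_eq_one_or (sign G) with h1 | h1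
  · exact ⟨G, h1, key G hGΦ⟩
  have hroom : m * K + 2 ≤ r := heven.resolve_left fun e => by
    rw [hsG, hsP, e] at h1
    exact absurd h1 (by decide)
  obtain ⟨o, ho⟩ := exists_emb_off (Finset.univ.map Φ) (n := 2)
    (by simp [Fintype.card_prod, mul_comm K m]; omega)
  refine ⟨swap (o 0) (o 1) * G, ?_, key _ fun p => ?_⟩
  · rw [mem_alternatingGroup, map_mul, sign_swap (o.injective.ne (by decide)), h1]
    norm_num
  · rw [Perm.mul_apply, hGΦ, swap_apply_of_ne_of_ne]
    · exact fun e => ho 0 (e ▸ Finset.mem_map_of_mem _ (Finset.mem_univ _))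
    · exact fun e => ho 1 (e ▸ Finset.mem_map_of_mem _ (Finset.mem_univ _))

variable {k V Γ : Type*} [Field k] [AddCommGroup V] [Module k V] [Group Γ]
  {ρ : Representation k Γ V} {π : Γ →* Perm (Fin r)}

/-- The canonical lift of the cycle along `ι`. -/
noncomputable def AltRep.can (h : AltRep r ρ π) (hc : CycOK m r) (ι : Fin m ↪ Fin r) : Γ :=
  (h.exists_can hc.odd hc.room ι).choose

namespace AltRep

variable (h : AltRep r ρ π) (hc : CycOK m r)

include h hc

theorem can_spec (ι : Fin m ↪ Fin r) : IsCan π m (pv ι (finRotate m)) (h.can hc ι) :=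
  (h.exists_can hc.odd hc.room ι).choose_spec

theorem map_can (ι : Fin m ↪ Fin r) : π (h.can hc ι) = pv ι (finRotate m) := (h.can_spec hc ι).1

theorem can_pow (ι : Fin m ↪ Fin r) : h.can hc ι ^ m = 1 := (h.can_spec hc ι).2.1

theorem conj_can {ι ι' : Fin m ↪ Fin r} {g : Γ} {u : ℕ}
    (hg : π g * pv ι (finRotate m) * (π g)⁻¹ = pv ι' (finRotate m) ^ u) :
    g * h.can hc ι * g⁻¹ = h.can hc ι' ^ u := by
  refine h.can_unique hc.prime.two_le hc.odd hc.sep (ι.trans (π g).toEmbedding) ?_ ?_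
  · have := (h.can_spec hc ι).conj g
    rwa [conj_pv] at this
  · have := (h.can_spec hc ι').pow u
    rwa [← hg, conj_pv] at this

theorem conj_can_map {ι ι' : Fin m ↪ Fin r} {g : Γ} (hg : ∀ x, π g (ι x) = ι' x) :
    g * h.can hc ι * g⁻¹ = h.can hc ι' := by
  have := h.conj_can hc (ι := ι) (ι' := ι') (g := g) (u := 1) (by
    rw [conj_pv, pow_one]
    congr 1
    congr 1
    ext x
    simp [hg])
  rwa [pow_one] at this

theorem can_commute_off {l : ℕ} (hl : 5 ≤ l ∨ m.Coprime l.factorial) (ι : Fin m ↪ Fin r)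
    (e : Fin l ↪ Fin r) (hd : Disjoint (Set.range ι) (Set.range e)) {τ : Perm (Fin l)}
    (hτ : τ ∈ alternatingGroup (Fin l)) {y : Γ} (hy : π y = pv e τ) :
    Commute (h.can hc ι) y := by
  refine h.commute_off hl ?_ e (fun τ' => ?_) hτ hy
  · rw [h.map_can hc, ← _root_.map_pow, rot_pow_self, _root_.map_one]
  · rw [h.map_can hc]
    exact pv_commute hd _ _

theorem can_commute {ι κ : Fin m ↪ Fin r} (hd : Disjoint (Set.range ι) (Set.range κ)) :
    Commute (h.can hc ι) (h.can hc κ) := by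
  refine h.commute_cent hc.prime.two_le hc.sep ι (h.map_can hc ι) ?_
  rw [h.map_can hc, h.map_can hc]
  exact (pv_commute hd _ _).symm

theorem can_rows_commute (Φ : Fin K × Fin m ↪ Fin r) (i j : Fin K) :
    Commute (h.can hc (row Φ i)) (h.can hc (row Φ j)) := by
  rcases eq_or_ne i j with rfl | hij
  · exact Commute.refl _
  · exact h.can_commute hc (row_disjoint Φ hij)

omit h hc in
/-- The rows' canonical lifts. -/
noncomputable def xs (h : AltRep r ρ π) (hc : CycOK m r) (Φ : Fin K × Fin m ↪ Fin r) : Fin K → Γ :=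
  fun j => h.can hc (row Φ j)

theorem wsp_sym [NeZero m] [FiniteDimensional k V] {ζ : k} (hζ : IsPrimitiveRoot ζ m)
    (hmval : m = 3 ∨ m = 5 ∨ m = 7) (Φ : Fin K × Fin m ↪ Fin r)
    (hK : 2 ≤ K ∨ m * K + 2 ≤ r) {a a' : Fin K → ZMod m}
    (hsupp : (Finset.univ.filter fun i => a i ≠ 0).card = (Finset.univ.filter fun i => a' i ≠ 0).card)
    (ha : a ≠ 0) :
    finrank k (wsp ρ ζ (h.xs hc Φ) a) ≤ finrank k (wsp ρ ζ (h.xs hc Φ) a') := by
  classical
  haveI := Fact.mk hc.prime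
  let e : {j // a' j ≠ 0} ≃ {j // a j ≠ 0} :=
    Fintype.equivOfCardEq (by rw [Fintype.card_subtype, Fintype.card_subtype, hsupp])
  have main : ∀ τ : Perm (Fin K), (∀ j, a' j ≠ 0 ↔ a (τ j) ≠ 0) → ∀ c : Fin K → (ZMod m)ˣ,
      (∀ j, a' j ≠ 0 → (c j : ZMod m) * a (τ j) = a' j) →
      (sign τ * ∏ j, sign (mulPerm (c j)) = 1 ∨ m * K + 2 ≤ r) →
      finrank k (wsp ρ ζ (h.xs hc Φ) a) ≤ finrank k (wsp ρ ζ (h.xs hc Φ) a') := by
    intro τ hτ c hcv heven
    obtain ⟨g, hgA, hg⟩ := exists_row_perm Φ τ c hc.odd heven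
    obtain ⟨G, hG⟩ := h.exists_lift hgA
    have hmove : ∀ j, G⁻¹ * h.xs hc Φ j * G = h.xs hc Φ (τ j) ^ (c j : ZMod m).val := fun j => by
      have := h.conj_can hc (g := G⁻¹) (ι := row Φ j) (ι' := row Φ (τ j))
        (u := (c j : ZMod m).val) (by rw [_root_.map_inv, hG, inv_inv, hg])
      rwa [inv_inv] at this
    have := finrank_wsp_move (ρ := ρ) hζ hmove a
    have he : (fun j => (c j : ZMod m) * a (τ j)) = a' := funext fun j => by
      by_cases hj : a' j = 0
      · rw [hj, not_ne_iff.1 (mt (hτ j).2 (not_not.2 hj)), mul_zero]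
      · exact hcv j hj
    rwa [he] at this
  let τ₀ : Perm (Fin K) := e.extendSubtype
  have hτ₀ : ∀ j, a' j ≠ 0 ↔ a (τ₀ j) ≠ 0 := fun j => by
    constructor
    · intro hj
      exact Equiv.extendSubtype_mem e j hj
    · intro hj hj0
      exact Equiv.extendSubtype_not_mem e j (by simpa using hj0) hj
  let cf : Perm (Fin K) → Fin K → (ZMod m)ˣ := fun τ j =>
    if hj : a' j ≠ 0 ∧ a (τ j) ≠ 0 then Units.mk0 (a' j) hj.1 * (Units.mk0 (a (τ j)) hj.2)⁻¹ else 1
  have hcf : ∀ τ : Perm (Fin K), (∀ j, a' j ≠ 0 ↔ a (τ j) ≠ 0) → ∀ j, a' j ≠ 0 →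
      (cf τ j : ZMod m) * a (τ j) = a' j := fun τ hτ j hj => by
    simp only [cf, dif_pos (⟨hj, (hτ j).1 hj⟩ : a' j ≠ 0 ∧ a (τ j) ≠ 0)]
    simp [mul_assoc, inv_mul_cancel₀ ((hτ j).1 hj)]
  rcases Int.units_eq_one_or (sign τ₀ * ∏ j, sign (mulPerm (cf τ₀ j))) with h1 | h1
  · exact main τ₀ hτ₀ _ (hcf τ₀ hτ₀) (Or.inl h1)
  by_cases hroom : m * K + 2 ≤ r
  · exact main τ₀ hτ₀ _ (hcf τ₀ hτ₀) (Or.inr hroom)
  by_cases hfree : ∃ j, a' j = 0
  · obtain ⟨j₀, hj₀⟩ := hfree
    obtain ⟨u, hu⟩ := exists_odd_unit hmval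
    refine main τ₀ hτ₀ (Function.update (cf τ₀) j₀ (cf τ₀ j₀ * u)) (fun j hj => ?_) (Or.inl ?_)
    · rw [Function.update_of_ne (fun e => hj (by rw [e]; exact hj₀))]
      exact hcf τ₀ hτ₀ j hj
    · rw [← Finset.mul_prod_erase _ _ (Finset.mem_univ j₀)] at h1 ⊢
      rw [Function.update_self, map_mul, map_mul, hu]
      rw [Finset.prod_congr rfl (fun j hj => by
        rw [Function.update_of_ne (Finset.ne_of_mem_erase hj)])]
      rw [mul_neg_one, neg_mul, mul_neg, h1, neg_neg]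
  · have hall' : ∀ j, a' j ≠ 0 := fun j e => hfree ⟨j, e⟩
    have hall : ∀ j, a j ≠ 0 := fun j => by
      obtain ⟨i, rfl⟩ := τ₀.surjective j
      exact (hτ₀ i).1 (hall' i)
    have hK2 : 2 ≤ K := hK.resolve_right hroom
    let ψ : (ZMod m)ˣ →* ℤˣ := sign.comp mulPerm
    have hprod : ∀ τ : Perm (Fin K), ∏ j, ψ (cf τ j) =
        ψ (∏ j, Units.mk0 (a' j) (hall' j)) * (ψ (∏ j, Units.mk0 (a j) (hall j)))⁻¹ := fun τ => by
      rw [← map_inv ψ, ← map_mul, ← map_prod, ← Equiv.prod_comp τ (fun j => Units.mk0 (a j) (hall j)),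
        ← Finset.prod_inv_distrib, ← Finset.prod_mul_distrib]
      refine congrArg ψ (Finset.prod_congr rfl fun j _ => ?_)
      simp only [cf, dif_pos (⟨hall' j, hall _⟩ : a' j ≠ 0 ∧ a (τ j) ≠ 0)]
    have hne : (⟨0, by omega⟩ : Fin K) ≠ ⟨1, by omega⟩ := by simp
    refine main (τ₀ * swap ⟨0, by omega⟩ ⟨1, by omega⟩) (fun j => by simp [hall' j, hall _]) _
      (hcf _ fun j => by simp [hall' j, hall _]) (Or.inl ?_)
    show sign (τ₀ * swap _ _) * ∏ j, ψ (cf _ j) = 1
    rw [hprod, map_mul, sign_swap hne, mul_neg_one, neg_mul, ← hprod τ₀]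
    show -(sign τ₀ * ∏ j, sign (mulPerm (cf τ₀ j))) = 1
    rw [h1, neg_neg]

end AltRep

end Cfsg.Agent.Lib.MinDeg66
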