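import Mathlib

/-!
Eigenvectors of characters.
-/

set_option autoImplicit false

namespace Cfsg.Agent.Lib.MinDeg66

open Module

variable {k V A : Type*} [Field k] [AddCommGroup V] [Module k V]

theorem eigvec_independent [Monoid A] (σ : Representation k A V) {ι : Type*} {χ : ι → A →* k}
    (hχ : Function.Injective χ) {v : ι → V} (hv0 : ∀ i, v i ≠ 0)
    (hv : ∀ i a, σ a (v i) = χ i a • v i) : LinearIndependent k v := by
  classical
  rw [linearIndependent_iff']
  intro s c hc i hi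
  by_contra hci
  obtain ⟨φ, hφ⟩ : ∃ φ : V →ₗ[k] k, φ (v i) ≠ 0 := by
    by_contra hcon
    push_neg at hcon
    exact hv0 i ((Module.forall_dual_apply_eq_zero_iff k (v i)).1 hcon)
  have hdep : ∑ j ∈ s, (c j * φ (v j)) • (χ j : A → k) = 0 := by
    funext a
    have h1 := congrArg (fun w => φ (σ a w)) hc
    simp only [map_sum, map_smul, hv, map_zero] at h1
    simp only [Finset.sum_apply, Pi.smul_apply, smul_eq_mul, Pi.zero_apply]
    rw [← h1]
    exact Finset.sum_congr rfl fun j _ => by simp [smul_eq_mul]; ring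
  have hli := (linearIndependent_monoidHom A k).comp χ hχ
  rw [linearIndependent_iff'] at hli
  exact mul_ne_zero hci hφ (hli s _ hdep i hi)

theorem exists_common_eigvec [IsAlgClosed k] [FiniteDimensional k V] [Nontrivial V] [CommMonoid A]
    (σ : Representation k A V) : ∃ v : V, v ≠ 0 ∧ ∀ a, ∃ c : k, σ a v = c • v := by
  obtain ⟨W, ⟨hW0, hWinv⟩, hmin⟩ := (wellFounded_lt (α := Submodule k V)).has_min
    {W | W ≠ ⊥ ∧ ∀ a, ∀ v ∈ W, σ a v ∈ W} ⟨⊤, top_ne_bot, fun _ _ _ => trivial⟩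
  obtain ⟨v, hv, hv0⟩ := Submodule.exists_mem_ne_zero_of_ne_bot hW0
  refine ⟨v, hv0, fun a => ?_⟩
  haveI : Nontrivial W := ⟨⟨⟨v, hv⟩, 0, fun e => hv0 (congrArg Subtype.val e)⟩⟩
  obtain ⟨c, hc⟩ := Module.End.exists_eigenvalue ((σ a).restrict (hWinv a))
  obtain ⟨w, hw⟩ := hc.exists_hasEigenvector
  refine ⟨c, ?_⟩
  by_contra hne
  refine hmin (W ⊓ Module.End.eigenspace (σ a) c) ⟨?_, ?_⟩ (lt_of_le_of_ne inf_le_left fun e => ?_)
  · refine (Submodule.ne_bot_iff _).2 ⟨w.1, ⟨w.2, Module.End.mem_eigenspace_iff.2 ?_⟩, fun e0 => hw.2 (Subtype.ext e0)⟩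
    exact congrArg Subtype.val hw.apply_eq_smul
  · rintro b x ⟨hx1, hx2⟩
    refine ⟨hWinv b x hx1, Module.End.mem_eigenspace_iff.2 ?_⟩
    rw [SetLike.mem_coe, Module.End.mem_eigenspace_iff] at hx2
    rw [← Module.End.mul_apply, ← map_mul, mul_comm, map_mul, Module.End.mul_apply, hx2, map_smul]
  · rw [← e] at hv
    exact hne (Module.End.mem_eigenspace_iff.1 hv.2)

end Cfsg.Agent.Lib.MinDeg66
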