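import Cfsg.Agent.Lib.MinDeg66.Blocks

/-!
Consequences of one-dimensional eigenspaces of a canonical lift, and anticommuting lifts of double
transpositions.
-/

set_option autoImplicit false

namespace Cfsg.Agent.Lib.MinDeg66

open Equiv Equiv.Perm Module
open scoped commutatorElement

variable {k V Γ : Type*} [Field k] [AddCommGroup V] [Module k V] [Group Γ] {m r : ℕ}
  {ρ : Representation k Γ V} {π : Γ →* Perm (Fin r)}

theorem dblA_comm : dblA = ⁅triA, dblB⁆ := by decide +kernel

theorem dblB_comm : dblB = ⁅triA, triA * dblB * triA⁻¹⁆ := by decide +kernel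

theorem triA_mem : triA ∈ alternatingGroup (Fin 4) := by rw [mem_alternatingGroup]; decide

/-- The moved space of a single vector under a scalar. -/
theorem scalar_one {z : Γ} {c : k} (hz : ρ z = c • 1) {v : V} (hv : v ≠ 0) (hfix : ρ z v = v) :
    ρ z = 1 := by
  rw [hz, LinearMap.smul_apply, Module.End.one_apply] at hfix
  have : c = 1 := by
    by_contra hc
    have h0 : (c - 1) • v = 0 := by rw [sub_smul, one_smul, hfix, sub_self]
    exact hv ((smul_eq_zero.1 h0).resolve_left (sub_ne_zero.2 hc))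
  rw [hz, this, one_smul]

namespace AltRep

variable (h : AltRep r ρ π)

include h

theorem commute_dbl {e : Fin 4 ↪ Fin r} {σ σ' : Perm (Fin 4)} (hσ : σ = ⁅triA, σ'⁆)
    (hσ' : σ' ∈ alternatingGroup (Fin 4)) {x y : Γ} (hx : π x = pv e σ)
    (hy : ∀ τ, Commute (π y) (pv e τ)) : Commute y x := by
  obtain ⟨u, hu⟩ := h.exists_lift (pv_mem e triA_mem)
  obtain ⟨w, hw⟩ := h.exists_lift (pv_mem e hσ')
  have h1 : Commute y ⁅u, w⁆ := h.commute_commutator (hu ▸ hy _) (hw ▸ hy _)
  have hz : π (x * ⁅u, w⁆⁻¹) = 1 := by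
    rw [map_mul, map_inv, map_commutatorElement, hu, hw, hx, hσ, map_commutatorElement, mul_inv_cancel]
  have : x = x * ⁅u, w⁆⁻¹ * ⁅u, w⁆ := by group
  rw [this]
  exact ((h.central hz y).symm).mul_right h1

theorem blockLin_map (hr : 6 ≤ r) (e f : Fin 4 ↪ Fin r) (hl : BlockLin π e) : BlockLin π f := by
  intro x y hx hy
  obtain ⟨g, hgA, hg⟩ := exists_even_map hr f e
  obtain ⟨G, hG⟩ := h.exists_lift hgA
  have hfe : f.trans (π G).toEmbedding = e := by
    ext i
    simp [hG, hg]
  have hc := hl (G * x * G⁻¹) (G * y * G⁻¹)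
    (by rw [map_mul, map_mul, map_inv, hx, conj_pv, hfe])
    (by rw [map_mul, map_mul, map_inv, hy, conj_pv, hfe])
  have := hc.map (MulAut.conj G⁻¹).toMonoidHom
  simpa [mul_assoc] using this

theorem exists_anticommute {e : Fin 4 ↪ Fin r} (hn : ¬ BlockLin π e) :
    ∃ x y, π x = pv e dblA ∧ π y = pv e dblB ∧ ρ x * ρ y = -(ρ y * ρ x) := by
  simp only [BlockLin, not_forall] at hn
  obtain ⟨x, y, hx, hy, hne⟩ := hn
  refine ⟨x, y, hx, hy, ?_⟩
  have hcp : Commute (π x) (π y) := by
    rw [hx, hy]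
    exact (show Commute dblA dblB from (by decide +kernel : dblA * dblB = dblB * dblA)).map (pv e)
  set z := x * y * x⁻¹ * y⁻¹ with hz
  have hz1 : π z = 1 := by rw [hz]; simp only [map_mul, map_inv]; rw [hcp.eq]; group
  obtain ⟨c, hc⟩ := h.ker z hz1
  have hzc := h.central hz1
  have hx2 : π (x ^ 2) = 1 := by
    rw [map_pow, hx, ← map_pow, show dblA ^ 2 = 1 by decide, map_one]
  have hz2 : z * z = 1 := by
    have e1 : x * y * x⁻¹ = z * y := by rw [hz]; group
    have e2 : x * (x * y * x⁻¹) * x⁻¹ = z * (z * y) := by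
      calc x * (x * y * x⁻¹) * x⁻¹ = x * z * x⁻¹ * (x * y * x⁻¹) := by
            rw [show x * z * x⁻¹ * (x * y * x⁻¹) = x * (z * y) * x⁻¹ by group, ← e1]
        _ = z * (z * y) := by rw [← (hzc x).eq, mul_inv_cancel_right, e1]
    have e3 : x * (x * y * x⁻¹) * x⁻¹ = y := by
      rw [show x * (x * y * x⁻¹) * x⁻¹ = (x * x) * y * (x * x)⁻¹ by group, ← pow_two,
        (h.central hx2 y).eq, mul_inv_cancel_right]
    rw [e3, ← mul_assoc] at e2
    exact mul_eq_right.1 e2.symm
  have hxy : ρ x * ρ y = c • (ρ y * ρ x) := by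
    rw [← map_mul, ← map_mul, show x * y = z * (y * x) by rw [hz]; group, map_mul, hc]
    simp
  by_cases hV : ∀ v : V, v = 0
  · exact LinearMap.ext fun v => by rw [hV v]; simp
  obtain ⟨v, hv⟩ := not_forall.1 hV
  have hcne : c ≠ 1 := fun e => hne (h.inj (by rw [map_mul, map_mul, hxy, e, one_smul]))
  have hc2 : c * c = 1 := by
    have h1 := congrArg ρ hz2
    rw [map_mul, map_one, hc] at h1
    have h2 := LinearMap.ext_iff.1 h1 v
    simp only [Module.End.mul_apply, LinearMap.smul_apply, Module.End.one_apply, smul_smul] at h2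
    by_contra hcc
    have h0 : (c * c - 1) • v = 0 := by rw [sub_smul, one_smul, h2, sub_self]
    exact hv ((smul_eq_zero.1 h0).resolve_left (sub_ne_zero.2 hcc))
  rw [hxy, (mul_self_eq_one_iff.1 hc2).resolve_left hcne, neg_smul, one_smul]

variable [FiniteDimensional k V] [NeZero m] (hc : CycOK m r) {ζ : k} (hζ : IsPrimitiveRoot ζ m)
  (hm : (m : k) ≠ 0) (hmval : m = 3 ∨ m = 5 ∨ m = 7)

include hc hζ hm hmval

/-- Commutators of elements centralising a lift with one-dimensional eigenspaces fix its moved space. -/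
theorem commutator_fix_moved {ι : Fin m ↪ Fin r}
    (hrk : finrank k (LinearMap.range (ρ (h.can hc ι) - 1)) = m - 1) {g g' : Γ}
    (hg : Commute g (h.can hc ι)) (hg' : Commute g' (h.can hc ι)) :
    LinearMap.range (ρ (h.can hc ι) - 1) ≤ LinearMap.ker (ρ ⁅g, g'⁆ - 1) := by
  classical
  set u := h.can hc ι with hu
  have key : ∀ c : ZMod m, c ≠ 0 → ∀ v, ρ u v = ev ζ c • v → ρ ⁅g, g'⁆ v = v := by
    intro c hc0 v hv
    rcases eq_or_ne v 0 with rfl | hv0
    · simp
    obtain ⟨-, hd⟩ := h.finrank_range_can hc hζ hm hmval ι hc0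
    rw [← hu, hrk] at hd
    have hd1 : finrank k (Module.End.eigenspace (ρ u) (ev ζ c)) = 1 := by
      have hpos : 0 < m - 1 := by have := hc.two_lt; omega
      exact (Nat.eq_of_mul_eq_mul_left hpos (by rw [mul_one]; exact hd.symm))
    have hspan : (k ∙ v) = Module.End.eigenspace (ρ u) (ev ζ c) := Submodule.eq_of_le_of_finrank_eq
      ((Submodule.span_singleton_le_iff_mem _ _).2 (Module.End.mem_eigenspace_iff.2 hv))
      (by rw [finrank_span_singleton hv0, hd1])
    have hsc : ∀ a, Commute a u → ∃ α : k, ρ a v = α • v := by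
      intro a ha
      have : ρ a v ∈ Module.End.eigenspace (ρ u) (ev ζ c) := by
        rw [Module.End.mem_eigenspace_iff, ← Module.End.mul_apply, ← map_mul, ← ha.eq, map_mul,
          Module.End.mul_apply, hv, map_smul]
      rw [← hspan] at this
      obtain ⟨α, hα⟩ := Submodule.mem_span_singleton.1 this
      exact ⟨α, hα.symm⟩
    obtain ⟨α, hα⟩ := hsc g hg
    obtain ⟨β, hβ⟩ := hsc g' hg'
    have h1 : ρ (g * g') v = ρ (g' * g) v := by
      rw [map_mul, map_mul, Module.End.mul_apply, Module.End.mul_apply, hβ, hα, map_smul, map_smul,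
        hβ, hα, smul_comm]
    have h2 : ρ (g' * g) v = (α * β) • v := by
      rw [map_mul, Module.End.mul_apply, hα, map_smul, hβ, smul_smul]
    have h3 : ρ ⁅g, g'⁆ (ρ (g' * g) v) = ρ (g' * g) v := by
      rw [← Module.End.mul_apply, ← map_mul, show ⁅g, g'⁆ * (g' * g) = g * g' by
        rw [commutatorElement_def]; group, h1]
    rw [h2, map_smul] at h3
    have hne : α * β ≠ 0 := by
      intro e
      rw [e, zero_smul] at h2
      have := congrArg (ρ (g' * g)⁻¹) h2
      rw [Representation.inv_self_apply, map_zero] at this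
      exact hv0 this
    exact smul_right_injective V hne h3
  rintro _ ⟨w, rfl⟩
  rw [LinearMap.mem_ker]
  conv_lhs => arg 2; arg 2; rw [← sum_eproj (ρ := ρ) hζ hm u w]
  rw [map_sum, map_sum]
  refine Finset.sum_eq_zero fun c _ => ?_
  have he := eigen_eproj (ρ := ρ) (g := u) hζ hc.prime.one_lt (h.can_pow hc ι) c w
  rw [LinearMap.sub_apply, LinearMap.sub_apply, Module.End.one_apply, Module.End.one_apply, map_sub, he,
    map_smul]
  rcases eq_or_ne c 0 with rfl | hc0
  · simp [ev_zero]
  · rw [key c hc0 _ he, sub_self]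

theorem blockLin_of_line {ι : Fin m ↪ Fin r} {e : Fin 4 ↪ Fin r}
    (hd : Disjoint (Set.range ι) (Set.range e))
    (hrk : finrank k (LinearMap.range (ρ (h.can hc ι) - 1)) = m - 1) : BlockLin π e := by
  intro x y hx hy
  have hcx : ∀ {x : Γ} {σ : Perm (Fin 4)}, π x = pv e σ → Commute x (h.can hc ι) := fun {x σ} hx =>
    (h.commute_cent hc.prime.two_le hc.sep ι (h.map_can hc ι) (by
      rw [hx, h.map_can hc]
      exact (pv_commute hd _ _).symm)).symm
  have hfix := h.commutator_fix_moved hc hζ hm hmval hrk (hcx hx) (hcx hy)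
  obtain ⟨c, hz⟩ := h.ker ⁅x, y⁆ (by
    rw [map_commutatorElement, hx, hy, ← map_commutatorElement,
      show ⁅dblA, dblB⁆ = 1 by decide +kernel, map_one])
  have hne : LinearMap.range (ρ (h.can hc ι) - 1) ≠ ⊥ := fun e => by
    rw [e, finrank_bot] at hrk
    have := hc.two_lt
    omega
  obtain ⟨v, hv, hv0⟩ := Submodule.exists_mem_ne_zero_of_ne_bot hne
  have := scalar_one hz hv0 (sub_eq_zero.1 (LinearMap.mem_ker.1 (hfix hv)))
  exact commutatorElement_eq_one_iff_commute.1 (h.inj (this.trans (map_one ρ).symm))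

theorem block_fix_moved {hc3 : CycOK 3 r} {ι : Fin m ↪ Fin r} {e : Fin 4 ↪ Fin r}
    (hd : Disjoint (Set.range ι) (Set.range e))
    (hrk : finrank k (LinearMap.range (ρ (h.can hc ι) - 1)) = m - 1) {B a0 a1 : Γ}
    (hb : Block h hc3 e B a0 a1) :
    LinearMap.range (ρ (h.can hc ι) - 1) ≤ LinearMap.ker (ρ a0 - 1) ⊓ LinearMap.ker (ρ a1 - 1) := by
  have hcx : ∀ {x : Γ} {σ : Perm (Fin 4)}, π x = pv e σ → Commute x (h.can hc ι) := fun {x σ} hx =>
    (h.commute_cent hc.prime.two_le hc.sep ι (h.map_can hc ι) (by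
      rw [hx, h.map_can hc]
      exact (pv_commute hd _ _).symm)).symm
  set t := h.can hc3 ((Fin.castLEEmb (by omega : 3 ≤ 4)).trans e) with ht
  have hπt : π t = pv e triA := h.map_three_of_four hc3 e
  have e1 : a1 = ⁅t, t * B * t⁻¹⁆ := by
    rw [hb.eq1, hb.eq0, commutatorElement_def, commutatorElement_def, ← ht]; group
  refine le_inf ?_ ?_
  · rw [hb.eq0]
    exact h.commutator_fix_moved hc hζ hm hmval hrk (hcx hπt) (hcx hb.mapB)
  · rw [e1]
    exact h.commutator_fix_moved hc hζ hm hmval hrk (hcx hπt)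
      (hcx (σ := triA * dblA * triA⁻¹) (by rw [map_mul, map_mul, map_inv, hπt, hb.mapB]; simp))

end AltRep

/-- A space with an operator squaring to a nonzero scalar and anticommuting with an injective
operator has even dimension. -/
theorem finrank_of_anticommute {W : Type*} [AddCommGroup W] [Module k W] [FiniteDimensional k W]
    (h2 : (2 : k) ≠ 0) {A B : Module.End k W} {μ : k} (hμ : μ ≠ 0) (hA : A * A = (μ * μ) • 1)
    (hB : Function.Injective B) (hAB : A * B = -(B * A)) :
    finrank k W = 2 * finrank k (Module.End.eigenspace A μ) := by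
  have hAB' : ∀ v, A (B v) = -B (A v) := fun v => by
    rw [← Module.End.mul_apply, hAB]
    rfl
  have hA' : ∀ v, A (A v) = (μ * μ) • v := fun v => by
    rw [← Module.End.mul_apply, hA]
    rfl
  have hle : ∀ {P Q : Submodule k W}, (∀ v ∈ P, B v ∈ Q) → finrank k P ≤ finrank k Q := fun {P Q} hPQ =>
    LinearMap.finrank_le_finrank_of_injective (f := (B.comp P.subtype).codRestrict Q fun v => hPQ v v.2)
      fun u v e => Subtype.ext (hB (congrArg Subtype.val e))
  have h12 := hle (P := Module.End.eigenspace A μ) (Q := Module.End.eigenspace A (-μ)) fun v hv => by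
    rw [Module.End.mem_eigenspace_iff] at hv ⊢
    rw [hAB', hv, map_smul, neg_smul]
  have h21 := hle (P := Module.End.eigenspace A (-μ)) (Q := Module.End.eigenspace A μ) fun v hv => by
    rw [Module.End.mem_eigenspace_iff] at hv ⊢
    rw [hAB', hv, map_smul, neg_smul, neg_neg]
  have hne : μ ≠ -μ := fun e => by
    have : (2 : k) * μ = 0 := by linear_combination e
    exact hμ ((mul_eq_zero.1 this).resolve_left h2)
  have hdis : Module.End.eigenspace A μ ⊓ Module.End.eigenspace A (-μ) = ⊥ :=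
    disjoint_iff.1 (A.eigenspaces_iSupIndep.pairwiseDisjoint hne)
  have htop : Module.End.eigenspace A μ ⊔ Module.End.eigenspace A (-μ) = ⊤ := by
    refine eq_top_iff.2 fun v _ => ?_
    have h2μ : (2 * μ) ≠ 0 := mul_ne_zero h2 hμ
    have e : v = (2 * μ)⁻¹ • (μ • v + A v) + (2 * μ)⁻¹ • (μ • v - A v) := by
      rw [← smul_add, show μ • v + A v + (μ • v - A v) = (2 * μ) • v by module, smul_smul,
        inv_mul_cancel₀ h2μ, one_smul]
    rw [e]
    refine Submodule.add_mem_sup (Submodule.smul_mem _ _ ?_) (Submodule.smul_mem _ _ ?_) <;>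
      rw [Module.End.mem_eigenspace_iff]
    · rw [map_add, map_smul, hA', smul_add, smul_smul, add_comm]
    · rw [map_sub, map_smul, hA', smul_sub, smul_smul, neg_mul, neg_smul, neg_smul, sub_neg_eq_add,
        sub_eq_add_neg, add_comm]
  have := Submodule.finrank_sup_add_finrank_inf_eq (Module.End.eigenspace A μ)
    (Module.End.eigenspace A (-μ))
  rw [htop, hdis, finrank_top, finrank_bot] at this
  omega

end Cfsg.Agent.Lib.MinDeg66
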