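import Cfsg.Agent.Lib.MinDeg66.Reduce

/-!
The induction on the order of a minimal cover.
-/

set_option autoImplicit false

namespace Cfsg.Agent.Lib.MinDeg66

open Equiv Module
open scoped commutatorElement

universe u

/-- Every nontrivial representation of a cover satisfies the bound. -/
def Goal (r : ℕ) (Γ : Type u) [Group Γ] : Prop :=
  ∀ π : Γ →* Perm (Fin r), IsCover r π → ∀ (k V : Type) [Field k] [IsAlgClosed k] (p : ℕ)
    [CharP k p], p.Prime → ∀ [AddCommGroup V] [Module k V] [FiniteDimensional k V]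
    (ρ : Representation k Γ V), (∃ g, ρ g ≠ 1) → Bnd k r (finrank k V)

variable {k V : Type} [Field k] [AddCommGroup V] [Module k V] {Γ : Type u} [Group Γ] [Finite Γ]
  {r : ℕ} {π : Γ →* Perm (Fin r)}

theorem bnd_of_prime [FiniteDimensional k V] [Nontrivial V] (hπ : IsCover r π)
    {ρ : Representation k Γ V} (hinj : Function.Injective ρ) {s : ℕ} [hsp : Fact s.Prime]
    (P : Subgroup Γ) [hP : P.Normal] (hPK : P ≤ π.ker) (hs : IsPGroup s P) (hns : ¬ P ≤ scalars ρ)
    (hab : ∀ A : Subgroup Γ, A.Normal → A ≤ P → (∀ x ∈ A, ∀ y ∈ A, x * y = y * x) → A ≤ scalars ρ)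
    (IH : ∀ (Γ' : Type u) [Group Γ'] [Finite Γ'], Nat.card Γ' < Nat.card Γ → Goal r Γ') :
    r - 1 ≤ finrank k V := by
  classical
  obtain ⟨hcomm, hpow⟩ := class_two hinj P hs hab
  have hc : ∀ z ∈ scalars ρ, ∀ g, Commute z g := fun z hz g => scalars_commute hinj hz g
  haveI hSn := scalars_normal hinj
  haveI : ((scalars ρ).subgroupOf P).Normal := hSn.subgroupOf P
  let Z : Subgroup P := (scalars ρ).subgroupOf P
  letI : CommGroup (P ⧸ Z) :=
    { mul_comm := fun a b => by
        obtain ⟨x, rfl⟩ := QuotientGroup.mk_surjective a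
        obtain ⟨y, rfl⟩ := QuotientGroup.mk_surjective b
        rw [← QuotientGroup.mk_mul, ← QuotientGroup.mk_mul, QuotientGroup.eq]
        show ((x * y)⁻¹ * (y * x)).1 ∈ scalars ρ
        have : ((x * y)⁻¹ * (y * x)).1 = ⁅(y.1)⁻¹, (x.1)⁻¹⁆ := by
          simp [commutatorElement_def]; group
        rw [this]
        exact hcomm _ (P.inv_mem y.2) _ (P.inv_mem x.2) }
  let M := Additive (P ⧸ Z)
  have hexp : ∀ x : M, s • x = 0 := by
    intro x
    obtain ⟨y, hy⟩ := QuotientGroup.mk_surjective (Additive.toMul x)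
    refine Additive.toMul.injective ?_
    rw [toMul_nsmul, toMul_zero, ← hy, ← QuotientGroup.mk_pow, QuotientGroup.eq_one_iff]
    exact hpow _ y.2
  letI : Module (ZMod s) M := AddCommGroup.zmodModule (n := s) hexp
  let cj : Γ → P →* P := fun g =>
    { toFun := fun a => ⟨g * a.1 * g⁻¹, hP.conj_mem _ a.2 g⟩
      map_one' := Subtype.ext (by simp)
      map_mul' := fun a b => Subtype.ext (by simp [mul_assoc]) }
  let act : Γ → (P ⧸ Z) →* (P ⧸ Z) := fun g => QuotientGroup.map Z Z (cj g) fun x hx => by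
    show g * x.1 * g⁻¹ ∈ scalars ρ
    exact hSn.conj_mem _ hx g
  let σ0 : Γ → Module.End (ZMod s) M := fun g => (MonoidHom.toAdditive (act g)).toZModLinearMap s
  have hσ1 : σ0 1 = 1 := by
    refine LinearMap.ext fun x => ?_
    obtain ⟨y, hy⟩ := QuotientGroup.mk_surjective (Additive.toMul x)
    have hx : x = Additive.ofMul (QuotientGroup.mk y) := (congrArg Additive.ofMul hy).symm
    subst hx
    show Additive.ofMul (QuotientGroup.mk (cj 1 y)) = _
    rw [show cj 1 y = y from Subtype.ext (by simp [cj])]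
    rfl
  have hσm : ∀ g h, σ0 (g * h) = σ0 g * σ0 h := by
    intro g h
    refine LinearMap.ext fun x => ?_
    obtain ⟨y, hy⟩ := QuotientGroup.mk_surjective (Additive.toMul x)
    have hx : x = Additive.ofMul (QuotientGroup.mk y) := (congrArg Additive.ofMul hy).symm
    subst hx
    show Additive.ofMul (QuotientGroup.mk (cj (g * h) y)) =
      Additive.ofMul (QuotientGroup.mk (cj g (cj h y)))
    rw [show cj (g * h) y = cj g (cj h y) from Subtype.ext (by simp [cj, mul_assoc])]
  let σ : Γ →* Module.End (ZMod s) M := { toFun := σ0, map_one' := hσ1, map_mul' := hσm }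
  have hσ : ∀ g, σ g = 1 → ∀ x ∈ P, ⁅g, x⁆ ∈ scalars ρ := fun g hg x hx => by
    have h1 : (QuotientGroup.mk (cj g ⟨x, hx⟩) : P ⧸ Z) = QuotientGroup.mk (⟨x, hx⟩ : P) :=
      LinearMap.ext_iff.1 hg (Additive.ofMul (QuotientGroup.mk (⟨x, hx⟩ : P)))
    rw [eq_comm, QuotientGroup.eq] at h1
    have h2 : x⁻¹ * (g * x * g⁻¹) ∈ scalars ρ := h1
    have := hSn.conj_mem _ h2 x
    rwa [show x * (x⁻¹ * (g * x * g⁻¹)) * x⁻¹ = ⁅g, x⁆ by rw [commutatorElement_def]; group] at this
  have hker : σ.ker ≠ ⊤ := by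
    intro htop
    refine hns fun x hx => ?_
    have hcen : ∀ g, ⁅g, x⁆ ∈ Subgroup.center Γ := fun g =>
      Subgroup.mem_center_iff.2 fun h =>
        ((hc _ (hσ g (MonoidHom.mem_ker.1 (htop ▸ Subgroup.mem_top g)) x hx)) h).eq.symm
    let f : Γ →* Subgroup.center Γ :=
      { toFun := fun g => ⟨⁅g, x⁆, hcen g⟩
        map_one' := Subtype.ext (commutatorElement_one_left x)
        map_mul' := fun g h => Subtype.ext (by
          show ⁅g * h, x⁆ = ⁅g, x⁆ * ⁅h, x⁆
          rw [show ⁅g * h, x⁆ = g * ⁅h, x⁆ * g⁻¹ * ⁅g, x⁆ by simp only [commutatorElement_def]; group,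
            Subgroup.mem_center_iff.1 (hcen h) g, mul_inv_cancel_right,
            Subgroup.mem_center_iff.1 (hcen g) ⁅h, x⁆]) }
    letI : CommGroup (Subgroup.center Γ) :=
      { mul_comm := fun a b => Subtype.ext (Subgroup.mem_center_iff.1 b.2 a.1) }
    have hx1 : ∀ g, g * x = x * g := by
      intro g
      have h1 := hπ.hom_comm_trivial (A := Subgroup.center Γ) f g
      exact commutatorElement_eq_one_iff_mul_comm.1 (congrArg Subtype.val h1)
    refine hab (Subgroup.zpowers x) ⟨?_⟩ (Subgroup.zpowers_le.2 hx) ?_ (Subgroup.mem_zpowers x)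
    · intro a ha g
      obtain ⟨i, rfl⟩ := Subgroup.mem_zpowers_iff.1 ha
      have : Commute g (x ^ i) := Commute.zpow_right (hx1 g) i
      rw [this.eq, mul_inv_cancel_right]
      exact ⟨i, rfl⟩
    · intro a ha b hb
      exact congrArg Subtype.val (mul_comm' (⟨a, ha⟩ : Subgroup.zpowers x) ⟨b, hb⟩)
  have hPker : P ≤ σ.ker := fun y hy => by
    refine MonoidHom.mem_ker.2 (LinearMap.ext fun x => ?_)
    obtain ⟨z, rfl⟩ := QuotientGroup.mk_surjective x
    refine congrArg Additive.ofMul ?_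
    show (QuotientGroup.mk (cj y z) : P ⧸ Z) = QuotientGroup.mk z
    rw [show cj y z = ⟨y, hy⟩ * z * (⟨y, hy⟩ : P)⁻¹ from rfl, QuotientGroup.mk_mul,
      QuotientGroup.mk_mul, QuotientGroup.mk_inv, mul_comm (QuotientGroup.mk (⟨y, hy⟩ : P)),
      mul_inv_cancel_right]
  have hlt : Nat.card (Γ ⧸ σ.ker) < Nat.card Γ := by
    rw [Subgroup.card_eq_card_quotient_mul_card_subgroup σ.ker]
    refine lt_mul_of_one_lt_right Nat.card_pos (σ.ker.one_lt_card_iff_ne_bot.2 fun e => hns ?_)
    exact (e ▸ hPker : P ≤ ⊥).trans bot_le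
  haveI : Fact s.Prime := hsp
  set D := finrank (ZMod s) M with hD
  haveI : Finite M := inferInstanceAs (Finite (P ⧸ Z))
  let b := Module.finBasis (ZMod s) M
  let Ω := AlgebraicClosure (ZMod s)
  let tm : Module.End (ZMod s) M →* Module.End Ω (Fin D → Ω) :=
    (Matrix.toLinAlgEquiv' (R := Ω) (n := Fin D)).toRingEquiv.toRingHom.toMonoidHom.comp
      ((algebraMap (ZMod s) Ω).mapMatrix.toMonoidHom.comp
        (LinearMap.toMatrixAlgEquiv b).toRingEquiv.toRingHom.toMonoidHom)
  have htm : Function.Injective tm :=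
    (Matrix.toLinAlgEquiv' (R := Ω) (n := Fin D)).injective.comp
      ((Matrix.map_injective (algebraMap (ZMod s) Ω).injective).comp
        (LinearMap.toMatrixAlgEquiv b).injective)
  have hbd := IH (Γ ⧸ σ.ker) hlt _ (hπ.quotient σ.ker (hπ.normal_le hker)) Ω (Fin D → Ω) s hsp.out
    (tm.comp (QuotientGroup.lift σ.ker σ le_rfl)) (by
      by_contra hcon
      push_neg at hcon
      refine hker ((Subgroup.eq_top_iff' _).2 fun g => MonoidHom.mem_ker.2 (htm ?_))
      rw [map_one]
      exact hcon (QuotientGroup.mk g))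
  rw [finrank_fin_fun] at hbd
  have hD2 : r - 2 ≤ D := by
    rcases hbd with h | ⟨h, -⟩ <;> omega
  -- the operators of the representatives are independent
  have hsc : ∀ g : scalars ρ, ∃ c : k, ρ g.1 = c • 1 := fun g => g.2
  choose sc hsc using hsc
  have scinj : Function.Injective fun c : k => c • (1 : Module.End k V) :=
    smul_left_injective k one_ne_zero
  let conjRep : Representation k P (Module.End k V) :=
    { toFun := fun y => (LinearMap.mulLeft k (ρ y.1)).comp (LinearMap.mulRight k (ρ (y.1)⁻¹))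
      map_one' := LinearMap.ext fun f => by simp
      map_mul' := fun a b => LinearMap.ext fun f => by simp [mul_assoc] }
  choose rep hrep using fun q : P ⧸ Z => QuotientGroup.mk_surjective q
  let χ : (P ⧸ Z) → P →* k := fun q =>
    { toFun := fun y => sc ⟨⁅y.1, (rep q).1⁆, hcomm _ y.2 _ (rep q).2⟩
      map_one' := scinj (by
        show sc _ • (1 : Module.End k V) = (1 : k) • 1
        rw [← hsc]; simp)
      map_mul' := fun y y' => scinj (by
        show sc _ • (1 : Module.End k V) = (sc _ * sc _) • 1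
        rw [← hsc, mul_smul, ← hsc ⟨⁅y'.1, _⁆, hcomm _ y'.2 _ (rep q).2⟩, ← smul_one_mul, ← hsc,
          ← map_mul]
        congr 1
        show ⁅y.1 * y'.1, (rep q).1⁆ = ⁅y.1, (rep q).1⁆ * ⁅y'.1, (rep q).1⁆
        rw [show ⁅y.1 * y'.1, (rep q).1⁆ = y.1 * ⁅y'.1, (rep q).1⁆ * (y.1)⁻¹ * ⁅y.1, (rep q).1⁆ by
            simp only [commutatorElement_def]; group,
          ← (hc _ (hcomm _ y'.2 _ (rep q).2) y.1).eq, mul_inv_cancel_right,
          (hc _ (hcomm _ y'.2 _ (rep q).2) _).eq]) }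
  have hχ : Function.Injective χ := by
    intro q q' he
    rw [← hrep q, ← hrep q', QuotientGroup.eq]
    set w := (rep q)⁻¹ * rep q' with hw
    have hwc : ∀ y ∈ P, y * w.1 = w.1 * y := by
      intro y hy
      have h1 := DFunLike.congr_fun he ⟨y, hy⟩
      have h2 : ⁅y, (rep q).1⁆ = ⁅y, (rep q').1⁆ := by
        refine hinj ?_
        rw [hsc ⟨_, hcomm _ hy _ (rep q).2⟩, hsc ⟨_, hcomm _ hy _ (rep q').2⟩]
        exact congrArg (· • 1) h1
      set a := (rep q).1
      set a' := (rep q').1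
      have e : y * a * y⁻¹ * a⁻¹ = y * a' * y⁻¹ * a'⁻¹ := h2
      have hcz := hc _ (hcomm _ hy _ (rep q).2)
      show y * (a⁻¹ * a') = a⁻¹ * a' * y
      have e3 : y * (a⁻¹ * a') * y⁻¹ = a⁻¹ * a' := by
        calc y * (a⁻¹ * a') * y⁻¹ = (y * a * y⁻¹)⁻¹ * (y * a' * y⁻¹ * a'⁻¹ * a') := by group
          _ = (y * a * y⁻¹)⁻¹ * (y * a * y⁻¹ * a⁻¹ * a') := by rw [e]
          _ = a⁻¹ * a' := by group
      exact mul_inv_eq_iff_eq_mul.1 e3
    have hA := hab (P ⊓ Subgroup.centralizer P) inferInstance inf_le_left fun x hx z hz =>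
      (Subgroup.mem_centralizer_iff.1 hz.2 x hx.1)
    exact hA ⟨w.2, Subgroup.mem_centralizer_iff.2 hwc⟩
  have hρinj : ∀ q, ρ (rep q).1 ≠ 0 := fun q e => by
    have h1 : ρ ((rep q).1⁻¹ * (rep q).1) = 0 := by rw [map_mul, e, mul_zero]
    rw [inv_mul_cancel, map_one] at h1
    exact one_ne_zero h1
  have hli := eigvec_independent conjRep hχ (v := fun q => ρ (rep q).1) hρinj fun q y => by
    show (LinearMap.mulLeft k (ρ y.1)) ((LinearMap.mulRight k (ρ (y.1)⁻¹)) (ρ (rep q).1)) =
      sc _ • ρ (rep q).1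
    rw [← smul_one_mul, ← hsc, LinearMap.mulLeft_apply, LinearMap.mulRight_apply, ← map_mul,
      ← map_mul, ← map_mul]
    congr 1
    show _ = ⁅y.1, (rep q).1⁆ * (rep q).1
    rw [commutatorElement_def]; group
  haveI := Fintype.ofFinite (P ⧸ Z)
  have h1 : Nat.card (P ⧸ Z) ≤ finrank k V * finrank k V := by
    rw [Nat.card_eq_fintype_card, ← Module.finrank_linearMap k k V V]
    exact hli.fintype_card_le_finrank
  have h2 : Nat.card (P ⧸ Z) = s ^ D := by
    rw [show Nat.card (P ⧸ Z) = Nat.card M from rfl,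
      Module.natCard_eq_pow_finrank (K := ZMod s), Nat.card_zmod]
  have h3 : 2 ^ (r - 2) ≤ s ^ D :=
    (Nat.pow_le_pow_right (by norm_num) hD2).trans (Nat.pow_le_pow_left hsp.out.two_le D)
  by_contra hn
  have h4 := pow_two_gt (r - 2) (by have := hπ.deg; omega)
  have h5 := Nat.mul_le_mul (show finrank k V ≤ r - 2 by omega) (show finrank k V ≤ r - 2 by omega)
  omega

theorem irreducible_bnd [IsAlgClosed k] [FiniteDimensional k V] [Nontrivial V] (p : ℕ) [CharP k p]
    (hp : p.Prime) (hπ : IsCover r π) {ρ : Representation k Γ V} (hinj : Function.Injective ρ)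
    (hirr : ∀ W : Submodule k V, (∀ g, ∀ v ∈ W, ρ g v ∈ W) → W = ⊥ ∨ W = ⊤)
    (IH : ∀ (Γ' : Type u) [Group Γ'] [Finite Γ'], Nat.card Γ' < Nat.card Γ → Goal r Γ') :
    Bnd k r (finrank k V) := by
  by_cases hK : π.ker ≤ scalars ρ
  · exact AltRep.bound (π := π) ⟨hπ.deg, hπ.range, hinj, fun g hg => hK hg, hirr⟩ p hp
  refine Or.inl ?_
  by_cases hA : ∃ A : Subgroup Γ, A.Normal ∧ A ≤ π.ker ∧ (∀ x ∈ A, ∀ y ∈ A, x * y = y * x) ∧
      ¬ A ≤ scalars ρ
  · obtain ⟨A, hn, -, hab, hns⟩ := hA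
    exact bnd_of_abelian hπ hirr A hab hns
  obtain ⟨s, hs, P, hP⟩ := sylow_not_scalar hK
  haveI := Fact.mk hs
  haveI := hπ.sylow_normal P
  refine bnd_of_prime hπ hinj (s := s) _ (Subgroup.map_subtype_le _) (P.isPGroup'.map _) hP
    (fun A hn hAP hab => ?_) IH
  by_contra hns
  exact hA ⟨A, hn, hAP.trans (Subgroup.map_subtype_le _), hab, hns⟩

/-- The bound for all representations of covers. -/
theorem goal (r : ℕ) (Γ : Type u) [Group Γ] [Finite Γ] : Goal r Γ := by
  induction hN : Nat.card Γ using Nat.strong_induction_on generalizing Γ with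
  | _ N IH =>
  subst hN
  intro π hπ k V _ _ p _ hp _ _ _ ρ hρ
  induction hn : finrank k V using Nat.strong_induction_on generalizing V with
  | _ n ihn =>
  subst hn
  by_cases hinj : Function.Injective ρ
  · by_cases hirr : ∀ W : Submodule k V, (∀ g, ∀ v ∈ W, ρ g v ∈ W) → W = ⊥ ∨ W = ⊤
    · haveI : Nontrivial V := by
        obtain ⟨g, hg⟩ := hρ
        by_contra hnt
        rw [not_nontrivial_iff_subsingleton] at hnt
        exact hg (Subsingleton.elim _ _)
      exact irreducible_bnd p hp hπ hinj hirr fun Γ' _ _ hlt => IH _ hlt Γ' rfl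
    · push_neg at hirr
      obtain ⟨W, hW, hW0, hW1⟩ := hirr
      let ρW : Representation k Γ W :=
        { toFun := fun g => (ρ g).restrict (hW g)
          map_one' := LinearMap.ext fun v => Subtype.ext (by simp [LinearMap.restrict_apply])
          map_mul' := fun a b => LinearMap.ext fun v => Subtype.ext (by simp [LinearMap.restrict_apply]) }
      let ρQ : Representation k Γ (V ⧸ W) :=
        { toFun := fun g => W.mapQ W (ρ g) (hW g)
          map_one' := Submodule.linearMap_qext _ (LinearMap.ext fun v => by simp)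
          map_mul' := fun a b => Submodule.linearMap_qext _ (LinearMap.ext fun v => by simp) }
      by_cases hWt : ∃ g, ρW g ≠ 1
      · exact (ihn _ (Submodule.finrank_lt hW1) _ ρW hWt rfl).mono (Submodule.finrank_le W)
      by_cases hQt : ∃ g, ρQ g ≠ 1
      · refine (ihn _ ?_ _ ρQ hQt rfl).mono (Submodule.finrank_quotient_le W)
        have := W.finrank_quotient_add_finrank
        have := Submodule.one_le_finrank_iff.2 hW0
        omega
      push_neg at hWt hQt
      have hfix : ∀ g, ∀ v ∈ W, ρ g v = v := fun g v hv =>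
        congrArg Subtype.val (LinearMap.ext_iff.1 (hWt g) ⟨v, hv⟩)
      have hmov : ∀ g v, ρ g v - v ∈ W := fun g v => by
        have := LinearMap.ext_iff.1 (hQt g) (Submodule.Quotient.mk v)
        exact (Submodule.Quotient.eq W).1 this
      have hab : ∀ a b : Γ, a * b = b * a := fun a b => hinj (LinearMap.ext fun v => by
        rw [map_mul, map_mul, Module.End.mul_apply, Module.End.mul_apply]
        have e1 := hfix a _ (hmov b v)
        have e2 := hfix b _ (hmov a v)
        rw [map_sub] at e1 e2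
        rw [sub_eq_iff_eq_add] at e1 e2
        rw [e1, e2]; abel)
      letI : CommGroup Γ := { mul_comm := hab }
      obtain ⟨g, hg⟩ := hρ
      have : g = 1 := hπ.hom_comm_trivial (MonoidHom.id Γ) g
      exact absurd (by rw [this, map_one]) hg
  · have hne : ρ.ker ≠ ⊤ := fun e => by
      obtain ⟨g, hg⟩ := hρ
      exact hg (MonoidHom.mem_ker.1 (e ▸ Subgroup.mem_top g))
    have hlt : Nat.card (Γ ⧸ ρ.ker) < Nat.card Γ := by
      rw [Subgroup.card_eq_card_quotient_mul_card_subgroup ρ.ker]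
      exact lt_mul_of_one_lt_right Nat.card_pos (ρ.ker.one_lt_card_iff_ne_bot.2 fun e =>
        hinj ((MonoidHom.ker_eq_bot_iff ρ).1 e))
    refine IH _ hlt (Γ ⧸ ρ.ker) rfl _ (hπ.quotient ρ.ker (hπ.normal_le hne)) k V p hp
      (QuotientGroup.lift ρ.ker ρ le_rfl) ?_
    obtain ⟨g, hg⟩ := hρ
    exact ⟨QuotientGroup.mk g, hg⟩

end Cfsg.Agent.Lib.MinDeg66
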