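import Cfsg.Agent.Lib.MinDeg66.Perm

/-!
Projective representations of alternating groups: commuting lifts and canonical lifts of cycles.
-/

set_option autoImplicit false

namespace Cfsg.Agent.Lib.MinDeg66

open Equiv Equiv.Perm
open scoped commutatorElement

variable {k V Γ : Type*} [Field k] [AddCommGroup V] [Module k V] [Group Γ] {r m : ℕ}

/-- A finite group covering `A_r` with scalar kernel, faithful and irreducible on `V`. -/
structure AltRep (r : ℕ) (ρ : Representation k Γ V) (π : Γ →* Perm (Fin r)) : Prop where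
  deg : 9 ≤ r
  range : π.range = alternatingGroup (Fin r)
  inj : Function.Injective ρ
  ker : ∀ g, π g = 1 → ∃ c : k, ρ g = c • 1
  irred : ∀ W : Submodule k V, (∀ g, ∀ v ∈ W, ρ g v ∈ W) → W = ⊥ ∨ W = ⊤

/-- The condition under which lifts of an `m`-cycle and of the permutations of the other points commute. -/
def Separated (m r : ℕ) : Prop := m + 5 ≤ r ∨ m.Coprime (r - m).factorial

/-- A lift of `σ` of order dividing `m` that is inverted by conjugation. -/
def IsCan (π : Γ →* Perm (Fin r)) (m : ℕ) (σ : Perm (Fin r)) (x : Γ) : Prop :=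
  π x = σ ∧ x ^ m = 1 ∧ ∃ g, g * x * g⁻¹ = x⁻¹

theorem IsCan.conj {π : Γ →* Perm (Fin r)} {σ : Perm (Fin r)} {x : Γ} (h : IsCan π m σ x) (g : Γ) :
    IsCan π m (π g * σ * (π g)⁻¹) (g * x * g⁻¹) := by
  obtain ⟨h1, h2, w, hw⟩ := h
  refine ⟨by simp [h1], by rw [conj_pow, h2]; group, g * w * g⁻¹, ?_⟩
  calc g * w * g⁻¹ * (g * x * g⁻¹) * (g * w * g⁻¹)⁻¹ = g * (w * x * w⁻¹) * g⁻¹ := by group
    _ = (g * x * g⁻¹)⁻¹ := by rw [hw]; group

theorem IsCan.pow {π : Γ →* Perm (Fin r)} {σ : Perm (Fin r)} {x : Γ} (h : IsCan π m σ x) (a : ℕ) :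
    IsCan π m (σ ^ a) (x ^ a) := by
  obtain ⟨h1, h2, w, hw⟩ := h
  exact ⟨by simp [h1], by rw [← pow_mul, mul_comm, pow_mul, h2, one_pow],
    w, by rw [← conj_pow, hw, inv_pow]⟩

theorem IsCan.map_pow {π : Γ →* Perm (Fin r)} {σ : Perm (Fin r)} {x : Γ} (h : IsCan π m σ x) :
    σ ^ m = 1 := by
  rw [← h.1, ← _root_.map_pow, h.2.1, _root_.map_one]

theorem rot_pow_self (n : ℕ) : finRotate n ^ n = 1 := by
  match n with
  | 0 => simp
  | 1 => exact Subsingleton.elim _ _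
  | n + 2 =>
    have h := (isCycle_finRotate_of_le (n := n + 2) (by omega)).orderOf
    rw [support_finRotate_of_le (by omega), Finset.card_fin] at h
    have h' := pow_orderOf_eq_one (finRotate (n + 2))
    rwa [h] at h'

namespace AltRep

variable {ρ : Representation k Γ V} {π : Γ →* Perm (Fin r)}

theorem exists_lift (h : AltRep r ρ π) {σ : Perm (Fin r)} (hσ : σ ∈ alternatingGroup (Fin r)) :
    ∃ x, π x = σ := by
  rw [← h.range] at hσ
  exact hσ

theorem map_mem (h : AltRep r ρ π) (g : Γ) : π g ∈ alternatingGroup (Fin r) :=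
  h.range ▸ ⟨g, rfl⟩

theorem central (h : AltRep r ρ π) {z : Γ} (hz : π z = 1) (g : Γ) : Commute z g := by
  obtain ⟨c, hc⟩ := h.ker z hz
  refine h.inj ?_
  rw [map_mul, map_mul, hc]
  simp

theorem commute_of_coprime (h : AltRep r ρ π) {x y : Γ} {a b : ℕ} (ha : π x ^ a = 1)
    (hb : π y ^ b = 1) (hab : a.Coprime b) (hc : Commute (π x) (π y)) : Commute x y := by
  set z := x * y * x⁻¹ * y⁻¹ with hz
  have hz1 : π z = 1 := by
    rw [hz]; simp only [map_mul, map_inv]; rw [hc.eq]; group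
  have hcy : x * y * x⁻¹ = z * y := by rw [hz]; group
  have hcx : y * x * y⁻¹ = z⁻¹ * x := by rw [hz]; group
  have key : ∀ {u v w : Γ}, π w = 1 → u * v * u⁻¹ = w * v → ∀ j : ℕ,
      u ^ j * v * (u ^ j)⁻¹ = w ^ j * v := by
    intro u v w hw huv j
    induction j with
    | zero => simp
    | succ j ih =>
      calc u ^ (j + 1) * v * (u ^ (j + 1))⁻¹ = u ^ j * (u * v * u⁻¹) * (u ^ j)⁻¹ := by
            rw [pow_succ]; group
        _ = u ^ j * w * (u ^ j)⁻¹ * (u ^ j * v * (u ^ j)⁻¹) := by rw [huv]; group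
        _ = w ^ (j + 1) * v := by
            rw [ih, ← (h.central hw (u ^ j)).eq, mul_inv_cancel_right, pow_succ', mul_assoc]
  have hza : z ^ a = 1 := by
    have h1 := key hz1 hcy a
    rw [(h.central (by rw [map_pow, ha]) y).eq, mul_inv_cancel_right] at h1
    exact mul_eq_right.1 h1.symm
  have hzb : z ^ b = 1 := by
    have h1 := key (show π z⁻¹ = 1 by rw [map_inv, hz1, inv_one]) hcx b
    rw [(h.central (by rw [map_pow, hb]) x).eq, mul_inv_cancel_right, inv_pow] at h1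
    exact inv_eq_one.1 (mul_eq_right.1 h1.symm)
  have : z = 1 := by
    have h1 := pow_gcd_eq_one.2 ⟨hza, hzb⟩
    rwa [Nat.coprime_iff_gcd_eq_one.1 hab, pow_one] at h1
  rw [hz] at this
  exact commutatorElement_eq_one_iff_commute.1 (by rw [commutatorElement_def]; exact this)

theorem commute_commutator (h : AltRep r ρ π) {x u w : Γ} (hu : Commute (π x) (π u))
    (hw : Commute (π x) (π w)) : Commute x ⁅u, w⁆ := by
  have h1 : ∀ v, Commute (π x) (π v) → π (x * v * x⁻¹ * v⁻¹) = 1 := fun v hv => by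
    simp only [map_mul, map_inv]; rw [hv.eq]; group
  set c := x * u * x⁻¹ * u⁻¹ with hc
  set d := x * w * x⁻¹ * w⁻¹ with hd
  have hcc := h.central (h1 u hu)
  have hdd := h.central (h1 w hw)
  have e : x * ⁅u, w⁆ * x⁻¹ = ⁅c * u, d * w⁆ := by
    rw [commutatorElement_def, commutatorElement_def, hc, hd]; group
  rw [← hc] at hcc
  rw [← hd] at hdd
  have e2 : ⁅c * u, d * w⁆ = ⁅u, w⁆ := by
    simp only [commutatorElement_def, mul_inv_rev]
    calc c * u * (d * w) * (u⁻¹ * c⁻¹) * (w⁻¹ * d⁻¹)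
        = c * (u * d) * w * u⁻¹ * c⁻¹ * w⁻¹ * d⁻¹ := by group
      _ = c * (d * (u * w * u⁻¹)) * c⁻¹ * w⁻¹ * d⁻¹ := by rw [← (hdd u).eq]; group
      _ = d * (u * w * u⁻¹ * w⁻¹) * d⁻¹ := by
          rw [(hcc (d * (u * w * u⁻¹))).eq]; group
      _ = u * w * u⁻¹ * w⁻¹ := by rw [(hdd (u * w * u⁻¹ * w⁻¹)).eq]; group
  rw [e2] at e
  exact mul_inv_eq_iff_eq_mul.1 e

theorem commute_off (h : AltRep r ρ π) {l : ℕ} (hl : 5 ≤ l ∨ m.Coprime l.factorial) {x y : Γ}
    (hx : π x ^ m = 1) (e : Fin l ↪ Fin r) (he : ∀ τ, Commute (π x) (pv e τ)) {τ : Perm (Fin l)}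
    (hτ : τ ∈ alternatingGroup (Fin l)) (hy : π y = pv e τ) : Commute x y := by
  rcases hl with hl | hl
  · let S : Subgroup (alternatingGroup (Fin l)) :=
      ((Subgroup.centralizer {x}).map π).comap ((pv e).comp (alternatingGroup (Fin l)).subtype)
    have hS : S = ⊤ := by
      refine top_le_iff.1 ?_
      rw [← commutator_alternatingGroup_eq_top (α := Fin l) (by simpa using hl), commutator_def,
        Subgroup.commutator_le]
      intro a _ b _
      obtain ⟨u, hu⟩ := h.exists_lift (pv_mem e a.2)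
      obtain ⟨w, hw⟩ := h.exists_lift (pv_mem e b.2)
      refine Subgroup.mem_comap.2 ⟨⁅u, w⁆, ?_, by simp [map_commutatorElement, hu, hw]⟩
      rw [SetLike.mem_coe, Subgroup.mem_centralizer_singleton_iff]
      exact (h.commute_commutator (hu ▸ he _) (hw ▸ he _)).symm.eq
    obtain ⟨y', hy', hπ⟩ := Subgroup.mem_comap.1 (hS ▸ Subgroup.mem_top (⟨τ, hτ⟩ : alternatingGroup (Fin l)))
    rw [SetLike.mem_coe, Subgroup.mem_centralizer_singleton_iff] at hy'
    have hz : π (y * y'⁻¹) = 1 := by rw [map_mul, map_inv, hπ, hy]; simp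
    have : y = y * y'⁻¹ * y' := by group
    rw [this]
    exact ((h.central hz x).symm).mul_right hy'.symm
  · refine h.commute_of_coprime hx (b := l.factorial) ?_ hl (hy ▸ he τ)
    rw [hy, ← map_pow]
    have : τ ^ l.factorial = 1 := by
      have h1 := pow_card_eq_one' (G := Perm (Fin l)) (x := τ)
      rwa [Nat.card_perm, Nat.card_fin] at h1
    rw [this, map_one]

theorem commute_cent (h : AltRep r ρ π) (hm : 2 ≤ m) (hs : Separated m r) (ι : Fin m ↪ Fin r)
    {x g : Γ} (hx : π x = pv ι (finRotate m)) (hg : Commute (π g) (π x)) : Commute x g := by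
  rw [hx] at hg
  obtain ⟨j, hj⟩ := cent_cyc hm ι hg
  obtain ⟨e, he⟩ := exists_emb_compl ι
  obtain ⟨τ, hτ⟩ := exists_pv_of_fix ι hj fun y hy => (he y).2 hy
  have hdis : Disjoint (Set.range ι) (Set.range e) :=
    Set.disjoint_left.2 fun y hy hy' => (he y).1 hy' hy
  have hc : Commute x ((x ^ j)⁻¹ * g) := by
    refine h.commute_off (m := m) (l := r - m) ?_ ?_ e (fun τ => hx ▸ pv_commute hdis _ τ) ?_
      (τ := τ) ?_
    · rcases hs with hs | hs
      · exact Or.inl (by omega)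
      · exact Or.inr hs
    · rw [hx, ← map_pow, rot_pow_self, map_one]
    · rw [mem_alternatingGroup, ← sign_pv e, ← hτ, ← hx, ← map_pow, ← map_inv, ← map_mul]
      exact h.map_mem _
    · rw [map_mul, map_inv, map_pow, hx, hτ]
  simpa using ((Commute.refl x).pow_right j).mul_right hc

theorem can_unique (h : AltRep r ρ π) (hm : 2 ≤ m) (hodd : Odd m) (hs : Separated m r)
    (ι : Fin m ↪ Fin r) {x y : Γ} (hx : IsCan π m (pv ι (finRotate m)) x)
    (hy : IsCan π m (pv ι (finRotate m)) y) : x = y := by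
  obtain ⟨hx1, hx2, g, hg⟩ := hx
  obtain ⟨hy1, hy2, g', hg'⟩ := hy
  set z := y * x⁻¹ with hz
  have hz1 : π z = 1 := by rw [hz, map_mul, map_inv, hx1, hy1, mul_inv_cancel]
  have hzc := h.central hz1
  have hzy : y = z * x := by rw [hz]; group
  have hzm : z ^ m = 1 := by
    have := (hzc x).mul_pow m
    rwa [← hzy, hy2, hx2, mul_one, eq_comm] at this
  have hgx : Commute x (g⁻¹ * g') := by
    refine h.commute_cent hm hs ι hx1 ?_
    have e1 : π g * π x * (π g)⁻¹ = (π x)⁻¹ := by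
      rw [← map_inv π x, ← hg]; simp
    have e2 : π g' * π x * (π g')⁻¹ = (π x)⁻¹ := by
      have : π y = π x := by rw [hx1, hy1]
      rw [← this, ← map_inv π y, ← hg']; simp
    rw [map_mul, map_inv]
    show (π g)⁻¹ * π g' * π x = π x * ((π g)⁻¹ * π g')
    calc (π g)⁻¹ * π g' * π x = (π g)⁻¹ * (π g' * π x * (π g')⁻¹) * π g' := by group
      _ = (π g)⁻¹ * (π g * π x * (π g)⁻¹) * π g' := by rw [e1, e2]
      _ = π x * ((π g)⁻¹ * π g') := by group
  have hg'x : g' * x * g'⁻¹ = x⁻¹ := by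
    calc g' * x * g'⁻¹ = g * (g⁻¹ * g' * x) * g'⁻¹ := by group
      _ = g * (x * (g⁻¹ * g')) * g'⁻¹ := by rw [← hgx.eq]
      _ = g * x * g⁻¹ := by group
      _ = x⁻¹ := hg
  have hz2 : z ^ 2 = 1 := by
    have e : z * x⁻¹ = x⁻¹ * z⁻¹ := by
      calc z * x⁻¹ = z * (g' * x * g'⁻¹) := by rw [hg'x]
        _ = g' * (z * x) * g'⁻¹ := by rw [← mul_assoc, ← mul_assoc, (hzc g').eq]; group
        _ = x⁻¹ * z⁻¹ := by rw [← hzy, hg', hzy, mul_inv_rev]
    rw [(hzc _).eq] at e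
    rw [pow_two]
    exact mul_eq_one_iff_eq_inv.2 (mul_left_cancel e)
  have : z = 1 := by
    have h1 := pow_gcd_eq_one.2 ⟨hzm, hz2⟩
    rwa [Nat.coprime_iff_gcd_eq_one.1 (Nat.coprime_two_right.2 hodd), pow_one] at h1
  rw [hzy, this, one_mul]

theorem exists_can (h : AltRep r ρ π) (hodd : Odd m) (hm2 : m + 2 ≤ r)
    (ι : Fin m ↪ Fin r) : ∃ x, IsCan π m (pv ι (finRotate m)) x := by
  obtain ⟨e₀, he₀⟩ := hodd
  subst he₀
  set σ := pv ι (finRotate (2 * e₀ + 1)) with hσ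
  obtain ⟨g, hgA, hg⟩ := exists_even_map hm2 ι
    ((Equiv.neg (Fin (2 * e₀ + 1))).toEmbedding.trans ι)
  have hgσ : g * σ * g⁻¹ = σ⁻¹ := by
    rw [hσ, conj_pv, ← map_inv]
    have : ι.trans g.toEmbedding = (Equiv.neg (Fin (2 * e₀ + 1))).toEmbedding.trans ι := by
      ext x; simp [hg]
    rw [this, pv_reindex]
    congr 1
    refine mul_inv_eq_iff_eq_mul.2 (Equiv.ext fun x => ?_)
    rw [Perm.mul_apply, Perm.mul_apply, Perm.eq_inv_iff_eq]
    simp only [Equiv.neg_apply, finRotate_succ_apply]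
    abel
  obtain ⟨G, hG⟩ := h.exists_lift hgA
  have hσA : σ ∈ alternatingGroup (Fin r) := pv_mem ι (by
    rw [mem_alternatingGroup, sign_finRotate]
    exact Even.neg_one_pow ⟨e₀, by omega⟩)
  obtain ⟨X, hX⟩ := h.exists_lift hσA
  set z := G * X * G⁻¹ * X with hz
  have hz1 : π z = 1 := by
    rw [hz]; simp only [map_mul, map_inv, hG, hX, hgσ, inv_mul_cancel]
  have hzc := h.central hz1
  have hconj : G * X * G⁻¹ = z * X⁻¹ := by rw [hz]; group
  clear_value z
  set y := z⁻¹ * X ^ 2 with hy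
  clear_value y
  have hGy : G * y * G⁻¹ = y⁻¹ := by
    calc G * y * G⁻¹ = G * z⁻¹ * G⁻¹ * (G * X * G⁻¹) ^ 2 := by rw [hy, conj_pow]; group
      _ = z⁻¹ * (z * X⁻¹) ^ 2 := by
          rw [← ((hzc G).inv_left).eq, mul_inv_cancel_right, hconj]
      _ = y⁻¹ := by
          rw [(hzc X⁻¹).mul_pow, hy, mul_inv_rev, inv_inv, ← (hzc ((X ^ 2)⁻¹)).eq]
          group
  have hπy : π y = σ ^ 2 := by rw [hy, map_mul, map_inv, hz1, map_pow, hX]; simp
  have hσm : σ ^ (2 * e₀ + 1) = 1 := by rw [hσ, ← map_pow, rot_pow_self, map_one]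
  have hy2m : y ^ (2 * e₀ + 1) * y ^ (2 * e₀ + 1) = 1 := by
    set w := y ^ (2 * e₀ + 1) with hw
    have hw1 : π w = 1 := by
      rw [hw, map_pow, hπy, ← pow_mul, mul_comm, pow_mul, hσm, one_pow]
    have : G * w * G⁻¹ = w⁻¹ := by rw [hw, ← conj_pow, hGy, inv_pow]
    rw [← (h.central hw1 G).eq, mul_inv_cancel_right] at this
    exact mul_eq_one_iff_eq_inv.2 this
  refine ⟨y ^ ((e₀ + 1) * (2 * (e₀ + 1))), ?_, ?_, G, ?_⟩
  · rw [map_pow, hπy, ← pow_mul,
      show 2 * ((e₀ + 1) * (2 * (e₀ + 1))) = (2 * e₀ + 1) * (2 * e₀ + 3) + 1 by ring, pow_succ,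
      pow_mul, hσm, one_pow, one_mul]
  · rw [← pow_mul, show (e₀ + 1) * (2 * (e₀ + 1)) * (2 * e₀ + 1) =
      ((2 * e₀ + 1) + (2 * e₀ + 1)) * ((e₀ + 1) * (e₀ + 1)) by ring, pow_mul, pow_add, hy2m, one_pow]
  · rw [← conj_pow, hGy, inv_pow]

end AltRep

end Cfsg.Agent.Lib.MinDeg66
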