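import Cfsg.Agent.Lib.MinDeg66.CaseThree

/-!
The degree bound for projective representations of alternating groups.
-/

set_option autoImplicit false

namespace Cfsg.Agent.Lib.MinDeg66

open Equiv Module

/-- The lower bound for the degree attached to `A_r` over `k`. -/
def Bnd (k : Type*) [Field k] (r n : ℕ) : Prop := r - 1 ≤ n ∨ (r - 2 ≤ n ∧ (r : k) = 0)

theorem Bnd.mono {k : Type*} [Field k] {r n m : ℕ} (h : Bnd k r n) (hnm : n ≤ m) : Bnd k r m := by
  rcases h with h | ⟨h, h'⟩
  · exact Or.inl (h.trans hnm)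
  · exact Or.inr ⟨h.trans hnm, h'⟩

theorem AltRep.bound {k V Γ : Type*} [Field k] [AddCommGroup V] [Module k V] [Group Γ]
    [IsAlgClosed k] [FiniteDimensional k V] {r : ℕ} {ρ : Representation k Γ V}
    {π : Γ →* Perm (Fin r)} (h : AltRep r ρ π) (p : ℕ) [CharP k p] (hp : p.Prime) :
    Bnd k r (finrank k V) := by
  rcases eq_or_ne p 3 with rfl | hp3
  · exact h.bound_three
  · exact h.bound_other p hp hp3

end Cfsg.Agent.Lib.MinDeg66
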