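import Cfsg.Agent.Lib.MinDeg66.Counting

/-!
Moved spaces of canonical lifts.
-/

set_option autoImplicit false

namespace Cfsg.Agent.Lib.MinDeg66

open Equiv Equiv.Perm Module

variable {k V Γ : Type*} [Field k] [AddCommGroup V] [Module k V] [Group Γ] {m r : ℕ}
  {ρ : Representation k Γ V} {π : Γ →* Perm (Fin r)}

/-- An element of order dividing `m` prime to the characteristic fixes no nonzero moved vector. -/
theorem disjoint_range_ker {g : Γ} (hg : g ^ m = 1) (hm : (m : k) ≠ 0) :
    Disjoint (LinearMap.range (ρ g - 1)) (LinearMap.ker (ρ g - 1)) := by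
  rw [Submodule.disjoint_def]
  rintro v ⟨w, rfl⟩ hv
  set u := (ρ g - 1) w with hu
  have hfix : ρ g u = u := sub_eq_zero.1 (LinearMap.mem_ker.1 hv)
  have hj : ∀ j : ℕ, ρ (g ^ j) w = w + (j : k) • u := by
    intro j
    induction j with
    | zero => simp
    | succ j ih =>
      rw [pow_succ', map_mul, Module.End.mul_apply, ih, map_add, map_smul, hfix,
        show ρ g w = w + u by rw [hu]; simp, Nat.cast_succ, add_smul, one_smul]
      abel
  have := hj m
  rw [hg, map_one, Module.End.one_apply, left_eq_add] at this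
  exact (smul_eq_zero.1 this).resolve_left hm

theorem finrank_range_conj [FiniteDimensional k V] (G g : Γ) :
    finrank k (LinearMap.range (ρ g - 1)) = finrank k (LinearMap.range (ρ (G * g * G⁻¹) - 1)) := by
  have h : ∀ G g : Γ, LinearMap.range (ρ (G * g * G⁻¹) - 1) ≤
      (LinearMap.range (ρ g - 1)).map (ρ G) := by
    rintro G g _ ⟨v, rfl⟩
    exact ⟨(ρ g - 1) (ρ G⁻¹ v), ⟨_, rfl⟩, by simp [map_mul]⟩
  refine le_antisymm ?_ ((Submodule.finrank_mono (h G g)).trans (Submodule.finrank_map_le _ _))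
  have h2 := h G⁻¹ (G * g * G⁻¹)
  rw [show G⁻¹ * (G * g * G⁻¹) * G⁻¹⁻¹ = g by group] at h2
  exact (Submodule.finrank_mono h2).trans (Submodule.finrank_map_le _ _)

theorem five_split : ∃ c c' : Perm (Fin 5), c * finRotate 5 * c⁻¹ * (c' * finRotate 5 * c'⁻¹) =
    swap 0 1 * swap 1 2 := ⟨swap 1 4, swap 1 3, by decide⟩

theorem three_in_five : swap (0 : Fin 5) 1 * swap 1 2 = pv (Fin.castLEEmb (by omega : 3 ≤ 5)) (finRotate 3) := by
  refine eq_pv _ (fun x => ?_) fun y hy => ?_
  · fin_cases x <;> decide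
  · fin_cases y
    · exact absurd ⟨0, rfl⟩ hy
    · exact absurd ⟨1, rfl⟩ hy
    · exact absurd ⟨2, rfl⟩ hy
    · decide
    · decide

theorem three_invert : swap (1 : Fin 5) 2 * swap 3 4 ∈ alternatingGroup (Fin 5) ∧
    swap (1 : Fin 5) 2 * swap 3 4 * (swap 0 1 * swap 1 2) * (swap 1 2 * swap 3 4)⁻¹ =
      (swap 0 1 * swap 1 2) ^ 2 :=
  ⟨by rw [mem_alternatingGroup]; decide, by decide⟩

/-- In the absence of mixed eigenvectors for five-cycles, a disjoint three-cycle fixes the moved
space of a five-cycle. -/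
theorem AltRep.three_fixes_five [FiniteDimensional k V] (h : AltRep r ρ π) (hr : 10 ≤ r)
    (hc5 : CycOK 5 r) (hc3 : CycOK 3 r) (hmix : h.NoMix hc5) {ι : Fin 5 ↪ Fin r} {κ : Fin 3 ↪ Fin r}
    (hd : Disjoint (Set.range ι) (Set.range κ)) :
    LinearMap.range (ρ (h.can hc5 ι) - 1) ≤ LinearMap.ker (ρ (h.can hc3 κ) - 1) := by
  classical
  rintro _ ⟨w, rfl⟩
  rw [LinearMap.mem_ker]
  set u := (ρ (h.can hc5 ι) - 1) w with hu
  by_cases hu0 : u = 0
  · rw [hu0, map_zero]
  obtain ⟨o, ho⟩ := exists_emb_off (Finset.univ.map ι ∪ Finset.univ.map κ) (n := 2) (by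
    have := Finset.card_union_le (Finset.univ.map ι) (Finset.univ.map κ)
    simp only [Finset.card_map, Finset.card_univ, Fintype.card_fin] at this
    omega)
  let e : Fin 5 ↪ Fin r := ⟨Fin.append κ o, Fin.append_injective_iff.2 ⟨κ.injective, o.injective,
    fun i j hij => ho j (hij ▸ Finset.mem_union_right _ (Finset.mem_map_of_mem _ (Finset.mem_univ i)))⟩⟩
  have hde : Disjoint (Set.range ι) (Set.range e) := by
    rw [Set.disjoint_left]
    rintro _ ⟨x, rfl⟩ ⟨y, hy⟩
    refine Fin.addCases (m := 3) (n := 2) (motive := fun z => e z = ι x → False) (fun i => ?_) (fun j => ?_) y hy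
    · intro hy
      change Fin.append κ o (Fin.castAdd 2 i) = ι x at hy
      rw [Fin.append_left] at hy
      exact Set.disjoint_left.1 hd ⟨x, rfl⟩ ⟨i, hy⟩
    · intro hy
      change Fin.append κ o (Fin.natAdd 3 j) = ι x at hy
      rw [Fin.append_right] at hy
      exact ho j (hy ▸ Finset.mem_union_left _ (Finset.mem_map_of_mem _ (Finset.mem_univ x)))
  have hκ : pv κ (finRotate 3) = pv e (swap 0 1 * swap 1 2) := by
    rw [three_in_five, ← pv_trans]
    congr 1
    congr 1
    ext i
    exact congrArg Fin.val (Fin.append_left κ o i).symm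
  obtain ⟨c, c', hcc⟩ := five_split
  set X := h.can hc5 (c.toEmbedding.trans e) * h.can hc5 (c'.toEmbedding.trans e) with hX
  have hXu : ρ X u = u := by
    have hfix : ∀ d : Perm (Fin 5), ρ (h.can hc5 (d.toEmbedding.trans e)) u = u := fun d => by
      have hdd : Disjoint (Set.range (d.toEmbedding.trans e)) (Set.range ι) := by
        refine hde.symm.mono_left ?_
        rintro _ ⟨x, rfl⟩
        exact ⟨d x, rfl⟩
      have := LinearMap.ext_iff.1 (hmix _ _ hdd) w
      rw [Module.End.mul_apply, ← hu] at this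
      exact sub_eq_zero.1 this
    rw [hX, map_mul, Module.End.mul_apply, hfix, hfix]
  set t := h.can hc3 κ with ht
  have hz : π (t * X⁻¹) = 1 := by
    rw [map_mul, map_inv, ht, h.map_can hc3, hκ, hX, _root_.map_mul π, h.map_can hc5, h.map_can hc5,
      pv_reindex, pv_reindex, ← map_mul, hcc, mul_inv_cancel]
  obtain ⟨c0, hc0⟩ := h.ker _ hz
  have htu : ρ t u = c0 • u := by
    have : t = t * X⁻¹ * X := by group
    rw [this, map_mul, Module.End.mul_apply, hXu, hc0]
    simp
  obtain ⟨hwA, hw⟩ := three_invert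
  obtain ⟨G, hG⟩ := h.exists_lift (pv_mem e hwA)
  have hGu : Commute (h.can hc5 ι) G :=
    h.can_commute_off hc5 (Or.inl le_rfl) ι e hde hwA hG
  have hGt : G * t * G⁻¹ = t ^ 2 := h.conj_can hc3 (ι := κ) (ι' := κ) (u := 2) (by
    rw [hG, hκ, ← map_inv, ← map_mul, ← map_mul, ← map_pow, hw])
  have hnorm : ρ t (ρ G u) = c0 • ρ G u := by
    have hGuu : ρ G u = (ρ (h.can hc5 ι) - 1) (ρ G w) := by
      rw [hu, LinearMap.sub_apply, LinearMap.sub_apply, map_sub, Module.End.one_apply,
        Module.End.one_apply, ← Module.End.mul_apply, ← map_mul, ← hGu.eq, map_mul, Module.End.mul_apply]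
    have hfix : ρ X (ρ G u) = ρ G u := by
      have hall : ∀ d : Perm (Fin 5), ρ (h.can hc5 (d.toEmbedding.trans e)) (ρ G u) = ρ G u := fun d => by
        have hdd : Disjoint (Set.range (d.toEmbedding.trans e)) (Set.range ι) := by
          refine hde.symm.mono_left ?_
          rintro _ ⟨x, rfl⟩
          exact ⟨d x, rfl⟩
        have := LinearMap.ext_iff.1 (hmix _ _ hdd) (ρ G w)
        rw [Module.End.mul_apply, ← hGuu] at this
        exact sub_eq_zero.1 this
      rw [hX, map_mul, Module.End.mul_apply, hall, hall]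
    have : t = t * X⁻¹ * X := by group
    rw [this, map_mul, Module.End.mul_apply, hfix, hc0]
    simp
  have e2 : c0 • ρ G u = (c0 * c0) • ρ G u := by
    have h1 : ρ (t ^ 2) (ρ G u) = (c0 * c0) • ρ G u := by
      rw [pow_apply_of_eigen hnorm, pow_two]
    rw [← hGt, map_mul, Module.End.mul_apply, Representation.inv_self_apply, map_mul,
      Module.End.mul_apply, htu, map_smul] at h1
    exact h1
  have hGu0 : ρ G u ≠ 0 := fun e0 => hu0 (by
    have := congrArg (ρ G⁻¹) e0
    rwa [Representation.inv_self_apply, map_zero] at this)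
  have hne : c0 ≠ 0 := by
    rintro rfl
    rw [zero_smul] at htu
    have := congrArg (ρ t⁻¹) htu
    rw [Representation.inv_self_apply, map_zero] at this
    exact hu0 this
  have h1 : c0 = 1 := by
    have := smul_left_injective k hGu0 e2
    exact mul_left_cancel₀ hne (by rw [mul_one]; exact this.symm)
  rw [LinearMap.sub_apply, htu, h1, one_smul, Module.End.one_apply, sub_self]

end Cfsg.Agent.Lib.MinDeg66
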