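import Mathlib

/-!
Permutations of `Fin r` transported from small degree along embeddings.
-/

set_option autoImplicit false

namespace Cfsg.Agent.Lib.MinDeg66

open Equiv Equiv.Perm

variable {m l r : ℕ}

/-- A permutation of `Fin m` moved to `Fin r` along `ι`. -/
noncomputable def pv (ι : Fin m ↪ Fin r) : Perm (Fin m) →* Perm (Fin r) :=
  Equiv.Perm.viaEmbeddingHom ι

theorem pv_apply (ι : Fin m ↪ Fin r) (σ : Perm (Fin m)) (x : Fin m) : pv ι σ (ι x) = ι (σ x) :=
  Equiv.Perm.viaEmbedding_apply σ ι x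

theorem pv_notMem (ι : Fin m ↪ Fin r) (σ : Perm (Fin m)) {y : Fin r} (h : y ∉ Set.range ι) :
    pv ι σ y = y :=
  Equiv.Perm.viaEmbedding_apply_of_notMem σ ι y h

theorem pv_injective (ι : Fin m ↪ Fin r) : Function.Injective (pv ι) := fun a b h =>
  Equiv.ext fun x => ι.injective (by rw [← pv_apply, ← pv_apply, h])

/-- A permutation fixing the complement of the range of `ι` is transported. -/
theorem eq_pv {ι : Fin m ↪ Fin r} {g : Perm (Fin r)} (σ : Perm (Fin m))
    (h1 : ∀ x, g (ι x) = ι (σ x)) (h2 : ∀ y, y ∉ Set.range ι → g y = y) : g = pv ι σ := by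
  ext y
  by_cases hy : y ∈ Set.range ι
  · obtain ⟨x, rfl⟩ := hy
    rw [h1, pv_apply]
  · rw [h2 y hy, pv_notMem ι σ hy]

theorem sign_pv (ι : Fin m ↪ Fin r) (σ : Perm (Fin m)) : sign (pv ι σ) = sign σ := by
  have h : pv ι σ = σ.extendDomain (Equiv.ofInjective ι ι.injective) := by
    symm
    refine eq_pv σ (fun x => ?_) fun y hy => Equiv.Perm.extendDomain_apply_not_subtype _ _ hy
    exact Equiv.Perm.extendDomain_apply_image σ (Equiv.ofInjective ι ι.injective) x
  rw [h, Equiv.Perm.sign_extendDomain]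

theorem pv_mem (ι : Fin m ↪ Fin r) {σ : Perm (Fin m)} (h : σ ∈ alternatingGroup (Fin m)) :
    pv ι σ ∈ alternatingGroup (Fin r) := by
  rw [mem_alternatingGroup, sign_pv]
  exact h

theorem conj_pv (g : Perm (Fin r)) (ι : Fin m ↪ Fin r) (σ : Perm (Fin m)) :
    g * pv ι σ * g⁻¹ = pv (ι.trans g.toEmbedding) σ := by
  refine eq_pv σ (fun x => ?_) fun y hy => ?_
  · simp [pv_apply]
  · have : g⁻¹ y ∉ Set.range ι := by
      rintro ⟨x, hx⟩
      exact hy ⟨x, by simp [hx]⟩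
    simp only [Perm.mul_apply, pv_notMem ι σ this]
    exact g.apply_symm_apply y

theorem pv_trans (e : Fin l ↪ Fin m) (ι : Fin m ↪ Fin r) (σ : Perm (Fin l)) :
    pv (e.trans ι) σ = pv ι (pv e σ) := by
  symm
  refine eq_pv σ (fun x => ?_) fun y hy => ?_
  · simp [pv_apply]
  · by_cases h : y ∈ Set.range ι
    · obtain ⟨x, rfl⟩ := h
      rw [pv_apply, pv_notMem e σ]
      rintro ⟨z, rfl⟩
      exact hy ⟨z, rfl⟩
    · exact pv_notMem ι _ h

theorem pv_reindex (ι : Fin m ↪ Fin r) (c σ : Perm (Fin m)) :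
    pv (c.toEmbedding.trans ι) σ = pv ι (c * σ * c⁻¹) := by
  rw [pv_trans]
  congr 1
  symm
  refine eq_pv σ (fun x => ?_) fun y hy => absurd ⟨c.symm y, by simp⟩ hy
  simp

theorem pv_commute {ι : Fin m ↪ Fin r} {κ : Fin l ↪ Fin r}
    (h : Disjoint (Set.range ι) (Set.range κ)) (σ : Perm (Fin m)) (τ : Perm (Fin l)) :
    Commute (pv ι σ) (pv κ τ) := by
  refine Equiv.Perm.Disjoint.commute fun y => ?_
  by_cases hy : y ∈ Set.range ι
  · exact Or.inr (pv_notMem κ τ (Set.disjoint_left.1 h hy))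
  · exact Or.inl (pv_notMem ι σ hy)

theorem exists_emb_off (S : Finset (Fin r)) {n : ℕ} (h : n + S.card ≤ r) :
    ∃ ι : Fin n ↪ Fin r, ∀ x, ι x ∉ S := by
  have hc : n ≤ Sᶜ.card := by
    rw [Finset.card_compl, Fintype.card_fin]
    omega
  obtain ⟨T, hT, hTc⟩ := Finset.exists_subset_card_eq hc
  exact ⟨(T.orderEmbOfFin hTc).toEmbedding,
    fun x => Finset.mem_compl.1 (hT (T.orderEmbOfFin_mem hTc x))⟩

theorem exists_emb_compl (ι : Fin m ↪ Fin r) :
    ∃ e : Fin (r - m) ↪ Fin r, ∀ y, y ∈ Set.range e ↔ y ∉ Set.range ι := by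
  classical
  have hc : ((Finset.univ.map ι)ᶜ).card = r - m := by simp [Finset.card_compl]
  refine ⟨(Finset.orderEmbOfFin _ hc).toEmbedding, fun y => ?_⟩
  show y ∈ Set.range (Finset.orderEmbOfFin _ hc) ↔ _
  rw [Finset.range_orderEmbOfFin]
  simp [Set.mem_range]

theorem card_le_of_emb (ι : Fin m ↪ Fin r) : m ≤ r := by
  simpa using Fintype.card_le_of_embedding ι

theorem exists_map {ι ι' : Fin m ↪ Fin r} :
    ∃ g : Perm (Fin r), ∀ x, g (ι x) = ι' x := by
  classical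
  refine ⟨((Equiv.ofInjective ι ι.injective).symm.trans
    (Equiv.ofInjective ι' ι'.injective)).extendSubtype, fun x => ?_⟩
  rw [Equiv.extendSubtype_apply_of_mem _ _ ⟨x, rfl⟩]
  simp

theorem exists_even_map (hm : m + 2 ≤ r) (ι ι' : Fin m ↪ Fin r) :
    ∃ g ∈ alternatingGroup (Fin r), ∀ x, g (ι x) = ι' x := by
  classical
  obtain ⟨g, hg⟩ := exists_map (ι := ι) (ι' := ι')
  by_cases hs : sign g = 1
  · exact ⟨g, hs, hg⟩
  have hs' : sign g = -1 := (Int.units_eq_one_or _).resolve_left hs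
  obtain ⟨o, ho⟩ := exists_emb_off (Finset.univ.map ι') (n := 2) (by simp; omega)
  refine ⟨swap (o 0) (o 1) * g, ?_, fun x => ?_⟩
  · rw [mem_alternatingGroup, map_mul, sign_swap (o.injective.ne (by decide)), hs']
    norm_num
  · rw [Perm.mul_apply, hg, swap_apply_of_ne_of_ne]
    · exact fun e => ho 0 (e ▸ Finset.mem_map_of_mem _ (Finset.mem_univ _))
    · exact fun e => ho 1 (e ▸ Finset.mem_map_of_mem _ (Finset.mem_univ _))

theorem exists_pv_of_fix (ι : Fin m ↪ Fin r) {g : Perm (Fin r)} (h : ∀ x, g (ι x) = ι x)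
    {e : Fin l ↪ Fin r} (he : ∀ y, y ∉ Set.range ι → y ∈ Set.range e) :
    ∃ σ : Perm (Fin l), g = pv e σ := by
  have hfix : ∀ y, y ∉ Set.range e → g y = y := fun y hy => by
    obtain ⟨x, rfl⟩ : y ∈ Set.range ι := by
      by_contra hc
      exact hy (he y hc)
    exact h x
  have hr : ∀ x, g (e x) ∈ Set.range e := fun x => by
    by_contra hc
    have h1 := g.injective (hfix _ hc)
    exact hc ⟨x, h1.symm⟩
  choose f hf using hr
  have hinj : Function.Injective f := fun a b hab =>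
    e.injective (g.injective (by rw [← hf a, ← hf b, hab]))
  exact ⟨Equiv.ofBijective f (Finite.injective_iff_bijective.1 hinj),
    eq_pv _ (fun x => (hf x).symm) hfix⟩

theorem rot_pow_zero (k j : ℕ) : ((finRotate (k + 1)) ^ j) 0 = (Fin.ofNat (k + 1) j) := by
  induction j with
  | zero => simp
  | succ j ih =>
    rw [pow_succ', Perm.mul_apply, ih, finRotate_succ_apply]
    ext
    simp [Fin.val_add, Nat.add_mod]

theorem rot_ne (k : ℕ) (hk : 1 ≤ k) (x : Fin (k + 1)) : finRotate (k + 1) x ≠ x := by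
  rw [finRotate_succ_apply]
  intro h
  have : (1 : Fin (k + 1)) = 0 := by simpa using h
  have := congrArg Fin.val this
  simp [Nat.mod_eq_of_lt (show 1 < k + 1 by omega)] at this

/-- A permutation commuting with a cycle is a power of it times a permutation fixing it. -/
theorem cent_cyc (hm : 2 ≤ m) (ι : Fin m ↪ Fin r) {h : Perm (Fin r)}
    (hc : Commute h (pv ι (finRotate m))) :
    ∃ j : ℕ, ∀ x, ((pv ι (finRotate m) ^ j)⁻¹ * h) (ι x) = ι x := by
  obtain ⟨k, rfl⟩ : ∃ k, m = k + 1 := ⟨m - 1, by omega⟩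
  set σ := pv ι (finRotate (k + 1)) with hσ
  have h0 : h (ι 0) ∈ Set.range ι := by
    by_contra hcon
    have h1 : σ (h (ι 0)) = h (σ (ι 0)) := (Perm.ext_iff.1 hc.eq (ι 0)).symm
    rw [pv_notMem _ _ hcon] at h1
    have h2 := h.injective h1
    rw [hσ, pv_apply] at h2
    exact rot_ne k (by omega) 0 (ι.injective h2).symm
  obtain ⟨i, hi⟩ := h0
  refine ⟨i.val, fun x => ?_⟩
  have hpow : ∀ j : ℕ, (σ ^ j) (ι 0) = ι (Fin.ofNat (k + 1) j) := fun j => by
    rw [hσ, ← map_pow, pv_apply, rot_pow_zero]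
  have hx : (σ ^ x.val) (ι 0) = ι x := by
    rw [hpow]; congr 1; ext; simp [Nat.mod_eq_of_lt x.isLt]
  have hi' : (σ ^ i.val) (ι 0) = ι i := by
    rw [hpow]; congr 1; ext; simp [Nat.mod_eq_of_lt i.isLt]
  have hcomm : Commute ((σ ^ i.val)⁻¹ * h) (σ ^ x.val) :=
    (((Commute.refl σ).pow_left _).inv_left.mul_left hc).pow_right _
  rw [← hx, ← Perm.mul_apply, hcomm.eq, Perm.mul_apply, Perm.mul_apply, ← hi, ← hi']
  simp

end Cfsg.Agent.Lib.MinDeg66
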