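import Cfsg.Agent.Lib.MinDeg66.Main
import Cfsg.Agent.Lib.MinDeg66.Eigen
import Cfsg.Agent.Lib.MinDeg66.Cover

/-!
Reduction of linear groups with an alternating section to projective representations.
-/

set_option autoImplicit false

namespace Cfsg.Agent.Lib.MinDeg66

open Equiv Module
open scoped commutatorElement

theorem pow_two_gt : ∀ d : ℕ, 5 ≤ d → d * d < 2 ^ d
  | 5, _ => by norm_num
  | d + 6, _ => by
    have h := pow_two_gt (d + 5) (by omega)
    rw [show 2 ^ (d + 6) = 2 * 2 ^ (d + 5) by ring]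
    nlinarith

theorem factorial_lt {n r : ℕ} (hr : 3 ≤ r) (hn : n + 2 ≤ r) : 2 * n.factorial < r.factorial := by
  obtain ⟨m, rfl⟩ : ∃ m, r = m + 2 := ⟨r - 2, by omega⟩
  have h1 := Nat.factorial_le (show n ≤ m by omega)
  rw [Nat.factorial_succ, Nat.factorial_succ]
  have : 2 < (m + 1 + 1) * (m + 1) := by nlinarith
  nlinarith [Nat.factorial_pos m, Nat.factorial_pos n]

universe u

variable {k V : Type} [Field k] [AddCommGroup V] [Module k V] {Γ : Type u} [Group Γ]

/-- The elements acting as scalars. -/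
def scalars (ρ : Representation k Γ V) : Subgroup Γ where
  carrier := {g | ∃ c : k, ρ g = c • 1}
  one_mem' := ⟨1, by simp⟩
  mul_mem' := by
    rintro a b ⟨c, hc⟩ ⟨d, hd⟩
    exact ⟨c * d, by rw [map_mul, hc, hd]; ext; simp [smul_smul, mul_comm]⟩
  inv_mem' := by
    rintro a ⟨c, hc⟩
    refine ⟨c⁻¹, LinearMap.ext fun v => ?_⟩
    have h1 : c • ρ a⁻¹ v = v := by
      have := LinearMap.ext_iff.1 hc (ρ a⁻¹ v)
      rw [Representation.self_inv_apply] at this
      simpa using this.symm
    rcases eq_or_ne c 0 with rfl | hc0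
    · rw [zero_smul] at h1
      simp [← h1]
    · conv_rhs => rw [← h1]
      simp [smul_smul, inv_mul_cancel₀ hc0, mul_inv_cancel₀ hc0]

section Faithful

variable {ρ : Representation k Γ V} (hinj : Function.Injective ρ)

include hinj

theorem scalars_commute {z : Γ} (hz : z ∈ scalars ρ) (g : Γ) : Commute z g := by
  obtain ⟨c, hc⟩ := hz
  refine hinj ?_
  rw [map_mul, map_mul, hc]
  simp

theorem scalars_normal : (scalars ρ).Normal :=
  ⟨fun z hz g => by rwa [← (scalars_commute hinj hz g).eq, mul_inv_cancel_right]⟩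

end Faithful

variable [Finite Γ] {r : ℕ} {π : Γ →* Perm (Fin r)}

theorem bnd_of_abelian [IsAlgClosed k] [FiniteDimensional k V] [Nontrivial V] (hπ : IsCover r π)
    {ρ : Representation k Γ V}
    (hirr : ∀ W : Submodule k V, (∀ g, ∀ v ∈ W, ρ g v ∈ W) → W = ⊥ ∨ W = ⊤)
    (A : Subgroup Γ) [hA : A.Normal] (hab : ∀ x ∈ A, ∀ y ∈ A, x * y = y * x)
    (hns : ¬ A ≤ scalars ρ) : r - 1 ≤ finrank k V := by
  classical
  letI : CommGroup A := { mul_comm := fun x y => Subtype.ext (hab _ x.2 _ y.2) }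
  obtain ⟨v, hv0, hv⟩ := exists_common_eigvec (ρ.comp A.subtype : Representation k A V)
  choose c hc using hv
  have hinj : ∀ g, Function.Injective (ρ g) := fun g u v e => by
    have := congrArg (ρ g⁻¹) e
    rwa [Representation.inv_self_apply, Representation.inv_self_apply] at this
  let cj : Γ → A →* A := fun g =>
    { toFun := fun a => ⟨g * a.1 * g⁻¹, hA.conj_mem _ a.2 g⟩
      map_one' := Subtype.ext (by simp)
      map_mul' := fun a b => Subtype.ext (by simp [mul_assoc]) }
  let χ : A →* k :=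
    { toFun := c
      map_one' := by
        have := hc 1
        rw [map_one, Module.End.one_apply] at this
        exact (smul_left_injective k hv0 (this.symm.trans (one_smul k v).symm))
      map_mul' := fun a b => by
        refine smul_left_injective k hv0 ?_
        show c (a * b) • v = (c a * c b) • v
        rw [← hc, map_mul, Module.End.mul_apply, hc, map_smul, hc, smul_smul, mul_comm] }
  letI act : MulAction Γ (A →* k) :=
    { smul := fun g f => f.comp (cj g⁻¹)
      one_smul := fun f => MonoidHom.ext fun a => congrArg f (Subtype.ext (by simp [cj]))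
      mul_smul := fun g g' f => MonoidHom.ext fun a => congrArg f (Subtype.ext (by simp [cj, mul_assoc])) }
  have heig : ∀ (g : Γ) (a : A), ρ a.1 (ρ g v) = (g • χ) a • ρ g v := fun g a => by
    show _ = χ (cj g⁻¹ a) • _
    have e : a.1 * g = g * (cj g⁻¹ a).1 := by simp [cj, mul_assoc]
    rw [← Module.End.mul_apply, ← map_mul, e, map_mul, Module.End.mul_apply,
      show ρ (cj g⁻¹ a).1 v = χ (cj g⁻¹ a) • v from hc (cj g⁻¹ a), map_smul]
  set O := MulAction.orbit Γ χ with hO
  choose w hw using fun o : O => o.2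
  haveI : Finite O := Finite.of_injective w fun a b e => Subtype.ext (by rw [← hw a, ← hw b, e])
  have hli : LinearIndependent k fun o : O => ρ (w o) v :=
    eigvec_independent (ρ.comp A.subtype : Representation k A V) (χ := fun o : O => o.1)
      Subtype.val_injective (fun o e => hv0 (hinj _ (e.trans (map_zero _).symm))) fun o a => by
        show ρ a.1 _ = _
        rw [heig, show w o • χ = o.1 from hw o]
  haveI := Fintype.ofFinite O
  have hcard : Nat.card O ≤ finrank k V := by
    rw [Nat.card_eq_fintype_card]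
    exact hli.fintype_card_le_finrank
  set f := MulAction.toPermHom Γ O with hf
  have hne : f.ker ≠ ⊤ := by
    intro htop
    have hfix : ∀ g : Γ, g • χ = χ := fun g => by
      have : f g = 1 := MonoidHom.mem_ker.1 (htop ▸ Subgroup.mem_top g)
      exact congrArg Subtype.val (Equiv.ext_iff.1 this ⟨χ, MulAction.mem_orbit_self χ⟩)
    refine hns fun a ha => ⟨χ ⟨a, ha⟩, LinearMap.ext fun u => ?_⟩
    let W : Submodule k V :=
      ⨅ b : A, Module.End.eigenspace (ρ b.1) (χ b)
    have hWv : v ∈ W := Submodule.mem_iInf _ |>.2 fun b => Module.End.mem_eigenspace_iff.2 (hc b)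
    have hWinv : ∀ g, ∀ u ∈ W, ρ g u ∈ W := fun g u hu => by
      refine Submodule.mem_iInf _ |>.2 fun b => Module.End.mem_eigenspace_iff.2 ?_
      have e : b.1 * g = g * (cj g⁻¹ b).1 := by simp [cj, mul_assoc]
      rw [← Module.End.mul_apply, ← map_mul, e, map_mul, Module.End.mul_apply,
        Module.End.mem_eigenspace_iff.1 (Submodule.mem_iInf _ |>.1 hu (cj g⁻¹ b)), map_smul]
      congr 1
      exact DFunLike.congr_fun (hfix g) b
    have hWtop : W = ⊤ := (hirr W hWinv).resolve_left fun e => hv0 (by rwa [e, Submodule.mem_bot] at hWv)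
    simpa using Module.End.mem_eigenspace_iff.1
      (Submodule.mem_iInf _ |>.1 (hWtop ▸ Submodule.mem_top : u ∈ W) ⟨a, ha⟩)
  have hker := hπ.normal_le hne
  have h1 : Nat.card π.range ≤ Nat.card f.range := by
    rw [← Subgroup.index_ker, ← Subgroup.index_ker]
    exact Nat.le_of_dvd (Nat.pos_of_ne_zero Subgroup.index_ne_zero_of_finite)
      (Subgroup.index_dvd_of_le hker)
  have h2 : Nat.card f.range ≤ (Nat.card O).factorial := by
    rw [← Nat.card_perm]
    exact Nat.card_le_card_of_injective _ Subtype.val_injective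
  have h3 : 2 * Nat.card π.range = r.factorial := by
    rw [hπ.range]
    haveI : Nontrivial (Fin r) := Fin.nontrivial_iff_two_le.2 (by have := hπ.deg; omega)
    rw [nat_card_alternatingGroup, Nat.card_fin]
    exact Nat.mul_div_cancel' (Nat.dvd_factorial two_pos (by have := hπ.deg; omega))
  by_contra hlt
  have h4 := Nat.factorial_le hcard
  have h5 := factorial_lt (n := finrank k V) (r := r) (by have := hπ.deg; omega) (by omega)
  omega

theorem sylow_not_scalar {H : Subgroup Γ} {Z : Subgroup Γ} (hns : ¬ H ≤ Z) :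
    ∃ s : ℕ, s.Prime ∧ ∃ P : Sylow s H, ¬ (P : Subgroup H).map H.subtype ≤ Z := by
  by_contra hcon
  push_neg at hcon
  refine hns fun x hx => ?_
  have : Z.subgroupOf H = ⊤ := by
    rw [← Subgroup.index_eq_one]
    by_contra hne
    obtain ⟨s, hs, hdvd⟩ := Nat.exists_prime_and_dvd hne
    haveI := Fact.mk hs
    obtain ⟨P⟩ : Nonempty (Sylow s H) := inferInstance
    have hle : (P : Subgroup H) ≤ Z.subgroupOf H := fun y hy =>
      Subgroup.mem_subgroupOf.2 (hcon s hs P (Subgroup.mem_map_of_mem _ hy))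
    exact P.not_dvd_index (hdvd.trans (Subgroup.index_dvd_of_le hle))
  exact Subgroup.subgroupOf_eq_top.1 this hx

/-- A normal subgroup of prime power order, all of whose normal abelian subgroups are scalar,
has commutators and `s`th powers scalar. -/
theorem class_two {ρ : Representation k Γ V} (hinj : Function.Injective ρ) {s : ℕ} [Fact s.Prime]
    (P : Subgroup Γ) [hP : P.Normal] (hs : IsPGroup s P)
    (hab : ∀ A : Subgroup Γ, A.Normal → A ≤ P → (∀ x ∈ A, ∀ y ∈ A, x * y = y * x) → A ≤ scalars ρ) :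
    (∀ x ∈ P, ∀ y ∈ P, ⁅x, y⁆ ∈ scalars ρ) ∧ (∀ x ∈ P, x ^ s ∈ scalars ρ) := by
  classical
  have hc : ∀ z ∈ scalars ρ, ∀ g, Commute z g := fun z hz g => scalars_commute hinj hz g
  haveI := scalars_normal hinj
  let T : Subgroup Γ :=
    { carrier := {g | g ∈ P ∧ ∀ x ∈ P, ⁅x, g⁆ ∈ scalars ρ}
      one_mem' := ⟨P.one_mem, fun x _ => by simp⟩
      mul_mem' := fun {a b} ha hb => ⟨P.mul_mem ha.1 hb.1, fun x hx => by
        have e : ⁅x, a * b⁆ = ⁅x, a⁆ * (a * ⁅x, b⁆ * a⁻¹) := by
          simp only [commutatorElement_def]; group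
        rw [e, ← (hc _ (hb.2 x hx) a).eq, mul_inv_cancel_right]
        exact (scalars ρ).mul_mem (ha.2 x hx) (hb.2 x hx)⟩
      inv_mem' := fun {a} ha => ⟨P.inv_mem ha.1, fun x hx => by
        have e : ⁅x, a⁻¹⁆ = a⁻¹ * ⁅x, a⁆⁻¹ * a := by simp only [commutatorElement_def]; group
        rw [e, mul_assoc, (hc _ ((scalars ρ).inv_mem (ha.2 x hx)) a).eq, inv_mul_cancel_left]
        exact (scalars ρ).inv_mem (ha.2 x hx)⟩ }
  have hTn : T.Normal := ⟨fun a ha g => ⟨hP.conj_mem a ha.1 g, fun x hx => by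
    have e : ⁅x, g * a * g⁻¹⁆ = g * ⁅g⁻¹ * x * g, a⁆ * g⁻¹ := by
      simp only [commutatorElement_def]; group
    rw [e, ← (hc _ (ha.2 _ (by simpa using hP.conj_mem x hx g⁻¹)) g).eq, mul_inv_cancel_right]
    exact ha.2 _ (by simpa using hP.conj_mem x hx g⁻¹)⟩⟩
  haveI := hTn
  have hTcomm : ∀ t ∈ T, ∀ c ∈ ⁅P, P⁆, t * c = c * t := by
    intro t ht c hcm
    have : ⁅P, P⁆ ≤ Subgroup.centralizer {t} := by
      rw [Subgroup.commutator_le]
      intro a ha b hb
      rw [Subgroup.mem_centralizer_singleton_iff]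
      have ea : a * t * a⁻¹ = ⁅a, t⁆ * t := by rw [commutatorElement_def]; group
      have eb : b * t * b⁻¹ = ⁅b, t⁆ * t := by rw [commutatorElement_def]; group
      set u := ⁅a, t⁆
      set v := ⁅b, t⁆
      have hu := hc u (ht.2 a ha)
      have hv := hc v (ht.2 b hb)
      have e1 : a⁻¹ * t * a = u⁻¹ * t := by
        calc a⁻¹ * t * a = a⁻¹ * (u⁻¹ * (a * t * a⁻¹)) * a := by rw [ea, inv_mul_cancel_left]
          _ = a⁻¹ * u⁻¹ * a * t := by group
          _ = u⁻¹ * t := by rw [mul_assoc a⁻¹, (hu a).inv_left.eq, inv_mul_cancel_left]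
      have e2 : b⁻¹ * t * b = v⁻¹ * t := by
        calc b⁻¹ * t * b = b⁻¹ * (v⁻¹ * (b * t * b⁻¹)) * b := by rw [eb, inv_mul_cancel_left]
          _ = b⁻¹ * v⁻¹ * b * t := by group
          _ = v⁻¹ * t := by rw [mul_assoc b⁻¹, (hv b).inv_left.eq, inv_mul_cancel_left]
      have : ⁅a, b⁆ * t * ⁅a, b⁆⁻¹ = t := by
        calc ⁅a, b⁆ * t * ⁅a, b⁆⁻¹ = a * (b * (a⁻¹ * (b⁻¹ * t * b) * a) * b⁻¹) * a⁻¹ := by
              rw [commutatorElement_def]; group
          _ = a * (b * (v⁻¹ * (u⁻¹ * t)) * b⁻¹) * a⁻¹ := by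
              rw [e2, ← mul_assoc a⁻¹, ← (hv a⁻¹).inv_left.eq, ← e1]; group
          _ = v⁻¹ * u⁻¹ * (a * (b * t * b⁻¹) * a⁻¹) := by
              rw [← mul_assoc b, ← (hv b).inv_left.eq, mul_assoc v⁻¹, ← mul_assoc b,
                ← (hu b).inv_left.eq]
              simp only [mul_assoc]
              rw [← mul_assoc a v⁻¹, ← (hv a).inv_left.eq, mul_assoc v⁻¹, ← mul_assoc a u⁻¹,
                ← (hu a).inv_left.eq, mul_assoc u⁻¹]
          _ = t := by
              rw [eb, ← mul_assoc a, ← (hv a).eq, mul_assoc v, mul_assoc v]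
              rw [show a * t * a⁻¹ = u * t from ea, ← mul_assoc v u, (hv u).eq]
              group
      exact mul_inv_eq_iff_eq_mul.1 this
    exact (Subgroup.mem_centralizer_singleton_iff.1 (this hcm)).symm
  have habT : ⁅P, P⁆ ⊓ T ≤ scalars ρ :=
    hab _ inferInstance (inf_le_right.trans fun x hx => hx.1) fun x hx y hy => hTcomm x hx.2 y hy.1
  haveI : Group.IsNilpotent P := hs.isNilpotent
  obtain ⟨n, hn⟩ := (Subgroup.nilpotent_iff_lowerCentralSeries (G := P)).1 inferInstance
  have step : ∀ i, 1 ≤ i →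
      ((Subgroup.lowerCentralSeries (⊤ : Subgroup P) (i + 1)).map P.subtype ≤ scalars ρ) →
      (Subgroup.lowerCentralSeries (⊤ : Subgroup P) i).map P.subtype ≤ scalars ρ := by
    intro i hi hle
    refine le_trans (le_inf ?_ ?_) habT
    · rw [← Subgroup.map_subtype_commutator, ← lowerCentralSeries_one]
      exact Subgroup.map_mono (Subgroup.lowerCentralSeries_antitone _ hi)
    · intro y hy
      refine ⟨Subgroup.map_subtype_le _ hy, fun x hx => ?_⟩
      obtain ⟨y', hy', rfl⟩ := hy
      rw [← inv_inv ⁅x, _⁆, commutatorElement_inv]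
      refine (scalars ρ).inv_mem (hle ?_)
      have : ⁅y', (⟨x, hx⟩ : P)⁆ ∈ Subgroup.lowerCentralSeries (⊤ : Subgroup P) (i + 1) := by
        rw [Subgroup.lowerCentralSeries_succ]
        exact Subgroup.commutator_mem_commutator hy' (Subgroup.mem_top _)
      exact ⟨_, this, rfl⟩
  have desc : ∀ j i, 1 ≤ i → n ≤ i + j →
      (Subgroup.lowerCentralSeries (⊤ : Subgroup P) i).map P.subtype ≤ scalars ρ := by
    intro j
    induction j with
    | zero =>
      intro i _ hi
      have : Subgroup.lowerCentralSeries (⊤ : Subgroup P) i = ⊥ :=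
        le_bot_iff.1 (hn ▸ Subgroup.lowerCentralSeries_antitone _ (by omega))
      rw [this]; simp
    | succ j ih =>
      intro i hi hij
      exact step i hi (ih (i + 1) (by omega) (by omega))
  have hcomm : ∀ x ∈ P, ∀ y ∈ P, ⁅x, y⁆ ∈ scalars ρ := fun x hx y hy => by
    refine desc n 1 le_rfl (by omega) ⟨⁅(⟨x, hx⟩ : P), ⟨y, hy⟩⁆, ?_, rfl⟩
    rw [SetLike.mem_coe, lowerCentralSeries_one]
    exact Subgroup.commutator_mem_commutator (Subgroup.mem_top _) (Subgroup.mem_top _)
  refine ⟨hcomm, ?_⟩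
  have hex : ∃ t, ∀ x ∈ P, x ^ (s ^ t) ∈ scalars ρ := by
    obtain ⟨t, ht⟩ := IsPGroup.iff_card.1 hs
    refine ⟨t, fun x hx => ?_⟩
    have : x ^ (s ^ t) = 1 := by
      have h1 := pow_card_eq_one' (G := P) (x := ⟨x, hx⟩)
      rw [ht] at h1
      exact congrArg Subtype.val h1
    rw [this]; exact (scalars ρ).one_mem
  by_cases h2 : Nat.find hex ≤ 1
  · intro x hx
    rcases Nat.le_one_iff_eq_zero_or_eq_one.1 h2 with e | e
    · have := Nat.find_spec hex x hx
      rw [e, pow_zero, pow_one] at this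
      exact (scalars ρ).pow_mem this _
    · have := Nat.find_spec hex x hx
      rwa [e, pow_one] at this
  · exfalso
    obtain ⟨t, ht⟩ : ∃ t, Nat.find hex = t + 2 := ⟨Nat.find hex - 2, by omega⟩
    refine Nat.find_min hex (show t + 1 < Nat.find hex by omega) fun x hx => ?_
    have hspec := ht ▸ Nat.find_spec hex
    set m := s ^ (t + 1) with hm
    set Y : Set Γ := {g | ∃ x ∈ P, g = x ^ m} with hY
    have hYc : ∀ a ∈ Y, ∀ b ∈ Y, a * b = b * a := by
      rintro _ ⟨a, ha, rfl⟩ _ ⟨b, hb, rfl⟩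
      set c := ⁅a, b⁆ with hcd
      have hcc := hc c (hcomm a ha b hb)
      have e : ∀ j : ℕ, a * b ^ j * a⁻¹ = c ^ j * b ^ j := fun j => by
        rw [← conj_pow, show a * b * a⁻¹ = c * b by rw [hcd, commutatorElement_def]; group,
          (hcc b).mul_pow]
      have e' : ∀ i j : ℕ, a ^ i * b ^ j * (a ^ i)⁻¹ = c ^ (j * i) * b ^ j := by
        intro i j
        induction i with
        | zero => simp
        | succ i ih =>
          calc a ^ (i + 1) * b ^ j * (a ^ (i + 1))⁻¹ = a * (a ^ i * b ^ j * (a ^ i)⁻¹) * a⁻¹ := by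
                rw [pow_succ']; group
            _ = c ^ (j * i) * (a * b ^ j * a⁻¹) := by
                rw [ih, ← mul_assoc a, ← ((hcc a).pow_left _).eq]; group
            _ = c ^ (j * (i + 1)) * b ^ j := by rw [e, ← mul_assoc, ← pow_add]; ring_nf
      have hc1 : c ^ (s ^ (t + 2)) = 1 := by
        have h1 := e (s ^ (t + 2))
        rw [← (hc _ (hspec b hb) a).eq, mul_inv_cancel_right] at h1
        exact mul_eq_right.1 h1.symm
      have h1 := e' m m
      have hmm : c ^ (m * m) = 1 := by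
        rw [hm, ← pow_add, show t + 1 + (t + 1) = t + 2 + t by omega, pow_add, pow_mul, hc1, one_pow]
      rw [hmm, one_mul] at h1
      exact mul_inv_eq_iff_eq_mul.1 h1
    have hA : Subgroup.closure Y ≤ scalars ρ := by
      refine hab _ ?_ ?_ ?_
      · refine ⟨fun g hg w => ?_⟩
        induction hg using Subgroup.closure_induction with
        | mem g hg =>
          obtain ⟨x, hx, rfl⟩ := hg
          exact Subgroup.subset_closure ⟨w * x * w⁻¹, hP.conj_mem x hx w, conj_pow.symm⟩
        | one => simp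
        | mul a b _ _ ha hb =>
          rw [show w * (a * b) * w⁻¹ = (w * a * w⁻¹) * (w * b * w⁻¹) by group]
          exact Subgroup.mul_mem _ ha hb
        | inv a _ ha =>
          rw [show w * a⁻¹ * w⁻¹ = (w * a * w⁻¹)⁻¹ by group]
          exact Subgroup.inv_mem _ ha
      · rw [Subgroup.closure_le]
        rintro _ ⟨x, hx, rfl⟩
        exact P.pow_mem hx _
      · letI := Subgroup.isMulCommutative_closure hYc
        intro a ha b hb
        exact congrArg Subtype.val (mul_comm' (⟨a, ha⟩ : Subgroup.closure Y) ⟨b, hb⟩)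
    exact hA (Subgroup.subset_closure ⟨x, hx, rfl⟩)

end Cfsg.Agent.Lib.MinDeg66
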