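import Cfsg.Agent.Lib.MinDeg66.Lifts

/-!
Joint eigenspaces of commuting elements whose order divides `m`.
-/

set_option autoImplicit false

namespace Cfsg.Agent.Lib.MinDeg66

open Module

variable {k V Γ : Type*} [Field k] [AddCommGroup V] [Module k V] [Group Γ]

/-- `ζ ^ c` for `c : ZMod m`. -/
def ev {m : ℕ} (ζ : k) (c : ZMod m) : k := ζ ^ c.val

/-- The joint eigenspace of the `x i` for the eigenvalues `ζ ^ a i`. -/
def wsp {m K : ℕ} (ρ : Representation k Γ V) (ζ : k) (x : Fin K → Γ) (a : Fin K → ZMod m) :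
    Submodule k V :=
  ⨅ i, Module.End.eigenspace (ρ (x i)) (ev ζ (a i))

/-- The projection onto the eigenvectors of `g` with eigenvalue `ζ ^ c`. -/
noncomputable def eproj {m : ℕ} [NeZero m] (ρ : Representation k Γ V) (ζ : k) (g : Γ) (c : ZMod m) :
    Module.End k V :=
  (m : k)⁻¹ • ∑ j : ZMod m, ev ζ (-(c * j)) • ρ (g ^ j.val)

/-- The product of the projections for a list of commuting elements. -/
noncomputable def lproj {m K : ℕ} [NeZero m] (ρ : Representation k Γ V) (ζ : k) (x : Fin K → Γ)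
    (a : Fin K → ZMod m) (l : List (Fin K)) : Module.End k V :=
  (l.map fun i => eproj ρ ζ (x i) (a i)).prod

variable {m K : ℕ} [NeZero m] {ρ : Representation k Γ V} {ζ : k} {x : Fin K → Γ}

theorem mem_wsp {a : Fin K → ZMod m} {v : V} :
    v ∈ wsp ρ ζ x a ↔ ∀ i, ρ (x i) v = ev ζ (a i) • v := by
  simp [wsp, Module.End.mem_eigenspace_iff]

theorem ev_zero : ev ζ (0 : ZMod m) = 1 := by simp [ev]

theorem ev_add (hζ : IsPrimitiveRoot ζ m) (a b : ZMod m) : ev ζ (a + b) = ev ζ a * ev ζ b := by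
  rw [ev, ev, ev, ← pow_add, ZMod.val_add]
  exact (pow_eq_pow_mod _ hζ.pow_eq_one).symm

theorem ev_injective (hζ : IsPrimitiveRoot ζ m) : Function.Injective (ev (m := m) ζ) := fun _ _ h =>
  ZMod.val_injective m (hζ.pow_inj (ZMod.val_lt _) (ZMod.val_lt _) h)

theorem ev_mul_pow (hζ : IsPrimitiveRoot ζ m) (a b : ZMod m) : ev ζ a ^ b.val = ev ζ (a * b) := by
  rw [ev, ev, ← pow_mul, ZMod.val_mul]
  exact pow_eq_pow_mod _ hζ.pow_eq_one

theorem pow_val_add {g : Γ} (hg : g ^ m = 1) (a b : ZMod m) :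
    g ^ (a + b).val = g ^ a.val * g ^ b.val := by
  rw [← pow_add, ZMod.val_add]
  exact (pow_eq_pow_mod _ hg).symm

theorem sum_ev (hζ : IsPrimitiveRoot ζ m) {c : ZMod m} (hc : c ≠ 0) :
    ∑ j : ZMod m, ev ζ (c * j) = 0 := by
  have h : ev ζ c * ∑ j : ZMod m, ev ζ (c * j) = ∑ j : ZMod m, ev ζ (c * j) := by
    rw [Finset.mul_sum]
    refine Fintype.sum_equiv (Equiv.addRight 1) _ _ fun j => ?_
    rw [← ev_add hζ]
    congr 1
    simp [mul_add, add_comm]
  have h1 : ev ζ c ≠ 1 := fun e => hc (ev_injective hζ (e.trans ev_zero.symm))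
  by_contra h0
  exact h1 (mul_right_cancel₀ h0 (h.trans (one_mul _).symm))

theorem pow_apply_of_eigen {g : Γ} {e : k} {v : V} (h : ρ g v = e • v) (n : ℕ) :
    ρ (g ^ n) v = e ^ n • v := by
  induction n with
  | zero => simp
  | succ n ih => rw [pow_succ, map_mul, Module.End.mul_apply, h, map_smul, ih, smul_smul, pow_succ']

theorem eproj_apply {g : Γ} {c : ZMod m} (v : V) :
    eproj ρ ζ g c v = (m : k)⁻¹ • ∑ j : ZMod m, ev ζ (-(c * j)) • ρ (g ^ j.val) v := by
  simp [eproj, LinearMap.sum_apply]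

theorem eproj_of_eigen (hζ : IsPrimitiveRoot ζ m) (hm : (m : k) ≠ 0) {g : Γ} {b c : ZMod m}
    {v : V} (h : ρ g v = ev ζ b • v) : eproj ρ ζ g c v = if b = c then v else 0 := by
  rw [eproj_apply]
  have : ∀ j : ZMod m, ev ζ (-(c * j)) • ρ (g ^ j.val) v = ev ζ ((b - c) * j) • v := fun j => by
    rw [pow_apply_of_eigen h, ev_mul_pow hζ, smul_smul, ← ev_add hζ]
    congr 2
    ring
  simp_rw [this, ← Finset.sum_smul]
  split_ifs with hbc
  · simp [hbc, ev_zero, smul_smul, ZMod.card, inv_mul_cancel₀ hm]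
  · rw [sum_ev hζ (sub_ne_zero.2 hbc)]
    simp

theorem eigen_eproj (hζ : IsPrimitiveRoot ζ m) (hm1 : 1 < m) {g : Γ} (hg : g ^ m = 1) (c : ZMod m)
    (v : V) : ρ g (eproj ρ ζ g c v) = ev ζ c • eproj ρ ζ g c v := by
  rw [eproj_apply, map_smul, smul_comm (ev ζ c), map_sum, Finset.smul_sum (r := ev ζ c)]
  refine congrArg _ ?_
  refine Fintype.sum_equiv (Equiv.addRight (1 : ZMod m)) _ _ fun j => ?_
  have hone : g = g ^ (1 : ZMod m).val := by
    haveI := Fact.mk hm1
    rw [ZMod.val_one, pow_one]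
  rw [map_smul, ← Module.End.mul_apply, ← map_mul, smul_smul]
  nth_rewrite 1 [hone]
  rw [← pow_val_add hg, ← ev_add hζ]
  simp only [Equiv.coe_addRight]
  rw [add_comm (1 : ZMod m) j]
  congr 2
  ring

theorem sum_eproj (hζ : IsPrimitiveRoot ζ m) (hm : (m : k) ≠ 0) (g : Γ) (v : V) :
    ∑ c : ZMod m, eproj ρ ζ g c v = v := by
  simp_rw [eproj_apply]
  rw [← Finset.smul_sum, Finset.sum_comm]
  simp_rw [← Finset.sum_smul]
  rw [Finset.sum_eq_single (0 : ZMod m)]
  · simp [ev_zero, ZMod.card, smul_smul, inv_mul_cancel₀ hm]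
  · intro j _ hj
    rw [show (∑ c : ZMod m, ev ζ (-(c * j))) = ∑ c : ZMod m, ev ζ (-j * c) by
      simp [mul_comm], sum_ev hζ (by simpa using hj)]
    simp
  · simp

theorem commute_eproj {h g : Γ} (hc : Commute h g) (c : ZMod m) (v : V) :
    ρ h (eproj ρ ζ g c v) = eproj ρ ζ g c (ρ h v) := by
  simp only [eproj_apply, map_smul, map_sum]
  refine congrArg _ (Finset.sum_congr rfl fun j _ => ?_)
  rw [← Module.End.mul_apply, ← map_mul, (hc.pow_right _).eq, map_mul, Module.End.mul_apply]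

theorem lproj_eigen (hζ : IsPrimitiveRoot ζ m) (hm : (m : k) ≠ 0) {a b : Fin K → ZMod m} {v : V}
    (h : v ∈ wsp ρ ζ x b) (l : List (Fin K)) :
    lproj ρ ζ x a l v = if ∀ i ∈ l, b i = a i then v else 0 := by
  induction l with
  | nil => simp [lproj]
  | cons i l ih =>
    have : lproj ρ ζ x a (i :: l) v = eproj ρ ζ (x i) (a i) (lproj ρ ζ x a l v) := rfl
    rw [this, ih]
    split_ifs with h1 h2 h2
    · rw [eproj_of_eigen hζ hm (mem_wsp.1 h i), if_pos (h2 i (by simp))]
    · rw [eproj_of_eigen hζ hm (mem_wsp.1 h i), if_neg]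
      exact fun e => h2 fun j hj => (List.mem_cons.1 hj).elim (fun e' => e' ▸ e) (h1 j)
    · exact absurd (fun j hj => h2 j (List.mem_cons_of_mem _ hj)) h1
    · simp

theorem lproj_all (hζ : IsPrimitiveRoot ζ m) (hm : (m : k) ≠ 0) {a b : Fin K → ZMod m} {v : V}
    (h : v ∈ wsp ρ ζ x b) :
    lproj ρ ζ x a (List.finRange K) v = if b = a then v else 0 := by
  rw [lproj_eigen hζ hm h]
  simp [funext_iff]

variable [FiniteDimensional k V]

theorem sum_wsp_le (hζ : IsPrimitiveRoot ζ m) (hm : (m : k) ≠ 0) (O : Finset (Fin K → ZMod m)) :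
    ∑ a ∈ O, finrank k (wsp ρ ζ x a) ≤ finrank k V := by
  classical
  let f : (∀ a : O, wsp ρ ζ x a.1) →ₗ[k] V :=
    ∑ a : O, (wsp ρ ζ x a.1).subtype.comp (LinearMap.proj a)
  have hf : Function.Injective f := by
    rw [← LinearMap.ker_eq_bot, LinearMap.ker_eq_bot']
    intro v hv
    funext b
    have h := congrArg (lproj ρ ζ x b.1 (List.finRange K)) hv
    rw [map_zero] at h
    simp only [f, LinearMap.sum_apply, LinearMap.comp_apply, LinearMap.proj_apply,
      Submodule.subtype_apply, map_sum] at h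
    rw [Finset.sum_eq_single b] at h
    · rw [lproj_all hζ hm (v b).2, if_pos rfl] at h
      exact Subtype.ext (by simpa using h)
    · intro a _ hab
      rw [lproj_all hζ hm (v a).2, if_neg fun e => hab (Subtype.ext e)]
    · simp
  have := LinearMap.finrank_le_finrank_of_injective hf
  rwa [Module.finrank_pi_fintype, Finset.sum_coe_sort O (fun a => finrank k (wsp ρ ζ x a))] at this

theorem fix_add_sum_wsp_le (hζ : IsPrimitiveRoot ζ m) (hm : (m : k) ≠ 0) (i : Fin K)
    (O : Finset (Fin K → ZMod m)) (hO : ∀ a ∈ O, a i ≠ 0) :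
    finrank k (LinearMap.ker (ρ (x i) - 1)) + ∑ a ∈ O, finrank k (wsp ρ ζ x a) ≤ finrank k V := by
  classical
  let f : (LinearMap.ker (ρ (x i) - 1) × (∀ a : O, wsp ρ ζ x a.1)) →ₗ[k] V :=
    (LinearMap.ker (ρ (x i) - 1)).subtype.coprod
      (∑ a : O, (wsp ρ ζ x a.1).subtype.comp (LinearMap.proj a))
  have hf : Function.Injective f := by
    rw [← LinearMap.ker_eq_bot, LinearMap.ker_eq_bot']
    rintro ⟨u, v⟩ hv
    simp only [f, LinearMap.coprod_apply, Submodule.subtype_apply, LinearMap.sum_apply,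
      LinearMap.comp_apply, LinearMap.proj_apply] at hv
    have hu : ρ (x i) (u : V) = ev ζ (0 : ZMod m) • (u : V) := by
      rw [ev_zero, one_smul]
      exact sub_eq_zero.1 (LinearMap.mem_ker.1 u.2)
    have hu0 : (u : V) = 0 := by
      have h := congrArg (eproj ρ ζ (x i) (0 : ZMod m)) hv
      rw [map_add, map_sum, map_zero, eproj_of_eigen hζ hm hu, if_pos rfl,
        Finset.sum_eq_zero (fun a _ => ?_), add_zero] at h
      · exact h
      · rw [eproj_of_eigen hζ hm (mem_wsp.1 (v a).2 i), if_neg (hO a.1 a.2)]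
    rw [hu0, zero_add] at hv
    refine Prod.ext (Subtype.ext hu0) (funext fun b => ?_)
    have h := congrArg (lproj ρ ζ x b.1 (List.finRange K)) hv
    rw [map_zero, map_sum, Finset.sum_eq_single b] at h
    · rw [lproj_all hζ hm (v b).2, if_pos rfl] at h
      exact Subtype.ext (by simpa using h)
    · intro a _ hab
      rw [lproj_all hζ hm (v a).2, if_neg fun e => hab (Subtype.ext e)]
    · simp
  have := LinearMap.finrank_le_finrank_of_injective hf
  rwa [Module.finrank_prod, Module.finrank_pi_fintype,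
    Finset.sum_coe_sort O (fun a => finrank k (wsp ρ ζ x a))] at this

omit [FiniteDimensional k V] in
theorem exists_wsp_of_proj (hζ : IsPrimitiveRoot ζ m) (hm : (m : k) ≠ 0) (hm1 : 1 < m)
    (hx : ∀ i, x i ^ m = 1) (hc : ∀ i j, Commute (x i) (x j)) (f : Module.End k V) (hf : f ≠ 0) :
    ∃ a : Fin K → ZMod m, ∃ v ∈ wsp ρ ζ x a, f v ≠ 0 := by
  classical
  suffices h : ∀ l : List (Fin K), ∃ a : Fin K → ZMod m, ∃ v,
      f v ≠ 0 ∧ ∀ i ∈ l, ρ (x i) v = ev ζ (a i) • v by
    obtain ⟨a, v, hv, hva⟩ := h (List.finRange K)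
    exact ⟨a, v, mem_wsp.2 fun i => hva i (List.mem_finRange i), hv⟩
  intro l
  induction l with
  | nil =>
    obtain ⟨v, hv⟩ : ∃ v, f v ≠ 0 := by
      by_contra hcon
      exact hf (LinearMap.ext fun v => by simpa using not_exists.1 hcon v)
    exact ⟨0, v, hv, by simp⟩
  | cons i l ih =>
    obtain ⟨a, v, hv, hva⟩ := ih
    obtain ⟨c, hc'⟩ : ∃ c, f (eproj ρ ζ (x i) c v) ≠ 0 := by
      by_contra hcon
      refine hv ?_
      rw [← sum_eproj hζ hm (x i) v, map_sum]
      exact Finset.sum_eq_zero fun c _ => by simpa using not_exists.1 hcon c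
    refine ⟨Function.update a i c, _, hc', fun j hj => ?_⟩
    rcases eq_or_ne j i with rfl | hji
    · rw [Function.update_self]
      exact eigen_eproj hζ hm1 (hx j) c v
    · have hjl : j ∈ l := (List.mem_cons.1 hj).resolve_left hji
      rw [Function.update_of_ne hji, commute_eproj (hc j i), hva j hjl, map_smul]

omit [FiniteDimensional k V] in
theorem wsp_move (hζ : IsPrimitiveRoot ζ m) {g : Γ} {τ : Fin K → Fin K} {c : Fin K → ZMod m}
    (h : ∀ j, g⁻¹ * x j * g = x (τ j) ^ (c j).val) {a : Fin K → ZMod m} {v : V}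
    (hv : v ∈ wsp ρ ζ x a) : ρ g v ∈ wsp ρ ζ x (fun j => c j * a (τ j)) := by
  refine mem_wsp.2 fun j => ?_
  have e : x j * g = g * x (τ j) ^ (c j).val := by rw [← h j]; group
  rw [← Module.End.mul_apply, ← map_mul, e, map_mul, Module.End.mul_apply,
    pow_apply_of_eigen (mem_wsp.1 hv (τ j)), ev_mul_pow hζ, map_smul, mul_comm]

theorem finrank_wsp_move (hζ : IsPrimitiveRoot ζ m) {g : Γ} {τ : Fin K → Fin K}
    {c : Fin K → ZMod m} (h : ∀ j, g⁻¹ * x j * g = x (τ j) ^ (c j).val) (a : Fin K → ZMod m) :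
    finrank k (wsp ρ ζ x a) ≤ finrank k (wsp ρ ζ x (fun j => c j * a (τ j))) := by
  let f : wsp ρ ζ x a →ₗ[k] wsp ρ ζ x (fun j => c j * a (τ j)) :=
    ((ρ g).comp (wsp ρ ζ x a).subtype).codRestrict _ fun v => wsp_move hζ h v.2
  refine LinearMap.finrank_le_finrank_of_injective (f := f) fun u v e => Subtype.ext ?_
  have h1 : ρ g u = ρ g v := congrArg Subtype.val e
  have h2 := congrArg (ρ g⁻¹) h1
  rwa [Representation.inv_self_apply, Representation.inv_self_apply] at h2

end Cfsg.Agent.Lib.MinDeg66
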